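import Cfsg.Agent.BenderSuzuki.AlphaDivV

/-!
An element of prime order of `C_D(t)` outside the centraliser of the involutions gives the three possibilities.
-/

set_option autoImplicit false

namespace Cfsg.Lib.BenderSuzuki

open MulAction Cfsg.Lib.RankOne
open scoped _root_.Classical

universe u v

/-- `AlphaStep` from the centraliser step and the degree equation. -/
theorem alpha_of (hc : CentStep.{u, v}) (hd : DegAStep.{u, v}) : AlphaStep.{u, v} := by
  intro G Ω _ _ _ a t Q hs hIH w hw hp hwI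
  obtain ⟨k, hk⟩ := Alpha.exists_gen hs
  obtain ⟨s, hs', hsc⟩ := Alpha.exists_base hs
  have A : WData G Ω a t Q k w (orderOf w) := ⟨hs, hk, hw, rfl, hp, hwI⟩
  have h2 := Alpha.two_le_cent_zGroup hs hw
  obtain ⟨e, he⟩ := Alpha.cent_zGroup_pow_two hs (Subgroup.centralizer {w})
  by_cases h4 : 4 ≤ Nat.card ↥(Alpha.zGroup hs ⊓ Subgroup.centralizer {w})
  · exact A.dich_large hc hIH h4
  have he1 : e = 1 := by
    rw [he] at h2 h4
    rcases e with _ | _ | e
    · omega
    · rfl
    · rw [pow_succ, pow_succ] at h4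
      have := Nat.one_le_two_pow (n := e)
      omega
  rw [Alpha.card_cent_zGroup hs, he1] at he
  have h1 : Nat.card {z // z ∈ invl G a ∧ Commute w z} = 1 := by omega
  haveI := (Nat.card_eq_one_iff_unique.1 h1).1
  have B : SmallData G Ω a t Q k w s (orderOf w) := ⟨A, hs', hsc, fun z hz hwz =>
    congrArg Subtype.val (Subsingleton.elim (⟨z, hz, hwz⟩ : {z // z ∈ invl G a ∧ Commute w z}) ⟨s, hs', hsc w hw⟩)⟩
  obtain ⟨R, d, hR⟩ := B.exists_reg
  by_cases hV : orderOf w ∣ Nat.card (centI Ω a t)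
  · exact B.dich_div hc hIH hV hR
  · exact B.dich_prime hd hV hR

end Cfsg.Lib.BenderSuzuki
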