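import Mathlib

/-!
The arithmetic of the degree equation: there is no solution.
-/

set_option autoImplicit false

namespace Cfsg.Lib.BenderSuzuki.BetaArith

theorem dvd_of_dvd_mul_odd {k : ℕ} {x y : ℤ} (hy : Odd y) (h : (2 : ℤ) ^ k ∣ x * y) : (2 : ℤ) ^ k ∣ x := by
  have hc : IsCoprime (2 : ℤ) y := by
    obtain ⟨m, rfl⟩ := hy
    exact ⟨-m, 1, by ring⟩
  exact hc.pow_left.dvd_of_dvd_mul_right h

theorem dvd_or_of_dvd_consecutive {k : ℕ} {c : ℤ} (h : (2 : ℤ) ^ k ∣ c * (c - 1)) :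
    (2 : ℤ) ^ k ∣ c ∨ (2 : ℤ) ^ k ∣ c - 1 := by
  rcases Int.even_or_odd c with ⟨m, hm⟩ | hc
  · exact Or.inl (dvd_of_dvd_mul_odd ⟨m - 1, by omega⟩ h)
  · exact Or.inr (dvd_of_dvd_mul_odd hc (by rwa [mul_comm]))

/-- `g = 1`. -/
theorem no_one {q o c P T : ℤ} (hq : q ≠ 0) (hc1 : 1 ≤ c) (hc2 : c ≤ 1) (hP1 : 0 ≤ P) (hP2 : P ≤ 1)
    (hne : P + 1 * T ≠ 0) (hne' : P + 1 * T ≠ 1 * o)
    (he : (c - P) * (c - P - 1) * (1 * o) = q * (P + 1 * T) * (1 * o - (P + 1 * T))) : False := by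
  obtain rfl : c = 1 := le_antisymm hc2 hc1
  have h0 : (1 - P) * (1 - P - 1) * (1 * o) = 0 := by
    rcases (show P = 0 ∨ P = 1 by omega) with rfl | rfl <;> ring
  rw [h0] at he
  rcases mul_eq_zero.1 he.symm with h | h
  · rcases mul_eq_zero.1 h with h | h
    · exact hq h
    · exact hne h
  · exact hne' (by linarith)

theorem no_lin_one {k : ℕ} (hk : 1 ≤ k) {q o P T : ℤ} (hq : q = 2 ^ k) (ho : Odd o)
    (hP1 : 0 ≤ P) (hP2 : P ≤ q) (hT2 : T ≤ o - 1) (hne : P + q * T ≠ 0)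
    (he : (1 - P) * (1 - P - 1) * (q * o) = q * (P + q * T) * (q * o - (P + q * T))) : False := by
  have hq0 : (0 : ℤ) < q := by rw [hq]; positivity
  have he' : P * (P - 1) * o = (P + q * T) * (q * o - (P + q * T)) := by
    apply mul_left_cancel₀ hq0.ne'
    linear_combination he
  have h1 : q ∣ P * (P * (o + 1) - o) := by
    refine ⟨(P + q * T) * (o - T) - T * P, ?_⟩
    linear_combination he'
  have hodd : Odd (P * (o + 1) - o) := by
    obtain ⟨m, rfl⟩ := ho
    exact ⟨P * (m + 1) - m - 1, by ring⟩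
  have h2 : q ∣ P := by
    rw [hq] at h1 ⊢
    exact dvd_of_dvd_mul_odd hodd h1
  obtain ⟨j, rfl⟩ := h2
  have hj : j = 0 ∨ j = 1 := by
    have hj0 : 0 ≤ j := by nlinarith
    have hj1 : j ≤ 1 := by nlinarith
    omega
  rcases hj with rfl | rfl
  · have h0 : (q * T) * (q * (o - T)) = 0 := by linear_combination -he'
    rcases mul_eq_zero.1 h0 with h | h
    · exact hne (by linarith)
    · rcases mul_eq_zero.1 h with h | h <;> omega
  · have h3 : (q - 1) * o = q * ((1 + T) * (o - 1 - T)) := by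
      apply mul_left_cancel₀ hq0.ne'
      linear_combination he'
    have h4 : q ∣ (q - 1) * o := ⟨_, h3⟩
    rw [hq] at h4 hq0
    obtain ⟨z, hz⟩ := dvd_of_dvd_mul_odd ho h4
    have h5 : (2 : ℤ) ^ k * (1 - z) = 1 := by linear_combination hz
    have h6 : (2 : ℤ) ∣ 1 := by
      have := dvd_mul_of_dvd_left (dvd_pow_self (2 : ℤ) (Nat.one_le_iff_ne_zero.1 hk)) (1 - z)
      rwa [h5] at this
    omega

/-- `g = q`. -/
theorem no_lin {k : ℕ} (hk : 1 ≤ k) {q o c P T : ℤ} (hq : q = 2 ^ k) (ho : Odd o) (hc1 : 1 ≤ c) (hc2 : c ≤ q)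
    (hcd : q - 1 ∣ c - 1) (hP1 : 0 ≤ P) (hP2 : P ≤ q) (hT1 : 0 ≤ T) (hT2 : T ≤ o - 1)
    (hne : P + q * T ≠ 0) (hne' : P + q * T ≠ q * o)
    (he : (c - P) * (c - P - 1) * (q * o) = q * (P + q * T) * (q * o - (P + q * T))) : False := by
  have hq2 : (2 : ℤ) ≤ q := by
    rw [hq]; exact le_self_pow₀ (by norm_num) (by omega)
  obtain ⟨i, hi⟩ := hcd
  have hi0 : i = 0 ∨ i = 1 := by
    have h0 : 0 ≤ i := by nlinarith
    have h1 : i ≤ 1 := by nlinarith
    omega
  rcases hi0 with rfl | rfl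
  · obtain rfl : c = 1 := by linarith
    exact no_lin_one hk hq ho hP1 hP2 hT2 hne he
  · have hcq : c = q := by linarith
    rw [hcq] at he
    refine no_lin_one hk hq ho (P := q - P) (T := o - 1 - T) (by linarith) (by linarith) (by linarith)
      (fun h => hne' (by linear_combination -h)) ?_
    linear_combination he

theorem dvd_P {k : ℕ} {q o P T : ℤ} (hq : q = 2 ^ k)
    (he : (1 - P) * (1 - P - 1) * (q ^ 2 * o) = q * (P + q ^ 2 * T) * (q ^ 2 * o - (P + q ^ 2 * T))) : q ∣ P := by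
  have hq0 : (0 : ℤ) < q := by rw [hq]; positivity
  have he' : P * (P - 1) * q * o = (P + q ^ 2 * T) * (q ^ 2 * o - (P + q ^ 2 * T)) := by
    apply mul_left_cancel₀ hq0.ne'
    linear_combination he
  obtain ⟨z, hz⟩ : ∃ z, P * (P - 1) * q * o + P * P = q ^ 2 * z :=
    ⟨(P + q ^ 2 * T) * (o - T) - T * P, by linear_combination he'⟩
  rw [hq] at hz ⊢
  suffices h : ∀ i ≤ k, (2 : ℤ) ^ i ∣ P from h k le_rfl
  intro i
  induction i with
  | zero => intro; simp
  | succ i ih =>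
    intro hi
    obtain ⟨u, rfl⟩ := ih (by omega)
    obtain ⟨d, hd⟩ : ∃ d, k = i + (d + 1) := ⟨k - i - 1, by omega⟩
    subst hd
    have hu : (2 : ℤ) ∣ u * u := by
      refine ⟨2 ^ d * 2 ^ d * 2 * z - 2 ^ d * u * (2 ^ i * u - 1) * o, ?_⟩
      apply mul_left_cancel₀ (show (2 : ℤ) ^ i * 2 ^ i ≠ 0 by positivity)
      linear_combination hz
    obtain ⟨w, hw⟩ := (Int.prime_two.dvd_mul.1 hu).elim id id
    exact ⟨w, by rw [hw]; ring⟩

theorem no_cube_one {q o D j T : ℤ} (hq : 4 ≤ q) (ho1 : 1 < o) (hD : 3 * (q - 1) ≤ D) (hj1 : 0 ≤ j) (hj2 : j ≤ q)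
    (hT1 : 0 ≤ T) (hT2 : T ≤ o - 1) (hTD : D ∣ T) (hoD : D ∣ o - 1)
    (hne : j + q * T ≠ 0) (hne' : j + q * T ≠ q * o) (hpow : ∀ x : ℤ, 0 ≤ x → x * (x + 1) ≠ q)
    (he : j * (q * j - 1) * o = (j + q * T) * (q * (o - T) - j)) : False := by
  have hD0 : 0 < D := by linarith
  have ho3 : 3 * (q - 1) ≤ o - 1 := le_trans hD (Int.le_of_dvd (by linarith) hoD)
  by_cases hT0 : T = 0
  · subst hT0
    have hj0 : 1 ≤ j := by
      rcases hj1.eq_or_lt with h | h
      · subst h; exact absurd (by ring : (0 : ℤ) + q * 0 = 0) hne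
      · omega
    have h1 : (q * j - 1) * o = q * o - j := by
      apply mul_left_cancel₀ (show j ≠ 0 by omega)
      linear_combination he
    rcases hj0.eq_or_lt with h | h
    · subst h; nlinarith
    · nlinarith [mul_le_mul_of_nonneg_left (show (2 : ℤ) ≤ j by omega) (show (0 : ℤ) ≤ q by linarith)]
  by_cases hT1' : T = o - 1
  · subst hT1'
    have hjq : j < q := by
      rcases hj2.eq_or_lt with h | h
      · exact absurd (by rw [h]; ring) hne'
      · exact h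
    have h1 : o * (q * (q - j - j * j) + j) = (q - j) * (q - j) := by linear_combination -he
    have h2 : (q - j) * (q - j) ≤ q * q := by nlinarith
    have h3 : 0 < (q - j) * (q - j) := by nlinarith
    rcases lt_trichotomy (q - j - j * j) 0 with h | h | h
    · nlinarith [mul_le_mul_of_nonneg_left (show q - j - j * j ≤ -1 by omega) (show (0 : ℤ) ≤ q by linarith)]
    · exact hpow j hj1 (by linarith)
    · have h4 : q ≤ q * (q - j - j * j) + j := by nlinarith
      nlinarith [mul_le_mul_of_nonneg_left h4 (show (0 : ℤ) ≤ o by linarith)]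
  have hT3 : D ≤ T := Int.le_of_dvd (by omega) hTD
  have hs3 : D ≤ o - 1 - T := Int.le_of_dvd (by omega) (dvd_sub hoD hTD)
  set s := o - 1 - T with hs
  have hl : j * (q * j - 1) * o ≤ q * q * q * o := by
    refine mul_le_mul_of_nonneg_right ?_ (by linarith)
    nlinarith [mul_le_mul hj2 hj2 hj1 (by linarith)]
  have hr : q * T * (q * s) ≤ (j + q * T) * (q * (o - T) - j) := by
    refine mul_le_mul (by linarith) ?_ ?_ (by nlinarith)
    · nlinarith
    · nlinarith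
  have h5 : T * s ≤ q * o := by
    have : q * q * (T * s) ≤ q * q * (q * o) := by nlinarith
    exact le_of_mul_le_mul_left this (by positivity)
  nlinarith [mul_le_mul (show q + 1 ≤ T - q by linarith) (show q + 1 ≤ s - q by linarith) (by linarith) (by linarith)]

theorem no_cube_half {k : ℕ} (hk : 2 ≤ k) {q o D c P T i : ℤ} (hq : q = 2 ^ k) (ho : Odd o) (ho1 : 1 < o)
    (hD : 3 * (q - 1) ≤ D) (hP1 : 0 ≤ P) (hP2 : P ≤ q ^ 2) (hT1 : 0 ≤ T) (hT2 : T ≤ o - 1) (hTD : D ∣ T)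
    (hoD : D ∣ o - 1) (hne : P + q ^ 2 * T ≠ 0) (hne' : P + q ^ 2 * T ≠ q ^ 2 * o) (hP : q ∣ P)
    (hi : i = 0 ∨ i = 1) (hc : c = 1 + (q - 1) * i)
    (he : (c - P) * (c - P - 1) * (q ^ 2 * o) = q * (P + q ^ 2 * T) * (q ^ 2 * o - (P + q ^ 2 * T))) : False := by
  have hq4 : (4 : ℤ) ≤ q := by
    rw [hq]; calc (4 : ℤ) = 2 ^ 2 := by norm_num
      _ ≤ _ := pow_le_pow_right₀ (by norm_num) hk
  have heven : (2 : ℤ) ∣ q := hq ▸ dvd_pow_self 2 (by omega)
  obtain ⟨j, rfl⟩ := hP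
  have hj1 : 0 ≤ j := by nlinarith
  have hj2 : j ≤ q := by nlinarith
  have hne1 : j + q * T ≠ 0 := fun h => hne (by linear_combination q * h)
  have hne2 : j + q * T ≠ q * o := fun h => hne' (by linear_combination q * h)
  have hq0 : q * q ≠ 0 := by positivity
  rcases hi with rfl | rfl
  · obtain rfl : c = 1 := by linarith
    have he1 : j * (q * j - 1) * o = (j + q * T) * (q * (o - T) - j) := by
      apply mul_left_cancel₀ (show q * q * q ≠ 0 by positivity)
      linear_combination he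
    refine no_cube_one hq4 ho1 hD hj1 hj2 hT1 hT2 hTD hoD hne1 hne2 (fun x hx hxq => ?_) he1
    have h : (2 : ℤ) ^ k ∣ x * (x + 1) := ⟨1, by rw [mul_one, hxq, hq]⟩
    have h' : (2 : ℤ) ^ k ∣ (x + 1) * (x + 1 - 1) := by rwa [add_sub_cancel_right, mul_comm]
    rw [← hq] at h'
    rcases hq ▸ dvd_or_of_dvd_consecutive (hq ▸ h') with h1 | h1
    · have := Int.le_of_dvd (by linarith) h1
      nlinarith
    · rw [add_sub_cancel_right] at h1
      rcases hx.eq_or_lt with h2 | h2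
      · subst h2; linarith
      · have := Int.le_of_dvd h2 h1
        nlinarith
  · have hcq : c = q := by linarith
    rw [hcq] at he
    have he1 : (1 - j) * (q - q * j - 1) * o = (j + q * T) * (q * (o - T) - j) := by
      apply mul_left_cancel₀ (show q * q * q ≠ 0 by positivity)
      linear_combination he
    obtain ⟨m, rfl⟩ := heven
    obtain ⟨n, rfl⟩ := ho
    rcases Int.even_or_odd j with ⟨l, rfl⟩ | ⟨l, rfl⟩
    · have hl : Odd ((1 - (l + l)) * (2 * m - 2 * m * (l + l) - 1) * (2 * n + 1)) := by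
        refine ((Odd.mul ?_ ?_).mul ⟨n, rfl⟩)
        · exact ⟨-l, by ring⟩
        · exact ⟨m - m * (l + l) - 1, by ring⟩
      rw [he1] at hl
      exact Int.not_even_iff_odd.2 hl ⟨(l + m * T) * (2 * m * (2 * n + 1 - T) - (l + l)), by ring⟩
    · have hr : Odd ((2 * l + 1 + 2 * m * T) * (2 * m * (2 * n + 1 - T) - (2 * l + 1))) :=
        Odd.mul ⟨l + m * T, by ring⟩ ⟨m * (2 * n + 1 - T) - l - 1, by ring⟩
      rw [← he1] at hr
      exact Int.not_even_iff_odd.2 hr ⟨-l * (2 * m - 2 * m * (2 * l + 1) - 1) * (2 * n + 1), by ring⟩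

/-- `g = q ^ 2`. -/
theorem no_cube {k : ℕ} (hk : 2 ≤ k) {q o D c P T : ℤ} (hq : q = 2 ^ k) (ho : Odd o) (ho1 : 1 < o)
    (hD : 3 * (q - 1) ≤ D) (hc1 : 1 ≤ c) (hc2 : c ≤ q ^ 2) (hcd : q - 1 ∣ c - 1) (hP1 : 0 ≤ P) (hP2 : P ≤ q ^ 2)
    (hT1 : 0 ≤ T) (hT2 : T ≤ o - 1) (hTD : D ∣ T) (hoD : D ∣ o - 1)
    (hne : P + q ^ 2 * T ≠ 0) (hne' : P + q ^ 2 * T ≠ q ^ 2 * o)
    (he : (c - P) * (c - P - 1) * (q ^ 2 * o) = q * (P + q ^ 2 * T) * (q ^ 2 * o - (P + q ^ 2 * T)))
    (halt : c = 1 ∨ c = q ^ 2 ∨ q ∣ P) : False := by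
  have hq4 : (4 : ℤ) ≤ q := by
    rw [hq]; calc (4 : ℤ) = 2 ^ 2 := by norm_num
      _ ≤ _ := pow_le_pow_right₀ (by norm_num) hk
  have hP : q ∣ P := by
    rcases halt with rfl | rfl | h
    · exact dvd_P hq he
    · have : q ∣ q ^ 2 - P := dvd_P hq (T := o - 1 - T) (o := o) (by linear_combination he)
      exact (dvd_sub_right (dvd_pow_self q two_ne_zero)).1 this
    · exact h
  obtain ⟨j, hj⟩ := hP
  obtain ⟨i, hi⟩ := hcd
  have hq0 : q ≠ 0 := by linarith
  have hcc : q ∣ c * (c - 1) * o := by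
    refine ⟨(2 * c - 1) * j * o - q * j * j * o + (j + q * T) * (q * (o - T) - j), ?_⟩
    apply mul_left_cancel₀ (pow_ne_zero 2 hq0)
    subst hj
    linear_combination he
  have hi0 : 0 ≤ i := by nlinarith
  have hi1 : i ≤ q + 1 := by nlinarith
  have hsel : q ∣ i ∨ q ∣ i - 1 := by
    rcases dvd_or_of_dvd_consecutive (dvd_of_dvd_mul_odd ho (hq ▸ hcc)) with h | h
    · rw [← hq] at h
      obtain ⟨z, hz⟩ := h
      exact Or.inr ⟨i - z, by linear_combination hi - hz⟩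
    · rw [← hq] at h
      obtain ⟨z, hz⟩ := h
      exact Or.inl ⟨i - z, by linear_combination hi - hz⟩
  have hcases : (i = 0 ∨ i = 1) ∨ (q + 1 - i = 0 ∨ q + 1 - i = 1) := by
    rcases hsel with ⟨z, hz⟩ | ⟨z, hz⟩
    · have : 0 ≤ z := by nlinarith
      have : z ≤ 1 := by nlinarith
      rcases (show z = 0 ∨ z = 1 by omega) with rfl | rfl
      · left; left; linarith
      · right; right; linarith
    · have : 0 ≤ z := by nlinarith
      have : z ≤ 1 := by nlinarith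
      rcases (show z = 0 ∨ z = 1 by omega) with rfl | rfl
      · left; right; linarith
      · right; left; linarith
  rcases hcases with h | h
  · exact no_cube_half hk hq ho ho1 hD hP1 hP2 hT1 hT2 hTD hoD hne hne' ⟨j, hj⟩ h (by linarith) he
  · refine no_cube_half hk hq ho ho1 hD (c := 1 + q ^ 2 - c) (P := q ^ 2 - P) (T := o - 1 - T) (by linarith)
      (by linarith) (by linarith) (by linarith) (dvd_sub hoD hTD) hoD (fun hh => hne' (by linear_combination -hh))
      (fun hh => hne (by linear_combination -hh)) ((dvd_sub_right (dvd_pow_self q two_ne_zero)).2 ⟨j, hj⟩) h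
      (by linear_combination -hi) ?_
    linear_combination he

end Cfsg.Lib.BenderSuzuki.BetaArith
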