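import Cfsg.Agent.BenderSuzuki.BetaSylow
import Cfsg.Agent.BenderSuzuki.BetaArith

/-!
Every element of prime order of `C_D(t)` centralises the involutions, and some does.
-/

set_option autoImplicit false

namespace Cfsg.Lib.BenderSuzuki

open MulAction Cfsg.Lib.RankOne

universe u v

variable {G : Type u} {Ω : Type v} [Group G] [Finite G] [MulAction G Ω] {a : Ω} {t : G} {Q : Subgroup G}

/-- A Sylow `2`-subgroup of order `q ^ 3` forces case L. -/
theorem caseL_of_cube (hc : CentStep.{u, v}) (hs : Simple G Ω a t Q) (hih : IH.{u, v} (Nat.card G))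
    {S : Subgroup G} {o : ℕ} (hd : SylData hs S o) (hV : centI Ω a t ≠ ⊥) (hsq : ∀ x ∈ S, x * x ∈ zGroup hs)
    (hcom : ∀ x ∈ S, ∀ y ∈ S, x⁻¹ * y⁻¹ * x * y ∈ zGroup hs) (hcard : Nat.card S = qNum G a ^ 3) :
    CaseL a t Q := by
  by_contra hnot
  have hS := hs.setup
  obtain ⟨⟨w, hw⟩, hw1'⟩ := Subgroup.ne_bot_iff_exists_ne_one.1 hV
  have hw1 : w ≠ 1 := fun h => hw1' (Subtype.ext h)
  obtain ⟨hle, -, hnL⟩ := cent_centI hc hs hih hd hw hw1
  obtain ⟨hcardC, c₀, hc₀, c₁, hc₁, hne⟩ := hnL hnot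
  set C := Q ⊓ Subgroup.centralizer {w} with hC
  have hwD := (Subgroup.mem_inf.1 hw).1
  have hodd : Odd (orderOf w) := orderOf_odd_mem hS.odd_card hwD
  have hwC : ∀ x ∈ C, Commute w x := fun x hx =>
    (Subgroup.mem_centralizer_singleton_iff.1 (Subgroup.mem_inf.1 hx).2).symm
  obtain ⟨c, hcC, hc2⟩ : ∃ c ∈ C, c * c ≠ 1 := by
    by_contra h
    push Not at h
    refine hne ?_
    calc c₀ * c₁ = (c₀ * c₁)⁻¹ := (inv_of_sq (h _ (mul_mem hc₀ hc₁))).symm
      _ = _ := by rw [mul_inv_rev, inv_of_sq (h _ hc₀), inv_of_sq (h _ hc₁)]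
  have hcI : c * c ∈ invl G a := ((mem_zGroup hs).1 (hsq c (hle hcC))).resolve_left hc2
  have hsurj : ∀ z ∈ invl G a, ∃ b ∈ C, b * b = z := by
    intro z hz
    obtain ⟨k, hk, rfl⟩ := conj_surj hS hcI hz
    refine ⟨k⁻¹ * c * k, Subgroup.mem_inf.2 ⟨?_, Subgroup.mem_centralizer_singleton_iff.2 ?_⟩, by group⟩
    · have := hS.conj_mem k⁻¹ (inv_mem (Subgroup.mem_inf.1 hk.1).1) c (Subgroup.mem_inf.1 hcC).1
      rwa [inv_inv] at this
    · have h := centI_commute_invK hS hw hk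
      exact (((h.inv_left).mul_left (hwC c hcC).symm).mul_left h).eq
  have hconj : ∀ y ∈ S, w * y * w⁻¹ ∈ S := fun y hy => by
    obtain ⟨j, hj⟩ := hd.exists_pow y hy
    exact hd.mem_of_pow _ (hS.conj_mem w (Subgroup.mem_inf.1 hwD).1 y (hd.le hy)) j
      (by rw [conj_pow, hj, mul_one, mul_inv_cancel])
  obtain ⟨y, hy, hy2⟩ : ∃ y ∈ S, w * y * w⁻¹ * y⁻¹ * (w * y * w⁻¹ * y⁻¹) ≠ 1 := by
    by_contra h
    push Not at h
    have hSC : S ≤ C := fun y hy => by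
      have hz := mem_zGroup_of_sq hs (hd.le (mul_mem (hconj y hy) (inv_mem hy))) (h y hy)
      have h1 := eq_one_of_conj (y := y) hodd (centI_commute_zGroup hs hw hz) (by group) (j := 1)
        (by rw [pow_one, pow_two, h y hy])
      exact Subgroup.mem_inf.2 ⟨hd.le hy, Subgroup.mem_centralizer_singleton_iff.2
        (mul_inv_eq_iff_eq_mul.1 (mul_inv_eq_one.1 h1)).symm⟩
    have := Subgroup.card_le_of_le hSC
    rw [hcard, hcardC] at this
    obtain ⟨k, hk2, hk⟩ := qNum_pow hs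
    exact absurd this (Nat.not_le.2 (Nat.pow_lt_pow_right (hk ▸ Nat.one_lt_two_pow (by omega)) (by norm_num)))
  set x := w * y * w⁻¹ * y⁻¹ with hx
  have hxS : x ∈ S := mul_mem (hconj y hy) (inv_mem hy)
  have hxI : x * x ∈ invl G a := ((mem_zGroup hs).1 (hsq x hxS)).resolve_left hy2
  obtain ⟨b, hb, hbx⟩ := hsurj _ hxI
  have hbw : w * b * w⁻¹ = b := by rw [(hwC b hb).eq, mul_inv_cancel_right]
  have hbc : Commute x b := by
    have h1 := (centI_commute_zGroup hs hw (hcom b (hle hb) y hy)).eq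
    have h2 : b⁻¹ * (w * y * w⁻¹)⁻¹ * b * (w * y * w⁻¹) = b⁻¹ * y⁻¹ * b * y := by
      calc b⁻¹ * (w * y * w⁻¹)⁻¹ * b * (w * y * w⁻¹)
          = (w * b * w⁻¹)⁻¹ * (w * y * w⁻¹)⁻¹ * (w * b * w⁻¹) * (w * y * w⁻¹) := by rw [hbw]
        _ = w * (b⁻¹ * y⁻¹ * b * y) * w⁻¹ := by group
        _ = _ := by rw [h1, mul_inv_cancel_right]
    rw [show w * y * w⁻¹ = x * y by rw [hx]; group] at h2
    show x * b = b * x
    calc x * b = x * y * b * (b⁻¹ * y⁻¹ * b * y) * y⁻¹ := by group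
      _ = x * y * b * (b⁻¹ * (x * y)⁻¹ * b * (x * y)) * y⁻¹ := by rw [h2]
      _ = _ := by group
  have hz : b⁻¹ * x ∈ zGroup hs := by
    refine mem_zGroup_of_sq hs (Q.mul_mem (Q.inv_mem (Subgroup.mem_inf.1 hb).1) (hd.le hxS)) ?_
    calc b⁻¹ * x * (b⁻¹ * x) = b⁻¹ * (x * b⁻¹) * x := by group
      _ = (b * b)⁻¹ * (x * x) := by rw [hbc.inv_right.eq]; group
      _ = 1 := by rw [hbx, inv_mul_cancel]
  have hwx : Commute w x := by
    have h := Commute.mul_right (hwC b hb) (centI_commute_zGroup hs hw hz)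
    rwa [mul_inv_cancel_left] at h
  obtain ⟨j, hj⟩ := hd.exists_pow x hxS
  refine hy2 ?_
  rw [eq_one_of_conj hodd hwx (show w * y * w⁻¹ = x * y by rw [hx]; group) hj, one_mul]

/-- If no nontrivial element centralising the involutions fixes more than the involutions, then `D` acts
fixed point freely on the Sylow `2`-subgroup modulo the involutions. -/
theorem fpf_mod_zGroup (hs : Simple G Ω a t Q)
    (hW : ∀ w ∈ centT Ω a t, (orderOf w).Prime → w ∈ centI Ω a t)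
    (hsq : ∀ x ∈ Q, ∀ j : ℕ, x ^ 2 ^ j = 1 → x * x ∈ zGroup hs)
    (hsmall : ∀ w ∈ centI Ω a t, w ≠ 1 → Nat.card ↥(Q ⊓ Subgroup.centralizer {w}) = qNum G a) :
    ∀ d ∈ twoStab Ω a t, d ≠ 1 → ∀ x ∈ Q, ∀ j : ℕ, x ^ 2 ^ j = 1 →
      d * x * d⁻¹ * x⁻¹ * (d * x * d⁻¹ * x⁻¹) = 1 → x * x = 1 := by
  have hS := hs.setup
  intro d hd hd1 x hx j hj hu
  by_contra hx2
  obtain ⟨p, hp, hpd⟩ := Nat.exists_prime_and_dvd (n := orderOf d) (fun h => hd1 (orderOf_eq_one_iff.1 h))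
  set e := d ^ (orderOf d / p) with he
  have hoe : orderOf e = p := orderOf_pow_orderOf_div (orderOf_pos d).ne' hpd
  have heD : e ∈ twoStab Ω a t := Subgroup.pow_mem _ hd _
  have hzu : d * x * d⁻¹ * x⁻¹ ∈ zGroup hs :=
    mem_zGroup_of_sq hs (Q.mul_mem (hS.conj_mem d (Subgroup.mem_inf.1 hd).1 x hx) (Q.inv_mem hx)) hu
  have hpw : ∀ i : ℕ, d ^ i * x * (d ^ i)⁻¹ * x⁻¹ ∈ zGroup hs := by
    intro i
    induction i with
    | zero => simp
    | succ i ih =>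
      rw [show d ^ (i + 1) * x * (d ^ (i + 1))⁻¹ * x⁻¹ =
        (d ^ i * (d * x * d⁻¹ * x⁻¹) * (d ^ i)⁻¹) * (d ^ i * x * (d ^ i)⁻¹ * x⁻¹) by rw [pow_succ]; group]
      exact mul_mem (zGroup_conj hs hzu ((stabilizer G a).pow_mem (Subgroup.mem_inf.1 hd).1 i)) ih
  have hxe : ∀ i : ℕ, ∃ z ∈ zGroup hs, (x * e) ^ i = x ^ i * z * e ^ i := by
    intro i
    induction i with
    | zero => exact ⟨1, one_mem _, by simp⟩
    | succ i ih =>
      obtain ⟨z, hz, hzi⟩ := ih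
      have hu' : e ^ i * x * (e ^ i)⁻¹ * x⁻¹ ∈ zGroup hs := by rw [he, ← pow_mul]; exact hpw _
      refine ⟨z * (e ^ i * x * (e ^ i)⁻¹ * x⁻¹), mul_mem hz hu', ?_⟩
      calc (x * e) ^ (i + 1) = x ^ i * z * e ^ i * (x * e) := by rw [pow_succ, hzi]
        _ = x ^ i * ((z * (e ^ i * x * (e ^ i)⁻¹ * x⁻¹)) * x) * e ^ (i + 1) := by rw [pow_succ]; group
        _ = x ^ i * (x * (z * (e ^ i * x * (e ^ i)⁻¹ * x⁻¹))) * e ^ (i + 1) := by
          rw [zGroup_comm hs (mul_mem hz hu') hx]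
        _ = _ := by rw [pow_succ]; group
  obtain ⟨z, hz, hzp⟩ := hxe p
  rw [← hoe, pow_orderOf_eq_one, mul_one, hoe] at hzp
  set y := x ^ p * z with hy
  have hyQ : y ∈ Q := Q.mul_mem (Q.pow_mem hx _) (zGroup_le hs hz)
  have hyx : Commute y x :=
    (Commute.pow_left (Commute.refl x) p).mul_left (zGroup_comm hs hz hx)
  have hye : Commute e y := by
    have h1 : Commute y (x * e) := by rw [← hzp]; exact (Commute.refl _).pow_left p
    have h2 := hyx.inv_right.mul_right h1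
    rw [inv_mul_cancel_left] at h2
    exact h2.symm
  have hyy : y * y = x * x := by
    have hpodd : Odd p := hoe ▸ orderOf_odd_mem hS.odd_card heD
    obtain ⟨m, hm⟩ := hpodd
    have h4 : x * x * (x * x) = 1 := involGroup_sq hS hs.two (hsq x hx j hj)
    calc y * y = x ^ p * (z * x ^ p) * z := by rw [hy]; group
      _ = x ^ p * (x ^ p * z) * z := by rw [zGroup_comm hs hz (Q.pow_mem hx _)]
      _ = x ^ p * x ^ p * (z * z) := by group
      _ = (x * x * (x * x)) ^ m * (x * x) := by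
        rw [involGroup_sq hS hs.two hz, mul_one, hm, ← pow_add, ← pow_two, ← pow_mul, ← pow_two, ← pow_mul, ← pow_add]
        congr 1
        ring
      _ = _ := by rw [h4, one_pow, one_mul]
  have hy1 : y ≠ 1 := fun h => hx2 (by rw [← hyy, h, one_mul])
  obtain ⟨w, hw, hw1, hwy⟩ := exists_centI_of_commute hs hW heD
    (fun h => hp.ne_one (by rw [← hoe, h, orderOf_one])) hyQ hy1 hye
  have hC : zGroup hs = Q ⊓ Subgroup.centralizer {w} :=
    Subgroup.eq_of_le_of_card_ge (zGroup_le_cent hs hw) (by rw [card_zGroup hs, hsmall w hw hw1])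
  have hyz : y ∈ zGroup hs :=
    hC.ge (Subgroup.mem_inf.2 ⟨hyQ, Subgroup.mem_centralizer_singleton_iff.2 hwy.symm.eq⟩)
  exact hx2 (by rw [← hyy]; exact involGroup_sq hS hs.two hyz)

theorem beta_of (hdeg : DegBStep.{u, v}) (hc : CentStep.{u, v}) : BetaStep.{u, v} := by
  intro G Ω _ _ _ a t Q hs hih hW hV
  have hS := hs.setup
  obtain ⟨S, o, hd⟩ := exists_sylData hs
  obtain ⟨k, hk2, hk⟩ := qNum_pow hs
  have hq4 : 4 ≤ qNum G a := by
    rw [hk]; exact (show 4 = 2 ^ 2 by norm_num) ▸ Nat.pow_le_pow_right (by norm_num) hk2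
  have hT : centT Ω a t ≠ ⊥ := fun h => hV (le_bot_iff.1 (h ▸ centI_le_centT hS))
  have hfpf : ∀ d ∈ twoStab Ω a t, d ≠ 1 → ∀ x ∈ Q, Odd (orderOf x) → Commute d x → x = 1 := by
    intro d hdD hd1 x hx hodd hcomm
    by_contra hx1
    obtain ⟨w, hw, hw1, hwx⟩ := exists_centI_of_commute hs hW hdD hd1 hx hx1 hcomm
    have hxS := (cent_centI hc hs hih hd hw hw1).1
      (Subgroup.mem_inf.2 ⟨hx, Subgroup.mem_centralizer_singleton_iff.2 hwx.symm.eq⟩)
    obtain ⟨j, hj⟩ := hd.exists_pow x hxS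
    have h := pow_gcd_eq_one.2 ⟨hj, pow_orderOf_eq_one x⟩
    rw [(Nat.coprime_two_left.2 hodd).pow_left j, pow_one] at h
    exact hx1 h
  have hfour : (∀ x ∈ S, x * x ∈ zGroup hs) → ∀ x ∈ Q, ∀ j : ℕ, x ^ 2 ^ j = 1 → x * x * (x * x) = 1 :=
    fun hsq x hx j hj => involGroup_sq hS hs.two (hsq x (hd.mem_of_pow x hx j hj))
  have ho := hd.odd
  have hoZ : Odd (o : ℤ) := by exact_mod_cast ho
  have hkZ : (qNum G a : ℤ) = 2 ^ k := by rw [hk]; push_cast; rfl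
  have hDcard : 3 * ((qNum G a : ℤ) - 1) ≤ Nat.card (twoStab Ω a t) := by
    have h3 : 3 ≤ Nat.card (centT Ω a t) := by
      have hodd : Odd (Nat.card (centT Ω a t)) := hS.odd_card.of_dvd_nat (Subgroup.card_dvd_of_le inf_le_left)
      have hne : Nat.card (centT Ω a t) ≠ 1 := fun h => hT (Subgroup.eq_bot_of_card_eq _ h)
      obtain ⟨m, hm⟩ := hodd
      omega
    have h4 : 3 * (qNum G a - 1) ≤ Nat.card (twoStab Ω a t) := by
      rw [card_twoStab hs]
      exact Nat.mul_le_mul_right _ h3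
    omega
  rcases shape_of_centI hc hs hih hd hV with ⟨hL, hcard, hsq1⟩ | ⟨hsq, hcom, hna, hcard | hcard⟩
  · by_cases ho1 : o = 1
    · exact Or.inl ⟨hL, by rw [hd.card, hcard, ho1, mul_one]⟩
    exfalso
    obtain ⟨c, P, T, hc1, hc2, -, hP1, hP2, -, -, -, -, hne, hne', he, -, -⟩ :=
      hdeg hs hT hfpf (hfour fun x hx => by rw [hsq1 x hx]; exact one_mem _) 1 o ⟨0, rfl⟩ ho
        (by rw [hd.card, hcard, mul_one])
    push_cast at hc2 hP2 hne hne' he
    exact BetaArith.no_one (by omega) hc1 hc2 hP1 hP2 hne hne' he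
  · exfalso
    obtain ⟨c, P, T, hc1, hc2, hcd, hP1, hP2, hT1, hT2, -, -, hne, hne', he, -, -⟩ :=
      hdeg hs hT hfpf (hfour hsq) (qNum G a) o ⟨k, hk⟩ ho (by rw [hd.card, hcard]; ring)
    exact BetaArith.no_lin (by omega) hkZ hoZ hc1 hc2 hcd hP1 hP2 hT1 hT2 hne hne' he
  · have hL : CaseL a t Q := caseL_of_cube hc hs hih hd hV hsq hcom hcard
    by_cases ho1 : o = 1
    · have hn : Nat.card Q = qNum G a ^ 3 := by rw [hd.card, hcard, ho1, mul_one]
      obtain ⟨x, hx, y, hy, hxy⟩ := hna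
      exact Or.inr (Or.inr ⟨hL, hn, ⟨x, hd.le hx, y, hd.le hy, hxy⟩, hV⟩)
    exfalso
    obtain ⟨c, P, T, hc1, hc2, hcd, hP1, hP2, hT1, hT2, hTD, hoD, hne, hne', he, hfix, hnd⟩ :=
      hdeg hs hT hfpf (hfour hsq) (qNum G a ^ 2) o ⟨k * 2, by rw [hk, pow_mul]⟩ ho
        (by rw [hd.card, hcard]; ring)
    have halt : c = 1 ∨ c = (qNum G a : ℤ) ^ 2 ∨ (qNum G a : ℤ) ∣ P := by
      by_cases hbig : ∃ w ∈ centI Ω a t, w ≠ 1 ∧ Nat.card ↥(Q ⊓ Subgroup.centralizer {w}) ≠ qNum G a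
      · obtain ⟨w, hw, hw1, hwq⟩ := hbig
        obtain ⟨hle, hLc, -⟩ := cent_centI hc hs hih hd hw hw1
        obtain ⟨h1, -, h3⟩ := (hLc hL).resolve_left hwq
        have e : Q ⊓ Subgroup.centralizer {w} = S := Subgroup.eq_of_le_of_card_ge hle (by rw [hcard, h1])
        refine Or.inr (Or.inr (hnd (fun x hx j hj hx2 z hz => ?_) rfl))
        obtain ⟨y, hy, hyz⟩ := h3 x (e.ge (hd.mem_of_pow x hx j hj)) hx2 z hz
        exact ⟨y, (Subgroup.mem_inf.1 hy).1, hyz⟩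
      · push Not at hbig
        push_cast at hfix
        rcases hfix (fpf_mod_zGroup hs hW (fun x hx j hj => hsq x (hd.mem_of_pow x hx j hj))
          hbig) with h | h
        · exact Or.inl h
        · exact Or.inr (Or.inl h)
    push_cast at hc2 hP2 hne hne' he
    exact BetaArith.no_cube hk2 hkZ hoZ (by obtain ⟨m, rfl⟩ := ho; omega) hDcard hc1 hc2 hcd hP1 hP2 hT1 hT2 hTD hoD
      hne hne' he halt

end Cfsg.Lib.BenderSuzuki
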