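import Cfsg.Agent.BenderSuzuki.DegreeFix

/-!
The degree equation when `Q` is commutative.
-/

set_option autoImplicit false
set_option linter.unusedSectionVars false

namespace Cfsg.Lib.BenderSuzuki.Degree

open MulAction Cfsg.Lib.RankOne Cfsg.Lib.Chars

universe u v

variable {G : Type u} {Ω : Type v} [Group G] [Fintype G] [MulAction G Ω] {a : Ω} {t : G} {Q : Subgroup G}
  [Fintype Q] [Fintype (twoStab Ω a t)]

theorem deg_eq_one (hcomm : ∀ x ∈ Q, ∀ y ∈ Q, x * y = y * x) (μ : Cfsg.IrrCharacter Q) :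
    (μ : Q → ℂ) 1 = 1 ∧ deg (μ : Q → ℂ) = 1 := by
  have h := irr_deg_one_of_comm (fun x y : Q => Subtype.ext (hcomm x x.2 y y.2)) μ.2
  refine ⟨h, ?_⟩
  unfold deg
  rw [h]
  simp

/-- The elements outside `K` are conjugate into `C_D(t)`. -/
theorem conj_into_cent (hs : Simple G Ω a t Q) {w : G} (hwp : (orderOf w).Prime)
    (hW : centT Ω a t = Subgroup.zpowers w) (hKw : ∀ k ∈ invK Ω a t, Commute k w → k = 1)
    {d : G} (hd : d ∈ twoStab Ω a t) (hdK : d ∉ invK Ω a t) :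
    ∃ k ∈ invK Ω a t, ∃ i : ℤ, w ^ i ≠ 1 ∧ d = k * w ^ i * k⁻¹ := by
  classical
  have hS := hs.setup
  obtain ⟨C, hC, -, hCn⟩ := inverted_subgroup hS hs.two
  obtain ⟨⟨y, z⟩, ⟨hy, hz, e⟩, -⟩ := factor hS.mul_self hS.odd_card (fun x hx => conj_D hS hx) hd
  simp only at hy hz e
  have hy' : y ∈ Subgroup.zpowers w := hW ▸ hy
  obtain ⟨i, rfl⟩ := Subgroup.mem_zpowers_iff.1 hy'
  have hi : w ^ i ≠ 1 := fun h => hdK (by rw [e, h, one_mul]; exact hz)
  have hzC : z ∈ C := by rw [← SetLike.mem_coe, hC]; exact hz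
  have hyD : w ^ i ∈ twoStab Ω a t := (Subgroup.mem_inf.1 hy).1
  have hgen : w ∈ Subgroup.zpowers (w ^ i) := by
    have : Fact (orderOf w).Prime := ⟨hwp⟩
    have h := zpowers_eq_top_of_prime_card (G := Subgroup.zpowers w) (p := orderOf w) (Nat.card_zpowers w)
      (g := ⟨w ^ i, hy'⟩) (fun h => hi (congrArg Subtype.val h))
    have hm : (⟨w, Subgroup.mem_zpowers w⟩ : Subgroup.zpowers w) ∈ Subgroup.zpowers (⟨w ^ i, hy'⟩ : Subgroup.zpowers w) :=
      h ▸ Subgroup.mem_top _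
    obtain ⟨j, hj⟩ := Subgroup.mem_zpowers_iff.1 hm
    exact Subgroup.mem_zpowers_iff.2 ⟨j, congrArg Subtype.val hj⟩
  have hcom : ∀ k ∈ C, Commute k (w ^ i) → k = 1 := fun k hk hc => by
    refine hKw k (by rwa [← SetLike.mem_coe, hC] at hk) ?_
    obtain ⟨j, hj⟩ := Subgroup.mem_zpowers_iff.1 hgen
    rw [← hj]
    exact hc.zpow_right j
  let T : C → C := fun k => ⟨(w ^ i)⁻¹ * k * w ^ i * (k : G)⁻¹, C.mul_mem (by
    have := hCn _ (inv_mem hyD) k k.2
    rwa [inv_inv] at this) (C.inv_mem k.2)⟩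
  have hT : Function.Injective T := by
    intro k l h
    have h' : (w ^ i)⁻¹ * k * w ^ i * (k : G)⁻¹ = (w ^ i)⁻¹ * l * w ^ i * (l : G)⁻¹ := congrArg Subtype.val h
    have hc : Commute ((l : G)⁻¹ * k) (w ^ i) := by
      show (l : G)⁻¹ * k * w ^ i = w ^ i * ((l : G)⁻¹ * k)
      calc (l : G)⁻¹ * k * w ^ i = (l : G)⁻¹ * w ^ i * ((w ^ i)⁻¹ * k * w ^ i * (k : G)⁻¹) * k := by group
        _ = (l : G)⁻¹ * w ^ i * ((w ^ i)⁻¹ * l * w ^ i * (l : G)⁻¹) * k := by rw [h']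
        _ = _ := by group
    exact Subtype.ext (inv_mul_eq_one.1 (hcom _ (mul_mem (inv_mem l.2) k.2) hc)).symm
  obtain ⟨k, hk⟩ := Finite.injective_iff_surjective.1 hT ⟨z, hzC⟩
  refine ⟨k, show (k : G) ∈ Cfsg.invertedBy (twoStab Ω a t) t by rw [← hC]; exact k.2, i, hi, ?_⟩
  rw [e, show z = (w ^ i)⁻¹ * k * w ^ i * (k : G)⁻¹ from (congrArg Subtype.val hk).symm]
  group

/-- Few nonprincipal characters have nontrivial stabilisers. -/
theorem card_not_free_le (hs : Simple G Ω a t Q) (hcomm : ∀ x ∈ Q, ∀ y ∈ Q, x * y = y * x) {w : G}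
    (hwp : (orderOf w).Prime) (hW : centT Ω a t = Subgroup.zpowers w)
    (hKw : ∀ k ∈ invK Ω a t, Commute k w → k = 1) :
    Nat.card {μ : Cfsg.IrrCharacter Q // μ ≠ principal Q ∧ ¬ Free hs.setup μ} ≤
      (qNum G a - 1) * (Nat.card ↥(Q ⊓ Subgroup.centralizer {w}) - 1) := by
  classical
  have hS := hs.setup
  obtain ⟨C, hC, -, -⟩ := inverted_subgroup hS hs.two
  have hwD : w ∈ twoStab Ω a t := (Subgroup.mem_inf.1 (hW ▸ Subgroup.mem_zpowers w)).1
  set W : twoStab Ω a t := ⟨w, hwD⟩ with hWdef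
  -- the fixed characters
  have hn0 : Nat.card {μ : Cfsg.IrrCharacter Q // tw hS W μ = μ} = Nat.card ↥(Q ⊓ Subgroup.centralizer {w}) := by
    rw [card_fixed_tw hS W]
    have hc : ∀ {x y : Q}, IsConj x y → x = y := fun {x y} h => by
      obtain ⟨g, hg⟩ := isConj_iff.1 h
      rw [← hg]
      exact Subtype.ext (by
        show (x : G) = g * x * (g : G)⁻¹
        rw [hcomm g g.2 x x.2, mul_inv_cancel_right])
    refine (Nat.card_eq_of_bijective (fun x : ↥(Q ⊓ Subgroup.centralizer {w}) =>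
      (⟨ConjClasses.mk ⟨x.1, (Subgroup.mem_inf.1 x.2).1⟩, ?_⟩ :
        {C : ConjClasses Q // ConjClasses.map (cj hS W).toMonoidHom C = C})) ⟨?_, ?_⟩).symm
    · show ConjClasses.mk (cj hS W _) = _
      refine congrArg _ (Subtype.ext ?_)
      show w * (x : G) * w⁻¹ = x
      rw [← Subgroup.mem_centralizer_singleton_iff.1 (Subgroup.mem_inf.1 x.2).2, mul_inv_cancel_right]
    · intro x y h
      exact Subtype.ext (congrArg (fun z : Q => (z : G)) (hc (ConjClasses.mk_eq_mk_iff_isConj.1 (congrArg Subtype.val h))))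
    · rintro ⟨C, hC⟩
      obtain ⟨x, rfl⟩ := ConjClasses.exists_rep C
      have hx : cj hS W x = x := hc (ConjClasses.mk_eq_mk_iff_isConj.1 hC)
      refine ⟨⟨x, Subgroup.mem_inf.2 ⟨x.2, Subgroup.mem_centralizer_singleton_iff.2 ?_⟩⟩, rfl⟩
      exact (mul_inv_eq_iff_eq_mul.1 (congrArg Subtype.val hx : w * (x : G) * w⁻¹ = x)).symm
  have hfix0 : tw hS W (principal Q) = principal Q := Subtype.ext rfl
  have hn1 : Nat.card {μ : Cfsg.IrrCharacter Q // tw hS W μ = μ ∧ μ ≠ principal Q} =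
      Nat.card ↥(Q ⊓ Subgroup.centralizer {w}) - 1 := by
    rw [← hn0, Nat.card_eq_fintype_card, Nat.card_eq_fintype_card, Fintype.card_subtype, Fintype.card_subtype]
    rw [← Finset.card_erase_of_mem (show principal Q ∈ Finset.univ.filter (fun μ => tw hS W μ = μ) by
      simp [hfix0])]
    congr 1
    ext μ
    simp [and_comm]
  rw [← card_invK hs, ← hn1, ← Nat.card_prod]
  have key : ∀ μ : {μ : Cfsg.IrrCharacter Q // μ ≠ principal Q ∧ ¬ Free hS μ},
      ∃ p : invK Ω a t × {μ : Cfsg.IrrCharacter Q // tw hS W μ = μ ∧ μ ≠ principal Q},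
        ∃ h : ((p.1 : G)) ∈ twoStab Ω a t, tw hS ⟨p.1, h⟩⁻¹ p.2.1 = μ.1 := by
    rintro ⟨μ, hμ, hnf⟩
    obtain ⟨d, hd, hd1⟩ : ∃ d, tw hS d μ = μ ∧ d ≠ 1 := by
      unfold Free at hnf
      push Not at hnf
      exact hnf
    have hdK : (d : G) ∉ invK Ω a t := by
      intro hK
      refine hμ (eq_principal_of_fpf hS (deg_eq_one hcomm μ).1 hd fun x hx => ?_)
      have hm : (x : G) ∈ Q ⊓ Subgroup.centralizer {(d : G)} := Subgroup.mem_inf.2 ⟨x.2,
        Subgroup.mem_centralizer_singleton_iff.2 (mul_inv_eq_iff_eq_mul.1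
          (congrArg Subtype.val hx : (d : G) * x * (d : G)⁻¹ = x)).symm⟩
      rw [cent_inverted hS hK (fun h => hd1 (Subtype.ext h)), Subgroup.mem_bot] at hm
      exact Subtype.ext hm
    obtain ⟨k, hk, i, hi, e⟩ := conj_into_cent hs hwp hW hKw d.2 hdK
    set K : twoStab Ω a t := ⟨k, hk.1⟩
    set V : twoStab Ω a t := W ^ i with hV
    have hVG : (V : G) = w ^ i := by rw [hV, Subgroup.coe_zpow]
    have hdV : d = K * V * K⁻¹ := Subtype.ext (by
      show (d : G) = k * (V : G) * k⁻¹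
      rw [hVG, e])
    have hfixV : tw hS V (tw hS K μ) = tw hS K μ := by
      rw [tw_tw, show K * V = d * K by rw [hdV]; group, ← tw_tw, hd]
    obtain ⟨j, hj⟩ : ∃ j : ℕ, V ^ j = W := by
      have : Fact (orderOf w).Prime := ⟨hwp⟩
      have h := zpowers_eq_top_of_prime_card (G := Subgroup.zpowers W) (p := orderOf w)
        (by rw [Nat.card_zpowers, hWdef, Subgroup.orderOf_mk])
        (g := ⟨V, Subgroup.mem_zpowers_iff.2 ⟨i, rfl⟩⟩)
        (fun h => hi (by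
          rw [← hVG, show V = 1 from congrArg Subtype.val h]
          rfl))
      have hm : (⟨W, Subgroup.mem_zpowers W⟩ : Subgroup.zpowers W) ∈
          Subgroup.zpowers (⟨V, Subgroup.mem_zpowers_iff.2 ⟨i, rfl⟩⟩ : Subgroup.zpowers W) := h ▸ Subgroup.mem_top _
      obtain ⟨j, hj⟩ := mem_powers_iff_mem_zpowers.2 hm
      exact ⟨j, congrArg Subtype.val hj⟩
    refine ⟨(⟨k, hk⟩, ⟨tw hS K μ, hj ▸ tw_pow hS hfixV j, fun h => hμ ?_⟩), hk.1, ?_⟩
    · rw [show μ = tw hS K⁻¹ (tw hS K μ) by rw [tw_tw, mul_inv_cancel, tw_one], h]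
      exact Subtype.ext rfl
    · show tw hS K⁻¹ (tw hS K μ) = μ
      rw [tw_tw, mul_inv_cancel, tw_one]
  choose p hp hp' using key
  refine Nat.card_le_card_of_injective p fun μ ν h => Subtype.ext ?_
  rw [← hp' μ, ← hp' ν]
  have key2 : ∀ b c : invK Ω a t × {μ : Cfsg.IrrCharacter Q // tw hS W μ = μ ∧ μ ≠ principal Q}, b = c →
      ∀ hb hc, tw hS ⟨(b.1 : G), hb⟩⁻¹ b.2.1 = tw hS ⟨(c.1 : G), hc⟩⁻¹ c.2.1 := by
    rintro b c rfl hb hc
    rfl
  exact key2 _ _ h _ _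

theorem degA_eq (hs : Simple G Ω a t Q) (hcomm : ∀ x ∈ Q, ∀ y ∈ Q, x * y = y * x) {w : G}
    (hwp : (orderOf w).Prime) (hW : centT Ω a t = Subgroup.zpowers w)
    (hKw : ∀ k ∈ invK Ω a t, Commute k w → k = 1) {m : ℕ} (hcard : Nat.card Q = qNum G a * m) :
    ∃ A e : ℤ, 1 ≤ e ∧ e < Nat.card ↥(Q ⊓ Subgroup.centralizer {w}) ∧
      A * (A - 1) * m = (qNum G a : ℤ) * e * (m - e) := by
  classical
  have hS := hs.setup
  have hWne : centT Ω a t ≠ ⊥ := by
    rw [hW, Ne, Subgroup.zpowers_eq_bot]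
    intro h
    rw [h, orderOf_one] at hwp
    exact Nat.not_prime_one hwp
  have hD := twoStab_ne_bot hWne
  obtain ⟨f₀, g₀, hp₀⟩ := exists_pair hs hWne
  -- choose the constituent without free characters
  obtain ⟨f, g, hp, hzero⟩ : ∃ f g, IsPair a Q f g ∧ ∀ μ : Cfsg.IrrCharacter Q, Free hS μ → mult Q f μ = 0 := by
    by_cases h : ∀ μ : Cfsg.IrrCharacter Q, Free hS μ → mult Q f₀ μ = 0
    · exact ⟨f₀, g₀, hp₀, h⟩
    push Not at h
    obtain ⟨ν, hν, hν0⟩ := h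
    refine ⟨g₀, f₀, hp₀.symm, fun μ hμ => ?_⟩
    have h1 := mult_eq_of_free hS hD hp₀ hμ hν (by rw [(deg_eq_one hcomm μ).2, (deg_eq_one hcomm ν).2])
    have h2 := hp₀.mult_add (hμ.ne_principal hD)
    rw [(deg_eq_one hcomm μ).2] at h2
    omega
  have hfc := isCharacter_of_irr hp.irr₁
  obtain ⟨A, e, hA, hf1, hAe, he0⟩ := exists_value hs hfc (by rw [hp.mult_principal]; exact one_ne_zero)
  obtain ⟨u, hu⟩ := exists_invol hS
  obtain ⟨hne0, -, heq⟩ := hp.equation hs hu (hA u hu) hcard hf1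
  refine ⟨A, e, by omega, ?_, heq⟩
  -- the degree is small
  have hsum : f 1 = ((∑ μ : Cfsg.IrrCharacter Q, mult Q f μ : ℕ) : ℂ) := by
    have h := mult_expand (Q := Q) hfc 1
    rw [OneMemClass.coe_one] at h
    rw [h, Nat.cast_sum]
    refine Finset.sum_congr rfl fun μ _ => ?_
    rw [(deg_eq_one hcomm μ).1, mul_one]
  set B := {μ : Cfsg.IrrCharacter Q // μ ≠ principal Q ∧ ¬ Free hS μ}
  have hle : ∑ μ : Cfsg.IrrCharacter Q, mult Q f μ ≤ 1 + Nat.card B := by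
    rw [← Finset.add_sum_erase _ _ (Finset.mem_univ (principal Q)), hp.mult_principal]
    refine Nat.add_le_add_left ?_ 1
    rw [Nat.card_eq_fintype_card, Fintype.card_subtype, Finset.card_eq_sum_ones]
    refine le_trans (le_of_eq (Finset.sum_filter_of_ne (p := fun μ => ¬ Free hS μ) fun μ _ h hf => h (hzero μ hf)).symm) ?_
    refine le_trans (Finset.sum_le_sum fun μ _ => (hp.mult_le μ).trans (le_of_eq (deg_eq_one hcomm μ).2)) ?_
    refine Finset.sum_le_sum_of_subset fun μ hμ => ?_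
    simp only [Finset.mem_filter, Finset.mem_erase, Finset.mem_univ, and_true, true_and] at hμ ⊢
    exact hμ
  have hB := card_not_free_le hs hcomm hwp hW hKw
  have hq := two_le_qNum hs
  rw [hsum] at hf1
  have e1 : ((∑ μ : Cfsg.IrrCharacter Q, mult Q f μ : ℕ) : ℤ) = A + (qNum G a : ℤ) * e := by exact_mod_cast hf1
  set n₀ := Nat.card ↥(Q ⊓ Subgroup.centralizer {w})
  have hn0 : 1 ≤ n₀ := Nat.card_pos
  have e2 : A + (qNum G a : ℤ) * e ≤ 1 + ((qNum G a : ℤ) - 1) * ((n₀ : ℤ) - 1) := by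
    rw [← e1]
    have h3 := Nat.le_trans hle (Nat.add_le_add_left hB 1)
    zify [hn0, show 1 ≤ qNum G a by omega] at h3
    push_cast
    exact h3
  have e3 : ((qNum G a : ℤ) - 1) * e ≤ ((qNum G a : ℤ) - 1) * ((n₀ : ℤ) - 1) := by linarith
  have e4 := le_of_mul_le_mul_left e3 (by omega)
  omega

end Cfsg.Lib.BenderSuzuki.Degree

namespace Cfsg.Lib.BenderSuzuki

universe u v

/-- The degree equation for commutative `Q`. -/
theorem degA : DegAStep.{u, v} := by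
  intro G Ω _ _ _ a t Q hs hcomm w hwp hW hKw m hcard
  classical
  have := Fintype.ofFinite G
  exact Degree.degA_eq hs hcomm hwp hW hKw hcard

end Cfsg.Lib.BenderSuzuki
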