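import Cfsg.Agent.BenderSuzuki.DegreeSplit

/-!
The degree equation when `D` acts without fixed points on the odd part of `Q`.
-/

set_option autoImplicit false
set_option linter.unusedSectionVars false

namespace Cfsg.Lib.BenderSuzuki.Degree

open MulAction Cfsg.Lib.RankOne Cfsg.Lib.Chars

universe u v

variable {G : Type u} {Ω : Type v} [Group G] [Fintype G] [MulAction G Ω] {a : Ω} {t : G} {Q : Subgroup G}

theorem zGroup_isPGroup (hs : Simple G Ω a t Q) : IsPGroup 2 (zGroup hs) := fun z =>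
  ⟨1, by rw [pow_one, pow_two]; exact Subtype.ext (involGroup_sq hs.setup hs.two z.2)⟩

/-- `Z` inside the 2-part. -/
def zS (hs : Simple G Ω a t Q) (P : Split Q) : Subgroup P.S :=
  (zGroup hs).comap (Q.subtype.comp P.S.subtype)

theorem mem_zS {hs : Simple G Ω a t Q} {P : Split Q} {s : P.S} :
    s ∈ zS hs P ↔ ((s : Q) : G) ∈ zGroup hs := Iff.rfl

theorem zS_cases {hs : Simple G Ω a t Q} {P : Split Q} {s : P.S} (h : s ∈ zS hs P) :
    s = 1 ∨ ((s : Q) : G) ∈ invl G a :=
  (mem_zS.1 h).imp (fun e => Subtype.ext (Subtype.ext e)) id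

theorem zS_central (hs : Simple G Ω a t Q) (P : Split Q)
    (hsq : ∀ x ∈ Q, ∀ j : ℕ, x ^ 2 ^ j = 1 → x * x * (x * x) = 1) : CentralSquares (zS hs P) where
  central z hz x := by
    rcases zS_cases hz with rfl | hz'
    · simp
    · exact Subtype.ext (Subtype.ext ((invol_central hs.setup hs.two hz').2 _ (x : Q).2))
  invol z hz := Subtype.ext (Subtype.ext (involGroup_sq hs.setup hs.two hz))
  squares x := by
    obtain ⟨j, hj⟩ := P.two x
    have hj' : ((x : Q) : G) ^ 2 ^ j = 1 := congrArg (fun y : P.S => ((y : Q) : G)) hj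
    have h4 := hsq _ (x : Q).2 j hj'
    by_cases h1 : ((x : Q) : G) * (x : Q) = 1
    · exact Or.inl h1
    · exact Or.inr ⟨(stabilizer G a).mul_mem (hs.setup.le (x : Q).2) (hs.setup.le (x : Q).2), h1, h4⟩

theorem card_zS (hs : Simple G Ω a t Q) (P : Split Q) : Nat.card (zS hs P) = qNum G a := by
  rw [← card_zGroup hs]
  refine Nat.card_eq_of_bijective (fun z => ⟨((z.1 : Q) : G), z.2⟩)
    ⟨fun x y h => Subtype.ext (Subtype.ext (Subtype.ext (congrArg (fun w : zGroup hs => (w : G)) h))), fun z => ?_⟩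
  have hz2 : (⟨(z : G), zGroup_le hs z.2⟩ : Q) ^ 2 ^ 1 = 1 :=
    Subtype.ext (by
      show (z : G) ^ 2 ^ 1 = 1
      rw [pow_one, pow_two]
      exact involGroup_sq hs.setup hs.two z.2)
  exact ⟨⟨⟨_, P.memS _ 1 hz2⟩, z.2⟩, rfl⟩

theorem split_cards (hs : Simple G Ω a t Q) (P : Split Q) {g o : ℕ} (hg : ∃ j : ℕ, g = 2 ^ j) (ho : Odd o)
    (hcard : Nat.card Q = qNum G a * g * o) :
    Nat.card P.S = qNum G a * g ∧ Nat.card P.O = o ∧ (zS hs P).index = g := by
  classical
  have := Fintype.ofFinite Q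
  have := Fintype.ofFinite P.S
  have := Fintype.ofFinite P.O
  have : Fact (Nat.Prime 2) := ⟨Nat.prime_two⟩
  obtain ⟨i, hi⟩ := IsPGroup.iff_card.1 (zGroup_isPGroup hs)
  rw [card_zGroup hs] at hi
  obtain ⟨j, rfl⟩ := hg
  obtain ⟨k, hk⟩ := IsPGroup.iff_card.1 P.two
  have hPc := P.card
  rw [hcard, hi, ← pow_add, hk] at hPc
  have h1 : Nat.card P.S = qNum G a * 2 ^ j := by
    rw [hk, hi, ← pow_add]
    exact Nat.dvd_antisymm (((Nat.Coprime.pow_left k ho.coprime_two_left)).dvd_of_dvd_mul_right (hPc ▸ dvd_mul_right _ _))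
      (((Nat.Coprime.pow_left (i + j) P.odd.coprime_two_left)).dvd_of_dvd_mul_right (hPc ▸ dvd_mul_right _ _))
  have hq : 0 < qNum G a := by have := two_le_qNum hs; omega
  refine ⟨h1, ?_, ?_⟩
  · rw [hk] at h1
    rw [h1, hi, ← pow_add] at hPc
    exact (Nat.eq_of_mul_eq_mul_left (by positivity) hPc).symm
  · have := (zS hs P).card_mul_index
    rw [card_zS, h1] at this
    exact Nat.eq_of_mul_eq_mul_left hq this

variable [Fintype Q] [Fintype (twoStab Ω a t)]

/-- The automorphism of the 2-part induced by an element of `D`. -/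
abbrev sTw (hS : Cfsg.IsRankOneSetup G Ω a t Q) (P : Split Q) (d : twoStab Ω a t) : P.S ≃* P.S :=
  P.onS (cj hS d)

/-- The automorphism of the odd part induced by an element of `D`. -/
abbrev oTw (hS : Cfsg.IsRankOneSetup G Ω a t Q) (P : Split Q) (d : twoStab Ω a t) : P.O ≃* P.O :=
  P.onO (cj hS d)

theorem sTw_mem (hs : Simple G Ω a t Q) (P : Split Q) (d : twoStab Ω a t) {s : P.S} (h : s ∈ zS hs P) :
    sTw hs.setup P d s ∈ zS hs P := by
  rcases zS_cases h with rfl | h'
  · rw [map_one]; exact one_mem _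
  · exact Or.inr (conj_invol hs.setup (Subgroup.mem_inf.1 d.2).1 h')

theorem Triv.twG {hs : Simple G Ω a t Q} {P : Split Q} [Fintype P.S] (d : twoStab Ω a t)
    {l : Cfsg.IrrCharacter P.S} (h : Triv (zS hs P) l) :
    Triv (zS hs P) (Degree.twG (sTw hs.setup P d) l) := fun z hz => by
  rw [twG_apply, twG_apply, map_one]
  exact h _ (sTw_mem hs P d hz)

theorem twG_principal {K : Type u} [Group K] [Fintype K] (φ : K ≃* K) : twG φ (principal K) = principal K :=
  Subtype.ext rfl

theorem degB_eq (hs : Simple G Ω a t Q) (hW : centT Ω a t ≠ ⊥)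
    (hO : ∀ d ∈ twoStab Ω a t, d ≠ 1 → ∀ x ∈ Q, Odd (orderOf x) → Commute d x → x = 1)
    (hsq : ∀ x ∈ Q, ∀ j : ℕ, x ^ 2 ^ j = 1 → x * x * (x * x) = 1)
    {g o : ℕ} (hg : ∃ j : ℕ, g = 2 ^ j) (ho : Odd o) (hcard : Nat.card Q = qNum G a * g * o) :
    ∃ c P T : ℤ, 1 ≤ c ∧ c ≤ g ∧ ((qNum G a : ℤ) - 1 ∣ c - 1) ∧ 0 ≤ P ∧ P ≤ g ∧ 0 ≤ T ∧ T ≤ (o : ℤ) - 1 ∧
      ((Nat.card (twoStab Ω a t) : ℤ) ∣ T) ∧ ((Nat.card (twoStab Ω a t) : ℤ) ∣ (o : ℤ) - 1) ∧
      P + g * T ≠ 0 ∧ P + g * T ≠ g * o ∧
      (c - P) * (c - P - 1) * (g * o) = (qNum G a : ℤ) * (P + g * T) * (g * o - (P + g * T)) ∧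
      ((∀ d ∈ twoStab Ω a t, d ≠ 1 → ∀ x ∈ Q, ∀ j : ℕ, x ^ 2 ^ j = 1 →
          d * x * d⁻¹ * x⁻¹ * (d * x * d⁻¹ * x⁻¹) = 1 → x * x = 1) → c = 1 ∨ c = g) ∧
      ((∀ x ∈ Q, ∀ j : ℕ, x ^ 2 ^ j = 1 → x * x ≠ 1 → ∀ z ∈ invl G a, ∃ y ∈ Q, x * y * x⁻¹ * y⁻¹ = z) →
        g = qNum G a ^ 2 → (qNum G a : ℤ) ∣ P) := by
  classical
  have hS := hs.setup
  have hD := twoStab_ne_bot hW
  obtain ⟨P⟩ := exists_split hs
  let _iS : Fintype P.S := Fintype.ofFinite _
  let _iO : Fintype P.O := Fintype.ofFinite _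
  obtain ⟨f, f', hp⟩ := exists_pair hs hW
  have hfc := isCharacter_of_irr hp.irr₁
  set Z := zS hs P with hZdef
  have hZ := zS_central hs P hsq
  have hq2 := two_le_qNum hs
  obtain ⟨hcS, hcO, hidx⟩ := split_cards hs P hg ho hcard
  have hcZ : Nat.card Z = qNum G a := card_zS hs P
  let one := principal P.O
  -- the stabilisers of characters of the odd part
  have hOfix : ∀ (d : twoStab Ω a t) (m : Cfsg.IrrCharacter P.O), twG (oTw hS P d) m = m → m ≠ one → d = 1 := by
    intro d m hd hm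
    by_contra hd1
    refine hm (eq_principal_of_fpf' _ (fun x hx => ?_) hd)
    have hord : Odd (orderOf ((x : Q) : G)) := by
      rw [Subgroup.orderOf_coe, Subgroup.orderOf_coe]
      exact P.odd.of_dvd_nat (orderOf_dvd_natCard x)
    have hc : Commute (d : G) ((x : Q) : G) := mul_inv_eq_iff_eq_mul.1
      (congrArg (fun y : P.O => ((y : Q) : G)) hx : (d : G) * ((x : Q) : G) * (d : G)⁻¹ = ((x : Q) : G))
    exact Subtype.ext (Subtype.ext (hO _ d.2 (fun h => hd1 (Subtype.ext h)) _ (x : Q).2 hord hc))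
  have hfree : ∀ l m, m ≠ one → Free hS (P.pc l m) := fun l m hm d hd => by
    rw [P.tw_pc] at hd
    exact hOfix d m (P.pc_inj hd).2 hm
  let X : Cfsg.IrrCharacter P.S → Cfsg.IrrCharacter P.O → ℕ := fun l m => mult Q f (P.pc l m)
  have hXle : ∀ l m, X l m ≤ deg (l : P.S → ℂ) * deg (m : P.O → ℂ) := fun l m =>
    (hp.mult_le _).trans (le_of_eq (P.deg_pc l m))
  have hdtriv : ∀ l : Cfsg.IrrCharacter P.S, Triv Z l → deg (l : P.S → ℂ) = 1 := fun l hl => by
    apply Nat.cast_injective (R := ℂ)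
    rw [← irr_apply_one_eq_deg, hZ.deg_triv hl, Nat.cast_one]
  have hprinS : Triv Z (principal P.S) := fun _ _ => rfl
  let L0 := {l : Cfsg.IrrCharacter P.S // Triv Z l}
  have hL0 : Fintype.card L0 = g := by
    rw [← Nat.card_eq_fintype_card, hZ.card_triv, hidx]
  -- equal multiplicities over a character of the odd part
  have hXeq : ∀ l m, m ≠ one → X l m = deg (l : P.S → ℂ) * X (principal P.S) m := by
    intro l m hm
    have hbne : bar m ≠ one := fun h => hm (by
      have h' : bar (bar m) = bar one := congrArg bar h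
      have e1 : bar (bar m) = m := Subtype.ext (funext fun x => Complex.conj_conj _)
      have e2 : bar one = one := Subtype.ext (funext fun x => map_one _)
      rwa [e1, e2] at h')
    let fam : L0 × Bool → Cfsg.IrrCharacter Q := fun p => P.pc p.1.1 (if p.2 then bar m else m)
    have hfamfree : ∀ p, Free hS (fam p) := fun p => by
      refine hfree _ _ ?_
      cases p.2 <;> simpa
    have hdis : ∀ p r d, tw hS d (fam r) = fam p → p = r := by
      rintro ⟨⟨l1, h1⟩, b1⟩ ⟨⟨l2, h2⟩, b2⟩ d e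
      simp only [fam, P.tw_pc] at e
      obtain ⟨e1, e2⟩ := P.pc_inj e
      have hbar : ∀ (φ : P.O ≃* P.O) (χ : Cfsg.IrrCharacter P.O), twG φ (bar χ) = bar (twG φ χ) := fun _ _ => rfl
      have hbb : bar (bar m) = m := Subtype.ext (funext fun x => Complex.conj_conj _)
      have hsame : twG (oTw hS P d) m = m → d = 1 := fun h => hOfix d m h hm
      have hdiff : twG (oTw hS P d) m ≠ bar m := by
        intro h
        have h2d : twG (oTw hS P (d * d)) m = m := by
          have e3 : twG (oTw hS P d) (twG (oTw hS P d) m) = twG (oTw hS P (d * d)) m :=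
            Subtype.ext (funext fun x => congrArg (m : P.O → ℂ) (Subtype.ext (cj_trans hS d d x.1)))
          rw [← e3, h, hbar, h, hbb]
        have hd1 : d = 1 := by
          have hdd := hOfix _ m h2d hm
          exact eq_one_of_odd (hS.odd_card.of_dvd_nat (orderOf_dvd_natCard d)) hdd
        subst hd1
        have e4 : twG (oTw hS P 1) m = m :=
          Subtype.ext (funext fun x => congrArg (m : P.O → ℂ) (Subtype.ext (cj_one hS x.1)))
        rw [e4] at h
        exact bar_ne P.odd hm h.symm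
      have hd : d = 1 ∧ b1 = b2 := by
        cases b1 <;> cases b2 <;> simp only [if_true, Bool.false_eq_true, if_false] at e2
        · exact ⟨hsame e2, rfl⟩
        · refine absurd ?_ hdiff
          rw [hbar] at e2
          refine Eq.trans ?_ (congrArg bar e2)
          exact (Subtype.ext (funext fun x => Complex.conj_conj _)).symm
        · exact absurd e2 hdiff
        · refine ⟨hsame ?_, rfl⟩
          rw [hbar] at e2
          have h' := congrArg bar e2
          rw [hbb] at h'
          refine Eq.trans ?_ h'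
          exact (Subtype.ext (funext fun x => Complex.conj_conj _)).symm
      obtain ⟨rfl, rfl⟩ := hd
      have e5 : twG (P.onS (cj hS 1)) l2 = l2 :=
        Subtype.ext (funext fun x => congrArg (l2 : P.S → ℂ) (Subtype.ext (cj_one hS x.1)))
      rw [e5] at e1
      subst e1
      rfl
    have hdeg : ∀ p, deg (fam p : Q → ℂ) = deg (m : P.O → ℂ) := fun p => by
      rw [P.deg_pc, hdtriv _ p.1.2, one_mul]
      cases p.2
      · rfl
      · exact deg_bar m
    have hmf : ∀ p, mult Q f (fam p) = X (principal P.S) m := fun p =>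
      mult_eq_of_free hS hD hp (hfamfree p) (hfree _ _ hm) (by
        rw [hdeg p, P.deg_pc, hdtriv _ hprinS, one_mul])
    have : Nonempty (L0 × Bool) := ⟨(⟨principal P.S, hprinS⟩, true)⟩
    refine mult_eq_smul hS hD hp fam hfamfree hdis hdeg hmf (hfree l m hm) (P.deg_pc l m) ?_
    rw [Fintype.card_prod, hL0, Fintype.card_bool]
    have := hZ.deg_sq_le l
    rw [hidx] at this
    have := hg
    have hg0 : 0 < g := by obtain ⟨j, rfl⟩ := hg; positivity
    omega
  -- the values on the 2-part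
  set T : ℕ := ∑ m ∈ Finset.univ.erase one, X (principal P.S) m * deg (m : P.O → ℂ) with hT
  let h0 : P.S → ℂ := fun s => ∑ l : Cfsg.IrrCharacter P.S, (X l one : ℂ) * (l : P.S → ℂ) s
  have hval : ∀ s : P.S, f ((s : Q) : G) = h0 s + if s = 1 then (T : ℂ) * Nat.card P.S else 0 := by
    intro s
    have hes : P.e (s, 1) = (s : Q) := by rw [P.e_apply]; simp
    rw [← hes, mult_expand hfc, ← Function.Bijective.sum_comp P.pc_bij, Fintype.sum_prod_type]
    simp only [P.pc_apply]
    rw [Finset.sum_congr rfl fun l _ => (Finset.add_sum_erase _ _ (Finset.mem_univ one)).symm,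
      Finset.sum_add_distrib]
    congr 1
    · refine Finset.sum_congr rfl fun l _ => ?_
      show _ * (_ * (1 : ℂ)) = _
      rw [mul_one]
    · have hrw : ∀ l : Cfsg.IrrCharacter P.S, ∀ m ∈ Finset.univ.erase one,
          (mult Q f (P.pc l m) : ℂ) * ((l : P.S → ℂ) s * (m : P.O → ℂ) 1) =
            ((X (principal P.S) m * deg (m : P.O → ℂ) : ℕ) : ℂ) * ((l : P.S → ℂ) 1 * (l : P.S → ℂ) s) := by
        intro l m hm
        rw [show mult Q f (P.pc l m) = X l m from rfl, hXeq l m (Finset.mem_erase.1 hm).1,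
          irr_apply_one_eq_deg, irr_apply_one_eq_deg]
        push_cast
        ring
      rw [Finset.sum_congr rfl fun l _ => Finset.sum_congr rfl (hrw l)]
      simp only [← Finset.sum_mul, ← Nat.cast_sum, ← hT, ← Finset.mul_sum]
      rw [sum_deg_mul s, mul_ite, mul_zero]
  obtain ⟨u, hu⟩ := exists_invol hS
  obtain ⟨A, -, hA, -, -, -⟩ := exists_value hs hfc (by rw [hp.mult_principal]; exact one_ne_zero)
  set c : ℕ := ∑ l ∈ Finset.univ.filter (fun l => Triv Z l), X l one with hc
  set N1 : ℕ := ∑ l ∈ Finset.univ.filter (fun l => ¬ Triv Z l), X l one * deg (l : P.S → ℂ) with hN1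
  have hsplit : ∀ F : Cfsg.IrrCharacter P.S → ℂ, ∑ l, F l =
      ∑ l ∈ Finset.univ.filter (fun l => Triv Z l), F l + ∑ l ∈ Finset.univ.filter (fun l => ¬ Triv Z l), F l :=
    fun F => (Finset.sum_filter_add_sum_filter_not _ _ _).symm
  have hh1 : h0 1 = (c : ℂ) + N1 := by
    simp only [h0, hsplit, hc, hN1, Nat.cast_sum, Nat.cast_mul]
    congr 1
    · refine Finset.sum_congr rfl fun l hl => ?_
      rw [irr_apply_one_eq_deg, hdtriv l (Finset.mem_filter.1 hl).2, Nat.cast_one, mul_one]
    · refine Finset.sum_congr rfl fun l hl => ?_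
      rw [irr_apply_one_eq_deg]
  have hsumZ : ∑ z : Z, h0 z = (qNum G a : ℂ) * c := by
    simp only [h0]
    rw [Finset.sum_comm, hsplit]
    simp only [← Finset.mul_sum]
    rw [Finset.sum_eq_zero (s := Finset.univ.filter fun l => ¬ Triv Z l) fun l hl => by
      rw [hZ.sum_eq_zero (Finset.mem_filter.1 hl).2, mul_zero], add_zero, hc, Nat.cast_sum, Finset.mul_sum]
    refine Finset.sum_congr rfl fun l hl => ?_
    have hl' := (Finset.mem_filter.1 hl).2
    rw [Finset.sum_congr rfl fun (z : Z) _ => show (l : P.S → ℂ) z = 1 by rw [hl' z z.2, hZ.deg_triv hl']]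
    rw [Finset.sum_const, Finset.card_univ, nsmul_eq_mul, mul_one, ← Nat.card_eq_fintype_card, hcZ, mul_comm]
  have hsumZ' : ∑ z : Z, h0 z = h0 1 + ((qNum G a : ℂ) - 1) * A := by
    have e : ∀ z : Z, h0 z = (if z = 1 then h0 1 - A else 0) + A := by
      intro z
      split_ifs with h
      · subst h; simp
      · have hz1 : (z : P.S) ≠ 1 := fun e => h (Subtype.ext e)
        have hzI := (zS_cases z.2).resolve_left hz1
        have hv := hval z
        rw [hA _ hzI, if_neg hz1, add_zero] at hv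
        rw [zero_add, hv]
    rw [Finset.sum_congr rfl fun z _ => e z, Finset.sum_add_distrib, Finset.sum_ite_eq', Finset.sum_const,
      Finset.card_univ, ← Nat.card_eq_fintype_card, hcZ, nsmul_eq_mul]
    simp only [Finset.mem_univ, if_true]
    ring
  have hN : (N1 : ℤ) = ((qNum G a : ℤ) - 1) * ((c : ℤ) - A) := by
    have e := hsumZ'.symm.trans hsumZ
    rw [hh1] at e
    have e' : ((N1 : ℤ) : ℂ) = ((((qNum G a : ℤ) - 1) * ((c : ℤ) - A) : ℤ) : ℂ) := by
      push_cast
      linear_combination e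
    exact_mod_cast e'
  have hf1 : f 1 = (A : ℂ) + (qNum G a : ℂ) * ((((c : ℤ) - A) + (g : ℤ) * (T : ℤ) : ℤ) : ℂ) := by
    have hv := hval 1
    rw [if_pos rfl, hcS, hh1] at hv
    have e' : (((N1 : ℕ) : ℤ) : ℂ) = ((((qNum G a : ℤ) - 1) * ((c : ℤ) - A) : ℤ) : ℂ) := by rw [hN]
    push_cast at e' hv ⊢
    linear_combination hv + e'
  obtain ⟨hne0, hnem, heq⟩ := hp.equation hs hu (hA u hu) (m := g * o) (by rw [hcard, mul_assoc]) hf1
  push_cast at hnem heq
  have hprinQ : P.pc (principal P.S) one = principal Q :=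
    Subtype.ext (funext fun x => show (1 : ℂ) * 1 = 1 from one_mul 1)
  have hX1 : X (principal P.S) one = 1 := by
    show mult Q f (P.pc _ _) = 1
    rw [hprinQ]
    exact hp.mult_principal
  have hone : deg (one : P.O → ℂ) = 1 := by
    apply Nat.cast_injective (R := ℂ)
    rw [← irr_apply_one_eq_deg, Nat.cast_one]
    rfl
  have hXone : ∀ l, X l one ≤ deg (l : P.S → ℂ) := fun l => (hXle l one).trans (by rw [hone, mul_one])
  have hprinmem : principal P.S ∈ Finset.univ.filter (fun l => Triv Z l) :=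
    Finset.mem_filter.2 ⟨Finset.mem_univ _, hprinS⟩
  have hc1 : 1 ≤ c := hX1 ▸ Finset.single_le_sum (fun l _ => Nat.zero_le (X l one)) hprinmem
  have hcardL0 : (Finset.univ.filter (fun l => Triv Z l)).card = g := by
    rw [← hL0, Fintype.card_subtype]
  have hcg : c ≤ g := by
    rw [← hcardL0, Finset.card_eq_sum_ones, hc]
    exact Finset.sum_le_sum fun l hl => (hXone l).trans (le_of_eq (hdtriv l (Finset.mem_filter.1 hl).2))
  have hN1le : N1 + g ≤ qNum G a * g := by
    rw [← hcS, ← sum_deg_sq_nat (G := P.S), ← Finset.sum_filter_add_sum_filter_not Finset.univ (fun l => Triv Z l),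
      add_comm N1 g]
    refine Nat.add_le_add (le_of_eq ?_) (Finset.sum_le_sum fun l _ => ?_)
    · rw [← hcardL0, Finset.card_eq_sum_ones]
      exact Finset.sum_congr rfl fun l hl => by rw [hdtriv l (Finset.mem_filter.1 hl).2, one_pow]
    · rw [pow_two]
      exact Nat.mul_le_mul_right _ (hXone l)
  have hP0 : 0 ≤ (c : ℤ) - A := by
    have h : 0 ≤ ((qNum G a : ℤ) - 1) * ((c : ℤ) - A) := hN ▸ Int.natCast_nonneg _
    exact nonneg_of_mul_nonneg_right h (by omega)
  have hPg : (c : ℤ) - A ≤ g := by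
    refine le_of_mul_le_mul_left ?_ (show (0 : ℤ) < (qNum G a : ℤ) - 1 by omega)
    rw [← hN]
    have h : ((N1 + g : ℕ) : ℤ) ≤ ((qNum G a * g : ℕ) : ℤ) := by exact_mod_cast hN1le
    push_cast at h
    linarith
  have hTle : T + 1 ≤ o := by
    have he : ∑ m : Cfsg.IrrCharacter P.O, deg (m : P.O → ℂ) ^ 2 = o := by rw [sum_deg_sq_nat, hcO]
    rw [← Finset.add_sum_erase _ _ (Finset.mem_univ one), hone] at he
    have : T ≤ ∑ m ∈ Finset.univ.erase one, deg (m : P.O → ℂ) ^ 2 := Finset.sum_le_sum fun m _ => by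
      rw [pow_two]
      refine Nat.mul_le_mul_right _ ((hXle _ m).trans (le_of_eq ?_))
      rw [hdtriv _ hprinS, one_mul]
    omega
  -- divisibility
  let O1 := {m : Cfsg.IrrCharacter P.O // m ≠ one}
  let act : twoStab Ω a t → O1 → O1 := fun d m => ⟨twG (oTw hS P d⁻¹) m.1, fun h => m.2 (by
    have h' := congrArg (twG (oTw hS P d)) h
    rw [twG_principal] at h'
    have e : twG (oTw hS P d) (twG (oTw hS P d⁻¹) m.1) = m.1 := Subtype.ext (funext fun x =>
      congrArg (m.1 : P.O → ℂ) (Subtype.ext (show cj hS d⁻¹ (cj hS d x.1) = x.1 by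
        rw [cj_trans, inv_mul_cancel, cj_one])))
    rwa [e] at h')⟩
  have hact1 : ∀ m, act 1 m = m := fun m => Subtype.ext (Subtype.ext (funext fun x =>
    congrArg (m.1 : P.O → ℂ) (Subtype.ext (show cj hS (1 : twoStab Ω a t)⁻¹ x.1 = x.1 by
      rw [inv_one, cj_one]))))
  have hactm : ∀ p r m, act (p * r) m = act p (act r m) := fun p r m => Subtype.ext (Subtype.ext (funext fun x =>
    congrArg (m.1 : P.O → ℂ) (Subtype.ext (show cj hS (p * r)⁻¹ x.1 = cj hS r⁻¹ (cj hS p⁻¹ x.1) by
      rw [cj_trans, mul_inv_rev]))))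
  have hactfree : ∀ p m, act p m = m → p = 1 := fun p m h =>
    inv_eq_one.1 (hOfix p⁻¹ m.1 (congrArg Subtype.val h) m.2)
  have hdeg1 : ∀ p (m : O1), deg ((act p m).1 : P.O → ℂ) = deg (m.1 : P.O → ℂ) := fun p m => deg_twG _ _
  have hDo : Nat.card (twoStab Ω a t) ∣ o - 1 := by
    have h := dvd_sum_of_free act hact1 hactm (fun m : O1 => deg (m.1 : P.O → ℂ) ^ 2)
      (fun p m => by simp only [hdeg1]) hactfree
    have he : ∑ m : Cfsg.IrrCharacter P.O, deg (m : P.O → ℂ) ^ 2 = o := by rw [sum_deg_sq_nat, hcO]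
    rw [← Finset.add_sum_erase _ _ (Finset.mem_univ one), hone] at he
    rw [← Finset.sum_subtype (Finset.univ.erase one) (fun x => by simp)
      (fun m : Cfsg.IrrCharacter P.O => deg (m : P.O → ℂ) ^ 2)] at h
    rwa [← he, one_pow, Nat.add_sub_cancel_left]
  have hDT : Nat.card (twoStab Ω a t) ∣ T := by
    have h := dvd_sum_of_free act hact1 hactm (fun m : O1 => X (principal P.S) m.1 * deg (m.1 : P.O → ℂ))
      (fun p m => by
        simp only [hdeg1]
        congr 1
        have e : P.pc (principal P.S) (act p m).1 = tw hS p⁻¹ (P.pc (principal P.S) m.1) := by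
          rw [P.tw_pc, twG_principal]
        show mult Q f _ = mult Q f _
        rw [e, mult_tw hS hfc]) hactfree
    rwa [← Finset.sum_subtype (Finset.univ.erase one) (fun x => by simp)
      (fun m : Cfsg.IrrCharacter P.O => X (principal P.S) m * deg (m : P.O → ℂ))] at h
  -- the inverted elements act freely on the linear characters
  have hK : ((qNum G a : ℤ) - 1) ∣ (c : ℤ) - 1 := by
    obtain ⟨C, hC, -, -⟩ := inverted_subgroup hS hs.two
    let _iC : Fintype C := Fintype.ofFinite _
    have hCmem : ∀ k : C, (k : G) ∈ Cfsg.invertedBy (twoStab Ω a t) t := fun k => hC ▸ k.2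
    let toD : C → twoStab Ω a t := fun k => ⟨k, (hCmem k).1⟩
    let L1 := {l : Cfsg.IrrCharacter P.S // Triv Z l ∧ l ≠ principal P.S}
    let actK : C → L1 → L1 := fun k l => ⟨twG (sTw hS P (toD k)⁻¹) l.1, Triv.twG _ l.2.1, fun h => l.2.2 (by
      have h' := congrArg (twG (sTw hS P (toD k))) h
      rw [twG_principal] at h'
      have e : twG (sTw hS P (toD k)) (twG (sTw hS P (toD k)⁻¹) l.1) = l.1 := Subtype.ext (funext fun x =>
        congrArg (l.1 : P.S → ℂ) (Subtype.ext (show cj hS (toD k)⁻¹ (cj hS (toD k) x.1) = x.1 by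
          rw [cj_trans, inv_mul_cancel, cj_one])))
      rwa [e] at h')⟩
    have h := dvd_sum_of_free actK (fun l => Subtype.ext (Subtype.ext (funext fun x =>
        congrArg (l.1 : P.S → ℂ) (Subtype.ext (show cj hS (1 : twoStab Ω a t)⁻¹ x.1 = x.1 by
          rw [inv_one, cj_one])))))
      (fun p r l => Subtype.ext (Subtype.ext (funext fun x => congrArg (l.1 : P.S → ℂ) (Subtype.ext
        (show cj hS (toD (p * r))⁻¹ x.1 = cj hS (toD r)⁻¹ (cj hS (toD p)⁻¹ x.1) by
          rw [cj_trans, ← mul_inv_rev]; rfl)))))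
      (fun l : L1 => X l.1 one)
      (fun k l => by
        have e : P.pc (actK k l).1 one = tw hS (toD k)⁻¹ (P.pc l.1 one) := by
          rw [P.tw_pc, twG_principal]
        show mult Q f _ = mult Q f _
        rw [e, mult_tw hS hfc])
      (fun k l hk => by
        by_contra hk1
        refine l.2.2 (eq_principal_of_fpf' _ (fun x hx => ?_) (congrArg Subtype.val hk))
        have hK' : (k : G)⁻¹ ∈ Cfsg.invertedBy (twoStab Ω a t) t := hC ▸ (C.inv_mem k.2)
        have hm : ((x : Q) : G) ∈ Q ⊓ Subgroup.centralizer {(k : G)⁻¹} := Subgroup.mem_inf.2 ⟨(x : Q).2,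
          Subgroup.mem_centralizer_singleton_iff.2 (mul_inv_eq_iff_eq_mul.1
            (congrArg (fun y : P.S => ((y : Q) : G)) hx :
              (k : G)⁻¹ * ((x : Q) : G) * (k : G)⁻¹⁻¹ = ((x : Q) : G))).symm⟩
        rw [cent_inverted hS hK' (fun h => hk1 (Subtype.ext (inv_eq_one.1 h))), Subgroup.mem_bot] at hm
        exact Subtype.ext (Subtype.ext hm))
    rw [← Finset.sum_subtype ((Finset.univ.filter fun l => Triv Z l).erase (principal P.S))
      (fun x => by simp [and_comm]) (fun l : Cfsg.IrrCharacter P.S => X l one)] at h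
    have hcC : Nat.card C = qNum G a - 1 := by
      rw [← card_invK hs]
      exact Nat.card_congr (Equiv.setCongr hC)
    have hce : c = 1 + ∑ l ∈ (Finset.univ.filter fun l => Triv Z l).erase (principal P.S), X l one := by
      rw [hc, ← Finset.add_sum_erase _ _ hprinmem, hX1]
    rw [hcC] at h
    have h' : ((qNum G a - 1 : ℕ) : ℤ) ∣ ((c - 1 : ℕ) : ℤ) := by
      rw [hce, Nat.add_sub_cancel_left]
      exact_mod_cast h
    rwa [Nat.cast_sub (by omega), Nat.cast_sub hc1, Nat.cast_one] at h'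
  refine ⟨c, (c : ℤ) - A, T, by exact_mod_cast hc1, by exact_mod_cast hcg, hK, hP0, hPg,
    Int.natCast_nonneg _, by omega, by exact_mod_cast hDT, ?_, hne0, hnem, ?_, ?_, ?_⟩
  · have h : (((o - 1 : ℕ)) : ℤ) = (o : ℤ) - 1 := by omega
    rw [← h]
    exact_mod_cast hDo
  · rw [sub_sub_cancel]
    exact heq
  · intro hfr
    -- all nonprincipal characters trivial on `Z` are free
    have hfr' : ∀ l, Triv Z l → l ≠ principal P.S → Free hS (P.pc l one) := by
      intro l hl hlne d hd
      rw [P.tw_pc] at hd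
      have hfix := (P.pc_inj hd).1
      by_contra hd1
      refine hlne ?_
      have := hZ.normal
      obtain ⟨φ, hφ⟩ := exists_hom_of_deg_one (isCharacter_of_irr l.2) (hZ.deg_triv hl)
      have hker : Z ≤ φ.ker := fun z hz => MonoidHom.mem_ker.2 (Units.ext (by
        have e := hl z hz
        rw [hφ] at e
        simpa using e))
      have hinv : ∀ x, φ (sTw hS P d x) = φ x := fun x => Units.ext (by
        have e := congrArg (fun χ : Cfsg.IrrCharacter P.S => (χ : P.S → ℂ) x) hfix
        simp only [twG_apply, hφ] at e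
        exact e)
      let F : P.S ⧸ Z → P.S ⧸ Z := fun x => Quotient.liftOn' x
        (fun s => (QuotientGroup.mk (s⁻¹ * sTw hS P d s) : P.S ⧸ Z)) fun s r hsr => by
          rw [QuotientGroup.leftRel_apply] at hsr
          obtain ⟨z, hz, rfl⟩ : ∃ z ∈ Z, r = s * z := ⟨s⁻¹ * r, hsr, by group⟩
          rw [QuotientGroup.eq, map_mul]
          rw [show (s⁻¹ * sTw hS P d s)⁻¹ * ((s * z)⁻¹ * (sTw hS P d s * sTw hS P d z)) =
            (sTw hS P d s)⁻¹ * (s * z⁻¹ * s⁻¹) * sTw hS P d s * sTw hS P d z by group]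
          refine Z.mul_mem ?_ (sTw_mem hs P d hz)
          have := hZ.normal.conj_mem _ (hZ.normal.conj_mem _ (Z.inv_mem hz) s) (sTw hS P d s)⁻¹
          rwa [inv_inv] at this
      have hF : Function.Injective F := by
        intro x y
        induction x using QuotientGroup.induction_on with
        | _ s =>
          induction y using QuotientGroup.induction_on with
          | _ r =>
            intro h
            have h' : (QuotientGroup.mk (s⁻¹ * sTw hS P d s) : P.S ⧸ Z) = QuotientGroup.mk (r⁻¹ * sTw hS P d r) := h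
            rw [QuotientGroup.eq] at h' ⊢
            set w := s⁻¹ * r with hw
            have hwd : sTw hS P d w * w⁻¹ ∈ Z := by
              have h3 := hZ.normal.conj_mem _ h' s⁻¹
              have e : (sTw hS P d w * w⁻¹) = (sTw hS P d s)⁻¹ * sTw hS P d r * r⁻¹ * s := by
                rw [hw, map_mul, map_inv]; group
              have e2 : (s⁻¹ * sTw hS P d s)⁻¹ * (r⁻¹ * sTw hS P d r) =
                  (sTw hS P d s)⁻¹ * s * r⁻¹ * sTw hS P d r := by group
              rw [e2] at h'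
              rw [e]
              have hcomm : ∀ x y : P.S, (QuotientGroup.mk (x * y) : P.S ⧸ Z) = QuotientGroup.mk (y * x) := fun x y => by
                rw [QuotientGroup.mk_mul, QuotientGroup.mk_mul]; exact hZ.quot_comm _ _
              rw [← QuotientGroup.eq_one_iff] at h' ⊢
              rw [← h']
              simp only [QuotientGroup.mk_mul, QuotientGroup.mk_inv]
              generalize (↑(sTw hS P d s) : P.S ⧸ Z) = A1
              generalize (↑(sTw hS P d r) : P.S ⧸ Z) = A2
              simp only [mul_assoc]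
              rw [hZ.quot_comm A2, mul_assoc, ← mul_assoc ((r : P.S ⧸ Z)⁻¹) (s : P.S ⧸ Z),
                hZ.quot_comm ((r : P.S ⧸ Z)⁻¹) (s : P.S ⧸ Z)]
              simp only [mul_assoc]
            obtain ⟨j, hj⟩ := P.two w
            have hj' : ((w : Q) : G) ^ 2 ^ j = 1 := congrArg (fun y : P.S => ((y : Q) : G)) hj
            have hsq2 := hfr d d.2 (fun h => hd1 (Subtype.ext h)) _ (w : Q).2 j hj' (by
              exact congrArg (fun y : P.S => ((y : Q) : G)) (hZ.invol _ hwd))
            by_cases h1 : ((w : Q) : G) = 1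
            · exact Or.inl h1
            · exact Or.inr ⟨hS.le (w : Q).2, h1, hsq2⟩
      refine Subtype.ext (funext fun x => ?_)
      obtain ⟨y, hy⟩ := Finite.injective_iff_surjective.1 hF (QuotientGroup.mk x)
      induction y using QuotientGroup.induction_on with
      | _ s =>
        have hy' : (QuotientGroup.mk (s⁻¹ * sTw hS P d s) : P.S ⧸ Z) = QuotientGroup.mk x := hy
        rw [QuotientGroup.eq] at hy'
        have h1 := MonoidHom.mem_ker.1 (hker hy')
        simp only [map_mul, map_inv, hinv, inv_mul_cancel, inv_one, one_mul] at h1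
        rw [hφ]
        show ((φ x : ℂˣ) : ℂ) = 1
        rw [h1, Units.val_one]
    by_cases hex : ∃ l, Triv Z l ∧ l ≠ principal P.S
    · obtain ⟨l₀, hl₀, hl₀'⟩ := hex
      have hall : ∀ l ∈ (Finset.univ.filter fun l => Triv Z l).erase (principal P.S), X l one = X l₀ one := by
        intro l hl
        obtain ⟨hl1, hl2⟩ := Finset.mem_erase.1 hl
        have hl3 := (Finset.mem_filter.1 hl2).2
        exact mult_eq_of_free hS hD hp (hfr' l hl3 hl1) (hfr' l₀ hl₀ hl₀') (by
          rw [P.deg_pc, P.deg_pc, hdtriv l hl3, hdtriv l₀ hl₀])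
      have hce : c = 1 + (g - 1) * X l₀ one := by
        rw [hc, ← Finset.add_sum_erase _ _ hprinmem, hX1, Finset.sum_congr rfl hall, Finset.sum_const,
          Finset.card_erase_of_mem hprinmem, hcardL0, smul_eq_mul]
      have hle := (hXone l₀).trans (le_of_eq (hdtriv l₀ hl₀))
      rcases Nat.le_one_iff_eq_zero_or_eq_one.1 hle with h | h <;> rw [h] at hce
      · exact Or.inl (by omega)
      · exact Or.inr (by omega)
    · refine Or.inl ?_
      push Not at hex
      have : c = 1 := by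
        rw [hc, Finset.sum_eq_single_of_mem _ hprinmem fun l hl hne => absurd (hex l (Finset.mem_filter.1 hl).2) hne,
          hX1]
      exact_mod_cast this
  · intro hnd hgq
    have hdeg : ∀ l : Cfsg.IrrCharacter P.S, ¬ Triv Z l → deg (l : P.S → ℂ) = qNum G a := by
      intro l hl
      refine Nat.pow_left_injective (by norm_num : 2 ≠ 0) ?_
      show deg (l : P.S → ℂ) ^ 2 = qNum G a ^ 2
      rw [hZ.deg_sq_eq l (fun s hsZ => ?_), hidx, hgq]
      obtain ⟨n, ρ, hρ, e⟩ := l.2
      unfold Triv at hl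
      push Not at hl
      obtain ⟨z₀, hz₀, hne⟩ := hl
      have hz1 : z₀ ≠ 1 := fun h => hne (by rw [h])
      have hzI := (zS_cases hz₀).resolve_left hz1
      obtain ⟨j, hj⟩ := P.two s
      have hj' : ((s : Q) : G) ^ 2 ^ j = 1 := congrArg (fun y : P.S => ((y : Q) : G)) hj
      have hss : ((s : Q) : G) * (s : Q) ≠ 1 := fun h => hsZ (by
        by_cases h1 : ((s : Q) : G) = 1
        · exact Or.inl h1
        · exact Or.inr ⟨hS.le (s : Q).2, h1, h⟩)
      obtain ⟨y, hy, hyz⟩ := hnd _ (s : Q).2 j hj' hss _ hzI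
      obtain ⟨⟨s', o'⟩, hy'⟩ := P.e.surjective ⟨y, hy⟩
      have hes : ∀ r : P.S, P.e (r, 1) = (r : Q) := fun r => by rw [P.e_apply]; simp
      have hq' : (s : Q) * P.e (s', o') * (s : Q)⁻¹ * (P.e (s', o'))⁻¹ = (z₀ : Q) :=
        Subtype.ext (by rw [hy']; exact hyz)
      rw [← hes s, ← hes z₀, ← map_inv, ← map_inv, ← map_mul, ← map_mul, ← map_mul] at hq'
      have h1 : s * s' * s⁻¹ * s'⁻¹ = z₀ := congrArg Prod.fst (P.e.injective hq')
      have h2 : s' * s * s'⁻¹ = z₀ * s := by
        rw [← inv_eq_of_mul_eq_one_right (hZ.invol z₀ hz₀), ← h1]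
        group
      obtain ⟨cz, hcz, -, hmul⟩ := hZ.scalar ρ hρ hz₀
      have h3 : (l : P.S → ℂ) (z₀ * s) = (l : P.S → ℂ) s := by
        rw [← h2]; exact isClassFunction_irr l s s'
      rw [← e] at h3 hne ⊢
      rw [hmul] at h3
      rcases hcz with rfl | rfl
      · exact absurd (by have := hmul 1; rwa [mul_one, one_mul] at this) hne
      · linear_combination (-(1 : ℂ) / 2) * h3
    have hdvd : (qNum G a : ℤ) ∣ (N1 : ℤ) := by
      rw [hN1, Nat.cast_sum]
      refine Finset.dvd_sum fun l hl => ?_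
      rw [hdeg l (Finset.mem_filter.1 hl).2]
      exact ⟨X l one, by push_cast; ring⟩
    rw [hN] at hdvd
    have h := dvd_sub (dvd_mul_right (qNum G a : ℤ) ((c : ℤ) - A)) hdvd
    rwa [show (qNum G a : ℤ) * ((c : ℤ) - A) - ((qNum G a : ℤ) - 1) * ((c : ℤ) - A) = (c : ℤ) - A by ring] at h

end Cfsg.Lib.BenderSuzuki.Degree

namespace Cfsg.Lib.BenderSuzuki

universe u v

/-- The degree equation when `D` is fixed point free on the odd part of `Q`. -/
theorem degB : DegBStep.{u, v} := by
  intro G Ω _ _ _ a t Q hs hW hO hsq g o hg ho hcard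
  classical
  have := Fintype.ofFinite G
  exact Degree.degB_eq hs hW hO hsq hg ho hcard

end Cfsg.Lib.BenderSuzuki
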