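import Cfsg.Agent.BenderSuzuki.Defs

/-!
First properties of the standing hypotheses: the group of the involutions fixing `a` and the two-point stabiliser.
-/

set_option autoImplicit false

namespace Cfsg.Lib.BenderSuzuki

open MulAction Cfsg.Lib.RankOne

universe u v

variable {G : Type u} {Ω : Type v} [Group G] [Finite G] [MulAction G Ω] {a : Ω} {t : G} {Q : Subgroup G}
  (hs : Simple G Ω a t Q)

/-- The involutions fixing `a` and the identity. -/
abbrev zGroup : Subgroup G := involGroup hs.setup hs.two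

theorem mem_zGroup {x : G} : x ∈ zGroup hs ↔ x = 1 ∨ x ∈ invl G a := mem_involGroup hs.setup hs.two

theorem zGroup_le : zGroup hs ≤ Q := by
  intro x hx
  rcases (mem_zGroup hs).1 hx with rfl | h
  · exact one_mem _
  · exact inv_mem_Q hs.setup h.1 h.2.2

theorem mem_zGroup_of_sq {x : G} (hx : x ∈ Q) (h : x * x = 1) : x ∈ zGroup hs := by
  rcases eq_or_ne x 1 with rfl | h1
  · exact one_mem _
  · exact (mem_zGroup hs).2 (Or.inr ⟨hs.setup.le hx, h1, h⟩)

theorem zGroup_comm {z : G} (hz : z ∈ zGroup hs) {x : G} (hx : x ∈ Q) : z * x = x * z := by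
  rcases (mem_zGroup hs).1 hz with rfl | h
  · rw [one_mul, mul_one]
  · exact (invol_central hs.setup hs.two h).2 x hx

theorem zGroup_conj {z d : G} (hz : z ∈ zGroup hs) (hd : d ∈ stabilizer G a) : d * z * d⁻¹ ∈ zGroup hs :=
  conj_involGroup hs.setup hs.two hd hz

theorem card_zGroup : Nat.card (zGroup hs) = qNum G a := by
  have h : (zGroup hs : Set G) = insert 1 (invl G a) := Set.ext fun x => mem_zGroup hs
  rw [← SetLike.coe_sort_coe, h, Nat.card_coe_set_eq,
    Set.ncard_insert_of_notMem (fun h1 => h1.2.1 rfl) (Set.toFinite _), qNum, Nat.card_coe_set_eq]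

include hs in
theorem qNum_pow : ∃ k, 2 ≤ k ∧ qNum G a = 2 ^ k := by
  have : Fact (Nat.Prime 2) := ⟨Nat.prime_two⟩
  have hp : IsPGroup 2 (zGroup hs) := fun x => ⟨1, Subtype.ext (by
    rw [pow_one, SubgroupClass.coe_pow, pow_two]
    exact involGroup_sq hs.setup hs.two x.2)⟩
  obtain ⟨k, hk⟩ := IsPGroup.iff_card.1 hp
  rw [card_zGroup hs] at hk
  refine ⟨k, ?_, hk⟩
  have h2 : 2 ≤ Nat.card (invl G a) := by
    obtain ⟨x, hx, hx1⟩ := exists_inverted_ne hs.setup hs.two
    rw [← swap_card hs.setup, Nat.card_coe_set_eq]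
    refine (Set.one_lt_ncard (Set.toFinite _)).2 ⟨1, ⟨one_mem _, ?_⟩, x, hx, hx1.symm⟩
    rw [inv_one, mul_one, mul_inv_cancel]
  by_contra hlt
  have h3 : (2 : ℕ) ^ k ≤ 2 ^ 1 := Nat.pow_le_pow_right (by norm_num) (by omega)
  rw [← hk, qNum] at h3
  omega

include hs in
theorem card_twoStab : Nat.card (twoStab Ω a t) = Nat.card (centT Ω a t) * (qNum G a - 1) := by
  rw [qNum, Nat.add_sub_cancel, ← swap_card hs.setup]
  exact card_factor hs.setup.mul_self hs.setup.odd_card (fun x hx => conj_D hs.setup hx)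

include hs in
theorem caseL_of_sq (h : ∀ x ∈ Q, x * x = 1) : CaseL a t Q := by
  obtain ⟨⟨s, r⟩, ⟨h1, h2, h3⟩, -⟩ := partner hs.setup
  exact ⟨s, h1, r, h2, h r h2, h3⟩

include hs in
theorem caseL_of_card (h : Nat.card Q = qNum G a) : CaseL a t Q := by
  have e : zGroup hs = Q := Subgroup.eq_of_le_of_card_ge (zGroup_le hs) (by rw [card_zGroup hs, h])
  exact caseL_of_sq hs fun x hx => involGroup_sq hs.setup hs.two (e.ge hx)

end Cfsg.Lib.BenderSuzuki
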