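import Cfsg.Agent.BenderSuzuki.Steps
import Cfsg.Agent.BenderSuzuki.RootGroup
import Cfsg.Agent.OddChar.Zassenhaus.Feit
import Cfsg.Agent.ZTGroups.Main

/-!
The case of a Zassenhaus group.
-/

set_option autoImplicit false

namespace Cfsg.Lib.BenderSuzuki

open MulAction Cfsg.Lib.RankOne
open scoped Pointwise

universe u v

variable {G : Type u} {Ω : Type v} [Group G] [Finite G] [MulAction G Ω] {a : Ω} {t : G} {Q : Subgroup G}

/-- In case L the point `a` lies in an orbit of length `q + 1`. -/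
theorem qNum_succ_dvd (hs : Simple G Ω a t Q) (hL : CaseL a t Q) : qNum G a + 1 ∣ Nat.card G := by
  classical
  have hS := hs.setup
  have := finite_pts hS
  obtain ⟨s, hsI, r, hrQ, hr2, e⟩ := hL
  have hr : r ∈ zGroup hs := mem_zGroup_of_sq hs hrQ hr2
  set X : Set Ω := insert a ((fun z : G => z • t • a) '' (zGroup hs : Set G)) with hX
  have hmem : ∀ z ∈ zGroup hs, z • t • a ∈ X := fun z hz => Or.inr ⟨z, hz, rfl⟩
  have hta : t • a ∈ X := by
    have := hmem 1 (one_mem _)
    rwa [one_smul] at this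
  have hfixa : ∀ z ∈ zGroup hs, z • a = a := fun z hz => fix_a hS (zGroup_le hs hz)
  have hkey : ∀ z ∈ zGroup hs, t • z • t • a ∈ X := by
    intro z hz
    rcases (mem_zGroup hs).1 hz with rfl | hzI
    · rw [one_smul, t_ta hS]; exact Or.inl rfl
    obtain ⟨x, hx, rfl⟩ := conj_surj hS hsI hzI
    have hti := t_inv hS
    have hxt : t * x * t = x⁻¹ := by
      have := hx.2
      rwa [hti] at this
    have h1 : t * x⁻¹ = x * t := by
      calc t * x⁻¹ = t * (t * x * t) := by rw [hxt]
        _ = x * t := by rw [← mul_assoc, ← mul_assoc, hS.mul_self, one_mul]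
    have h2 : x * t = t * x⁻¹ := h1.symm
    have h3 : t * (x⁻¹ * s * x) * t = x * (t * s * t) * x⁻¹ := by
      calc t * (x⁻¹ * s * x) * t = (t * x⁻¹) * s * (x * t) := by simp only [mul_assoc]
        _ = (x * t) * s * (t * x⁻¹) := congrArg₂ (fun y z => y * s * z) h1 h2
        _ = _ := by simp only [mul_assoc]
    have hxD := Subgroup.mem_inf.1 hx.1
    have hz1 : x * r * x⁻¹ ∈ zGroup hs := zGroup_conj hs hr hxD.1
    have h4 : t • (x⁻¹ * s * x) • t • a = (x * r * x⁻¹) • t • a := by
      have hxa : x⁻¹ • a = a := inv_smul_eq_iff.2 hxD.1.symm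
      have hxta : x • t • a = t • a := hxD.2
      have hxta' : x⁻¹ • t • a = t • a := inv_smul_eq_iff.2 hxta.symm
      rw [← mul_smul, ← mul_smul, h3, e, inv_of_sq hr2]
      rw [mul_smul, mul_smul, mul_smul, mul_smul, hxa, fix_a hS hrQ, mul_smul, mul_smul, hxta']
    rw [h4]; exact hmem _ hz1
  have hfix : ∀ g : G, g * g = 1 → (∀ p ∈ X, g • p ∈ X) → g ∈ stabilizer G X := by
    intro g hg h
    refine Set.Subset.antisymm ?_ fun p hp => ⟨g • p, h p hp, by
      show g • g • p = p
      rw [← mul_smul, hg, one_smul]⟩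
    rintro _ ⟨p, hp, rfl⟩
    exact h p hp
  have ht : t ∈ stabilizer G X := by
    refine hfix t hS.mul_self fun p hp => ?_
    rcases hp with rfl | ⟨z, hz, rfl⟩
    · exact hta
    · exact hkey z hz
  have hZ : zGroup hs ≤ stabilizer G X := by
    intro z hz
    refine hfix z (involGroup_sq hS hs.two hz) fun p hp => ?_
    rcases hp with rfl | ⟨w, hw, rfl⟩
    · rw [hfixa z hz]; exact Or.inl rfl
    · show z • w • t • a ∈ X
      rw [← mul_smul]
      exact hmem _ (mul_mem hz hw)
  have horb : MulAction.orbit (stabilizer G X) a = X := by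
    refine Set.Subset.antisymm ?_ fun p hp => ?_
    · rintro _ ⟨⟨g, hg⟩, rfl⟩
      show g • a ∈ X
      rw [← (show g • X = X from hg)]
      exact Set.smul_mem_smul_set (Or.inl rfl)
    · rcases hp with rfl | ⟨z, hz, rfl⟩
      · exact MulAction.mem_orbit_self _
      · refine ⟨⟨z * t, mul_mem (hZ hz) ht⟩, ?_⟩
        show (z * t) • a = z • t • a
        rw [mul_smul]
  have hcard : X.ncard = qNum G a + 1 := by
    rw [hX, Set.ncard_insert_of_notMem ?_ (Set.toFinite _), Set.ncard_image_of_injOn ?_, ← Nat.card_coe_set_eq,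
      SetLike.coe_sort_coe, card_zGroup hs]
    · intro z hz w hw h
      obtain ⟨y, -, hy⟩ := regular hS (ta_ne hS) (fun h' => ta_ne hS
        (MulAction.injective z ((show z • t • a = a from h').trans (hfixa z hz).symm)))
      exact congrArg Subtype.val
        ((hy ⟨z, zGroup_le hs hz⟩ rfl).trans (hy ⟨w, zGroup_le hs hw⟩ h.symm).symm)
    · rintro ⟨z, hz, hza⟩
      exact ta_ne hS (MulAction.injective z (hza.trans (hfixa z hz).symm))
  have h1 := MulAction.index_stabilizer (stabilizer G X) a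
  rw [horb, hcard] at h1
  rw [← h1]
  exact (Subgroup.index_dvd_card _).trans (Subgroup.card_subgroup_dvd_card _)

/-- With a trivial centraliser of `t`, every two-point stabiliser is semiregular elsewhere. -/
theorem isZassenhaus_of_centT (hs : Simple G Ω a t Q) (hW : centT Ω a t = ⊥) :
    Cfsg.IsZassenhausGroup G Ω ∧ Nat.card (twoStab Ω a t) = qNum G a - 1 := by
  classical
  have hS := hs.setup
  have := finite_pts hS
  have hcard : Nat.card (twoStab Ω a t) = qNum G a - 1 := by
    rw [card_twoStab hs, hW, Subgroup.card_bot, one_mul]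
  have hDK : ∀ g ∈ twoStab Ω a t, g ∈ invK Ω a t := fun g hg => by
    obtain ⟨⟨v, x⟩, ⟨hv, hx, e⟩, -⟩ := factor hS.mul_self hS.odd_card (fun x hx => conj_D hS hx) hg
    have hv1 : v ∈ centT Ω a t := hv
    rw [hW, Subgroup.mem_bot] at hv1
    rw [show g = v * x from e, hv1, one_mul]
    exact hx
  refine ⟨⟨hs.faithful, hS.two_transitive, fun g p q r hpq hqr hpr hgp hgq hgr => ?_, ?_, fun N hN hNt => ?_⟩,
    hcard⟩
  · by_contra hg
    obtain ⟨h, h1, h2⟩ := trans₂ hS hpq (ta_ne hS).symm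
    set g' := h * g * h⁻¹ with hg'
    have hfix : ∀ x : Ω, g • x = x → g' • h • x = h • x := fun x hx => by
      rw [hg', mul_smul, mul_smul, inv_smul_smul, hx]
    have hg'D : g' ∈ twoStab Ω a t := Subgroup.mem_inf.2
      ⟨show g' • a = a by rw [← h1]; exact hfix p hgp, show g' • t • a = t • a by rw [← h2]; exact hfix q hgq⟩
    obtain ⟨y, hy, hyc⟩ := fix_trans_a hS (X := {g'}) (Set.singleton_subset_iff.2 hg'D) (ta_ne hS)
      (show h • r ≠ a from fun h' => hpr (MulAction.injective h (h1.trans h'.symm)))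
      (fun x hx => by rw [Set.mem_singleton_iff.1 hx]; exact (Subgroup.mem_inf.1 hg'D).2)
      (fun x hx => by rw [Set.mem_singleton_iff.1 hx]; exact hfix r hgr)
    have hne : g' ≠ 1 := fun h' => hg (by rwa [hg', mul_inv_eq_one, mul_eq_left] at h')
    rw [cent_inverted hS (hDK g' hg'D) hne, Subgroup.mem_bot] at hy
    rw [hy, one_smul, ← h2] at hyc
    exact hqr (MulAction.injective h hyc)
  · obtain ⟨x, hx, hx1⟩ := exists_inverted_ne hS hs.two
    exact ⟨x, hx1, a, t • a, (ta_ne hS).symm, (Subgroup.mem_inf.1 hx.1).1, (Subgroup.mem_inf.1 hx.1).2⟩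
  · rcases hs.simple.eq_bot_or_eq_top_of_normal N hN with rfl | rfl
    · obtain ⟨⟨g, hg⟩, hga⟩ := hNt.exists_smul_eq a (t • a)
      rw [Subgroup.mem_bot] at hg
      subst hg
      exact absurd ((one_smul G a).symm.trans hga).symm (ta_ne hS)
    · refine ⟨a, fun h => ?_⟩
      obtain ⟨x, hx, hx1⟩ := exists_nontriv hS
      have hm : (⟨x, Subgroup.mem_top x⟩ : (⊤ : Subgroup G)) ∈ stabilizer (⊤ : Subgroup G) a := fix_a hS hx
      rw [h, Subgroup.mem_bot] at hm
      exact hx1 (congrArg Subtype.val hm)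

theorem gamma : GammaStep.{u, v} := by
  intro G Ω _ _ _ a t Q hs hW
  classical
  have hS := hs.setup
  haveI := finite_pts hS
  haveI := hs.simple
  let : Fintype Ω := Fintype.ofFinite Ω
  obtain ⟨hZ, hD⟩ := isZassenhaus_of_centT hs hW
  obtain ⟨k, hk2, hk⟩ := qNum_pow hs
  have hh : Fintype.card Ω = Nat.card Q + 1 := by rw [← Nat.card_eq_fintype_card, card_pts hS]
  have hfix : ∀ u ∈ Q, u ≠ 1 → ∀ c : Ω, u • c = c → c = a := fun u hu hu1 c hc => fix_only hS hu hu1 hc
  have hodd : Odd (qNum G a - 1) := hD ▸ hS.odd_card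
  have hqdvd : qNum G a ∣ Nat.card Q := card_zGroup hs ▸ Subgroup.card_dvd_of_le (zGroup_le hs)
  have hq4 : 4 ≤ qNum G a := by
    rw [hk]; exact (show 4 = 2 ^ 2 by norm_num) ▸ Nat.pow_le_pow_right (by norm_num) hk2
  rcases Cfsg.Lib.OddChar.Zassenhaus.feit_inequality hZ (ta_ne hS).symm hh hD hodd hS.le hh.symm hfix with
    h | ⟨h2, hna, -⟩
  · have hn : Nat.card Q = qNum G a := by
      obtain ⟨m, hm⟩ := hqdvd
      have hpos : 0 < Nat.card Q := Nat.card_pos
      have h1 : m ≠ 0 := fun h' => by rw [h', mul_zero] at hm; omega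
      have h2 : m < 2 := by
        by_contra h'
        have := Nat.mul_le_mul_left (qNum G a) (show 2 ≤ m by omega)
        omega
      rw [hm, show m = 1 by omega, mul_one]
    exact Or.inl ⟨caseL_of_card hs hn, hn⟩
  · obtain ⟨n, -, -, hn, he⟩ := (Cfsg.Lib.ZTGroups.core_of_kernel hZ (ta_ne hS).symm hS.le hh.symm hfix h2 hna).parameters
    have hq : qNum G a = 2 ^ n := by
      have : Nat.card (Cfsg.Lib.OddChar.Zassenhaus.stab₂ G a (t • a)) = qNum G a - 1 := hD
      rw [this] at he
      omega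
    rw [← hq] at hn
    refine Or.inr (Or.inl ⟨fun hL => ?_, hn, ?_⟩)
    · have hd := qNum_succ_dvd hs hL
      rw [card_group hS, hD, hn] at hd
      have hc1 : Nat.Coprime (qNum G a + 1) (qNum G a ^ 2) :=
        (Nat.coprime_self_add_left.2 (Nat.coprime_one_left _)).pow_right 2
      obtain ⟨j, hj⟩ : 2 ∣ qNum G a := hk ▸ dvd_pow_self 2 (by omega)
      have hc2 : Nat.Coprime (qNum G a + 1) (qNum G a - 1) := by
        have : Nat.Coprime (qNum G a - 1) 2 := Nat.coprime_two_right.2 hodd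
        rw [show qNum G a + 1 = 2 + (qNum G a - 1) by omega, Nat.coprime_add_self_left]
        exact this.symm
      have hd' := (hc1.mul_right hc2).dvd_of_dvd_mul_left hd
      have e : qNum G a ^ 2 + 1 = (qNum G a - 1) * (qNum G a + 1) + 2 := by
        obtain ⟨l, hl⟩ : ∃ l, qNum G a = l + 1 := ⟨qNum G a - 1, by omega⟩
        rw [hl, Nat.add_sub_cancel]; ring
      rw [e] at hd'
      have := Nat.le_of_dvd (by norm_num) ((Nat.dvd_add_right (dvd_mul_left _ _)).1 hd')
      omega
    · obtain ⟨x, y, hxy⟩ := hna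
      exact ⟨x, x.2, y, y.2, fun h => hxy (Subtype.ext h)⟩

end Cfsg.Lib.BenderSuzuki
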