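import Cfsg.Agent.BenderSuzuki.Steps
import Cfsg.Agent.RankOne.IrreducibleCoords
import Cfsg.Agent.RankOne.ZassenhausPSL

/-!
`|Q| = q`: the group is `PSL(2, q)`. The kernel `Q` is the additive group of a field, the inverted elements
of the two-point stabiliser are its multiplications and `t` is `x ↦ r / x`; simplicity removes the
field automorphisms.
-/

set_option autoImplicit false
set_option linter.unusedSectionVars false
set_option linter.style.haveILetI false

namespace Cfsg.Lib.BenderSuzuki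

open MulAction Cfsg.Lib.RankOne Matrix
open scoped OnePoint

universe u v

variable {G : Type u} {Ω : Type v} [Group G] [Finite G] [MulAction G Ω] {a : Ω} {t : G} {Q : Subgroup G}

theorem invl_conj (hs : Simple G Ω a t Q) {g z : G} (hg : g • a = a) (hz : z ∈ invl G a) :
    g * z * g⁻¹ ∈ invl G a :=
  conj_invol hs.setup hg hz

theorem exists_two_invl (hs : Simple G Ω a t Q) : ∃ x ∈ invl G a, ∃ y ∈ invl G a, x ≠ y := by
  obtain ⟨x, y, hx, hy, hxy, hx2, hy2, hc⟩ := hs.two
  obtain ⟨p, hp⟩ := exists_fix hs.setup hx2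
  have hyp : y • p = p := commute_fix hs.setup hx hx2 hc.symm hp
  obtain ⟨g, hg⟩ := trans₁ hs.setup p a
  have key : ∀ z : G, z ≠ 1 → z * z = 1 → z • p = p → g * z * g⁻¹ ∈ invl G a := fun z hz hz2 hzp => by
    refine ⟨?_, fun h => hz (by rwa [mul_inv_eq_one, mul_eq_left] at h), ?_⟩
    · show (g * z * g⁻¹) • a = a
      rw [← hg, mul_smul, mul_smul, inv_smul_smul, hzp]
    · rw [show g * z * g⁻¹ * (g * z * g⁻¹) = g * (z * z) * g⁻¹ by group, hz2]; group
  exact ⟨_, key x hx hx2 hp, _, key y hy hy2 hyp, fun h => hxy (mul_left_cancel (mul_right_cancel h))⟩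

/-- If `|Q| = q`, every nontrivial element of `Q` is an involution. -/
theorem invl_eq (hs : Simple G Ω a t Q) (hn : Nat.card Q = qNum G a) {x : G} (hx : x ∈ Q) (hx1 : x ≠ 1) :
    x ∈ invl G a := by
  classical
  let f : Option (invl G a) → Q := fun o => match o with
    | none => 1
    | some z => ⟨z.1, inv_mem_Q hs.setup z.2.1 z.2.2.2⟩
  have hf : Function.Injective f := by
    rintro (_ | z) (_ | w) h
    · rfl
    · exact absurd (congrArg Subtype.val h).symm w.2.2.1
    · exact absurd (congrArg Subtype.val h) z.2.2.1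
    · exact congrArg some (Subtype.ext (congrArg (fun q : Q => (q : G)) h))
  have hb := hf.bijective_of_nat_card_le (by rw [hn, Finite.card_option]; rfl)
  obtain ⟨o, ho⟩ := hb.2 ⟨x, hx⟩
  cases o with
  | none => exact absurd (congrArg Subtype.val ho).symm hx1
  | some z =>
    have h : z.1 = x := congrArg Subtype.val ho
    rw [← h]
    exact z.2

theorem linear_step : LinearStep.{u, v} := by
  intro G Ω _ _ _ a t Q hs _ hn
  classical
  haveI := hs.faithful
  haveI := hs.simple
  have hS := hs.setup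
  obtain ⟨C, hCK, hCcyc, hCn⟩ := inverted_subgroup hS hs.two
  have hCmem : ∀ k, k ∈ C ↔ k ∈ invK Ω a t := fun k => Set.ext_iff.1 hCK k
  have hCa : ∀ k ∈ C, k • a = a := fun k hk => ((hCmem k).1 hk).1.1
  have hCb : ∀ k ∈ C, k • t • a = t • a := fun k hk => ((hCmem k).1 hk).1.2
  have hQab : ∀ x ∈ Q, ∀ y ∈ Q, x * y = y * x := fun x hx y hy => by
    by_cases h : x = 1
    · rw [h, one_mul, mul_one]
    · exact (invol_central hS hs.two (invl_eq hs hn hx h)).2 y hy
  have hnt : 1 < Nat.card Q := by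
    obtain ⟨z, hz⟩ := exists_invol hS
    haveI : Nonempty (invl G a) := ⟨⟨z, hz⟩⟩
    have : 0 < Nat.card (invl G a) := Nat.card_pos
    rw [hn]; unfold qNum; omega
  obtain ⟨F, iF, iFt, ι, χ, hFc, hι, hι0, hιadd, hχ0, hχinj, hχone, hχmul, -⟩ :=
    exists_irreducible_coords Q C
      ⟨⟨fun x y => Subtype.ext (hQab x x.2 y y.2)⟩⟩
      (fun x hx y hy => congrArg Subtype.val
        ((IsCyclic.isMulCommutative (α := C)).is_comm.comm ⟨x, hx⟩ ⟨y, hy⟩))
      (fun k hk x hx => hS.conj_mem k (hCa k hk) x hx)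
      (fun k hk hk1 x hx hc => by
        by_contra hx1
        refine hk1 (conj_inj hS (invl_eq hs hn hx hx1) ((hCmem k).1 hk) ((hCmem 1).1 C.one_mem) ?_)
        rw [inv_one, one_mul, mul_one, mul_assoc, ← hc, inv_mul_cancel_left])
      hnt
      (fun W hWQ hWn => by
        rcases eq_or_ne W ⊥ with h | h
        · exact Or.inl h
        refine Or.inr (le_antisymm hWQ fun x hx => ?_)
        rcases eq_or_ne x 1 with rfl | hx1
        · exact W.one_mem
        obtain ⟨⟨w, hw⟩, hw1⟩ := Subgroup.ne_bot_iff_exists_ne_one.1 h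
        obtain ⟨k, hk, hkx⟩ := conj_surj hS
          (invl_eq hs hn (hWQ hw) fun h' => hw1 (Subtype.ext h')) (invl_eq hs hn hx hx1)
        have := hWn k⁻¹ (C.inv_mem ((hCmem k).2 hk)) w hw
        rwa [inv_inv, hkx] at this)
  have hι1 : (ι 1 : G) ≠ 1 := fun h => one_ne_zero (hι.1 ((Subtype.ext h : ι 1 = 1).trans hι0.symm))
  have hpre : ∀ q ∈ Q, ∃ y : F, (ι y : G) = q := fun q hq =>
    (hι.2 ⟨q, hq⟩).imp fun y hy => congrArg Subtype.val hy
  have hχsurj : ∀ c : F, c ≠ 0 → ∃ k : C, χ k = c := by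
    intro c hc
    have hc' : (ι c : G) ≠ 1 := fun h => hc (hι.1 ((Subtype.ext h : ι c = 1).trans hι0.symm))
    obtain ⟨k, hk, hkc⟩ := conj_surj hS (invl_eq hs hn (ι 1).2 hι1) (invl_eq hs hn (ι c).2 hc')
    refine ⟨⟨k⁻¹, C.inv_mem ((hCmem k).2 hk)⟩, hι.1 (Subtype.ext ?_)⟩
    have := hχmul ⟨k⁻¹, C.inv_mem ((hCmem k).2 hk)⟩ 1
    rw [mul_one] at this
    rw [this]
    simpa using hkc
  have hχinv : ∀ k : C, χ k⁻¹ = (χ k)⁻¹ := fun k => by
    refine eq_inv_of_mul_eq_one_left ?_
    rw [← hχone, inv_mul_cancel]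
    have h1 := hχone 1 1
    rw [one_mul] at h1
    exact (mul_eq_left₀ (hχ0 1)).1 h1.symm
  -- the characteristic and the number of elements
  have hexp : (ι (1 + 1) : G) = 1 := by
    rw [hιadd]; exact (invl_eq hs hn (ι 1).2 hι1).2.2
  have h2 : (1 : F) + 1 = 0 := hι.1 ((Subtype.ext hexp : ι (1 + 1) = 1).trans hι0.symm)
  have hchar : ringChar F = 2 := CharP.ringChar_of_prime_eq_zero Nat.prime_two (by
    rw [show ((2 : ℕ) : F) = 1 + 1 by norm_num, h2])
  haveI : CharP F 2 := hchar ▸ ringChar.charP F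
  obtain ⟨e, -, he⟩ := FiniteField.card F 2
  have he2 : 2 ≤ (e : ℕ) := by
    obtain ⟨x, hx, y, hy, hxy⟩ := exists_two_invl hs
    haveI : Nontrivial (invl G a) := ⟨⟨x, hx⟩, ⟨y, hy⟩, fun h => hxy (congrArg Subtype.val h)⟩
    have h3 : 1 < Nat.card (invl G a) := Finite.one_lt_card
    rw [hFc, hn] at he
    unfold qNum at he
    by_contra hlt
    have : (e : ℕ) = 1 := by have := e.pos; omega
    rw [this, pow_one] at he
    omega
  -- coordinates of the points
  let θ : OnePoint F → Ω := fun x => OnePoint.rec a (fun y => (ι y : G) • t • a) x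
  have hTa : ∀ x : F, (ι x : G) • a = a := fun x => fix_a hS (ι x).2
  have hTb : ∀ x : F, (ι x : G) • t • a ≠ a := fun x h =>
    ta_ne hS (smul_left_cancel (ι x : G) (h.trans (hTa x).symm))
  have hθ : Function.Bijective θ := by
    constructor
    · intro x y hxy
      cases x using OnePoint.rec with
      | infty =>
        cases y using OnePoint.rec with
        | infty => rfl
        | coe y => exact absurd hxy.symm (hTb y)
      | coe x =>
        cases y using OnePoint.rec with
        | infty => exact absurd hxy (hTb x)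
        | coe y =>
          obtain ⟨z, -, hz⟩ := regular hS (ta_ne hS) (hTb x)
          exact congrArg _ (hι.1 ((hz (ι x) rfl).trans (hz (ι y) (hxy : (ι x : G) • t • a = _).symm).symm))
    · intro c
      rcases eq_or_ne c a with rfl | hc
      · exact ⟨∞, rfl⟩
      · obtain ⟨z, hz, -⟩ := regular hS (ta_ne hS) hc
        obtain ⟨y, hy⟩ := hι.2 z
        exact ⟨y, by show (ι y : G) • t • a = c; rw [hy]; exact hz⟩
  have hθinf : θ ∞ = a := rfl
  have hθ0 : θ ((0 : F) : OnePoint F) = t • a := by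
    show (ι 0 : G) • t • a = t • a; rw [hι0]; exact one_smul G _
  have hT : ∀ z x : F, (ι z : G) • θ x = θ ((z + x : F) : OnePoint F) := fun z x => by
    show (ι z : G) • (ι x : G) • t • a = (ι (z + x) : G) • t • a
    rw [hιadd, ← mul_smul]; rfl
  have hM : ∀ (k : C) (x : F), (k : G) • θ x = θ ((χ k * x : F) : OnePoint F) := fun k x => by
    show (k : G) • (ι x : G) • t • a = (ι (χ k * x) : G) • t • a
    rw [hχmul, mul_smul, mul_smul, inv_smul_eq_iff.2 (hCb k k.2).symm]
  -- the involution `t`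
  obtain ⟨p, hp⟩ := hθ.2 (t • θ ((1 : F) : OnePoint F))
  obtain ⟨r, hr0, hr⟩ : ∃ r : F, r ≠ 0 ∧ t • θ ((1 : F) : OnePoint F) = θ (r : OnePoint F) := by
    cases p using OnePoint.rec with
    | infty =>
      exfalso
      have h1 : θ ((1 : F) : OnePoint F) = θ ((0 : F) : OnePoint F) :=
        smul_left_cancel t (by rw [hθ0, t_ta hS, ← hp, hθinf])
      exact one_ne_zero (OnePoint.coe_injective (hθ.1 h1))
    | coe r =>
      refine ⟨r, fun h => ?_, hp.symm⟩
      rw [h, hθ0] at hp
      exact OnePoint.coe_ne_infty (1 : F) (hθ.1 ((smul_left_cancel t hp.symm).trans hθinf.symm))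
  have ht1 : ∀ x : F, x ≠ 0 → t • θ (x : OnePoint F) = θ ((r / x : F) : OnePoint F) := by
    intro x hx
    obtain ⟨k, hk⟩ := hχsurj x hx
    have h1 : t * (k : G) = (k : G)⁻¹ * t := by
      rw [← ((hCmem k).1 k.2).2]; group
    rw [show θ (x : OnePoint F) = (k : G) • θ ((1 : F) : OnePoint F) by rw [hM, hk, mul_one],
      ← mul_smul, h1, mul_smul, hr, ← Subgroup.coe_inv, hM, hχinv, hk, div_eq_inv_mul]
  obtain ⟨s, hs'⟩ : ∃ s : F, r = s * s := FiniteField.isSquare_of_char_two hchar r
  have hs0 : s ≠ 0 := fun h => hr0 (by rw [hs', h, mul_zero])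
  -- the three matrices
  let e' := Equiv.ofBijective θ hθ
  let ψ : G →* Equiv.Perm (OnePoint F) :=
    e'.symm.permCongrHom.toMonoidHom.comp (MulAction.toPermHom G Ω)
  have hψ : ∀ (x : G) (p : OnePoint F), θ (ψ x p) = x • θ p := fun x p => by
    show e' (e'.symm (x • e' p)) = x • θ p
    rw [Equiv.apply_symm_apply]
    rfl
  have hψinj : Function.Injective ψ := fun x y hxy => eq_of_smul_eq_smul fun d : Ω => by
    obtain ⟨p, rfl⟩ := hθ.2 d
    rw [← hψ, ← hψ, hxy]
  let U : F → SpecialLinearGroup (Fin 2) F := fun z => ⟨!![1, z; 0, 1], by simp [det_fin_two]⟩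
  let D : (c : F) → c ≠ 0 → SpecialLinearGroup (Fin 2) F := fun c hc =>
    ⟨!![c, 0; 0, c⁻¹], by simp [det_fin_two, hc]⟩
  let J : SpecialLinearGroup (Fin 2) F :=
    ⟨!![0, s; s⁻¹, 0], by rw [det_fin_two]; simp [hs0]; exact neg_eq_of_add_eq_zero_right h2⟩
  have hψU : ∀ z : F, ψ (ι z : G) = mobius (U z) := fun z => Equiv.ext fun p => hθ.1 (by
    rw [hψ]
    cases p using OnePoint.rec with
    | infty => rw [mobius_infty]; simp [U, hθinf, hTa]
    | coe x => rw [mobius_some]; simp [U, hT, add_comm])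
  have hψC : ∀ (k : C) (c : F) (hc : c ≠ 0), χ k = c * c → ψ (k : G) = mobius (D c hc) :=
    fun k c hc hk => Equiv.ext fun p => hθ.1 (by
      rw [hψ]
      cases p using OnePoint.rec with
      | infty => rw [mobius_infty]; simp [D, hθinf, hCa k k.2]
      | coe x => rw [mobius_some]; simp [D, hc, hM, hk, mul_comm, mul_left_comm])
  have hψt : ψ t = mobius J := Equiv.ext fun p => hθ.1 (by
    rw [hψ]
    cases p using OnePoint.rec with
    | infty => rw [mobius_infty]; simp [J, hθinf, hθ0, hs0]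
    | coe x =>
      rcases eq_or_ne x 0 with rfl | hx
      · rw [mobius_some]; simp [J, hθ0, hθinf, t_ta hS]
      · rw [ht1 x hx, mobius_some]
        simp [J, hs0, hx, hs']
        field_simp)
  -- simplicity: `Q`, the inverted elements and `t` generate
  let N : Subgroup G := Subgroup.closure ((Q : Set G) ∪ (C : Set G) ∪ {t})
  have hQN : Q ≤ N := fun x hx => Subgroup.subset_closure (Or.inl (Or.inl hx))
  have hCN : C ≤ N := fun x hx => Subgroup.subset_closure (Or.inl (Or.inr hx))
  have htN : t ∈ N := Subgroup.subset_closure (Or.inr rfl)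
  have hWn : ∀ v ∈ centT Ω a t, v ∈ Subgroup.normalizer (N : Set G) := by
    have h1 : ∀ v ∈ centT Ω a t, ∀ x ∈ N, v * x * v⁻¹ ∈ N := by
      intro v hv x hx
      induction hx using Subgroup.closure_induction with
      | mem x hx =>
        rcases hx with (hx | hx) | hx
        · exact hQN (hS.conj_mem v (Subgroup.mem_inf.1 hv).1.1 x hx)
        · exact hCN (hCn v (Subgroup.mem_inf.1 hv).1 x hx)
        · rw [Set.mem_singleton_iff.1 hx, Subgroup.mem_centralizer_singleton_iff.1 (Subgroup.mem_inf.1 hv).2,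
            mul_inv_cancel_right]
          exact htN
      | one => simp
      | mul x y _ _ hx hy =>
        rw [show v * (x * y) * v⁻¹ = (v * x * v⁻¹) * (v * y * v⁻¹) by group]
        exact N.mul_mem hx hy
      | inv x _ hx =>
        rw [show v * x⁻¹ * v⁻¹ = (v * x * v⁻¹)⁻¹ by group]
        exact N.inv_mem hx
    intro v hv
    rw [Subgroup.mem_normalizer_iff]
    refine fun x => ⟨h1 v hv x, fun hx => ?_⟩
    have := h1 v⁻¹ (inv_mem hv) _ hx
    rwa [show v⁻¹ * (v * x * v⁻¹) * v⁻¹⁻¹ = x by group] at this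
  have hstab : stabilizer G a ≤ Subgroup.normalizer (N : Set G) := by
    intro g hg
    obtain ⟨q, hq, d, hd, rfl⟩ := qd hS hg
    obtain ⟨⟨v, k⟩, ⟨hv, hk, e⟩, -⟩ := factor hS.mul_self hS.odd_card (fun x hx => conj_D hS hx) hd
    simp only at hv hk e
    rw [e]
    exact mul_mem (Subgroup.le_normalizer (hQN hq))
      (mul_mem (hWn v hv) (Subgroup.le_normalizer (hCN ((hCmem k).2 hk))))
  have hNn : N.Normal := Subgroup.normalizer_eq_top_iff.1 (eq_top_iff.2 fun g _ => by
    by_cases hg : g ∈ stabilizer G a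
    · exact hstab hg
    · obtain ⟨⟨g1, g2⟩, ⟨h1, h2', e⟩, -⟩ := bruhat hS hg
      simp only at h1 h2' e
      rw [e]
      exact mul_mem (mul_mem (hstab h1) (Subgroup.le_normalizer htN)) (Subgroup.le_normalizer (hQN h2')))
  have hNtop : N = ⊤ := (IsSimpleGroup.eq_bot_or_eq_top_of_normal N hNn).resolve_left fun h => by
    rw [h, Subgroup.mem_bot] at htN
    exact hS.ne_one htN
  have hrange : ψ.range = (mobius (F := F)).range := by
    apply le_antisymm
    · rw [MonoidHom.range_eq_map, Subgroup.map_le_iff_le_comap, ← hNtop]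
      refine (Subgroup.closure_le _).2 ?_
      rintro x ((hx | hx) | hx)
      · obtain ⟨z, rfl⟩ := hpre x hx
        exact ⟨U z, (hψU z).symm⟩
      · obtain ⟨c, hc⟩ := FiniteField.isSquare_of_char_two hchar (χ ⟨x, hx⟩)
        have hc0 : c ≠ 0 := fun h => hχ0 ⟨x, hx⟩ (by rw [hc, h, mul_zero])
        exact ⟨D c hc0, (hψC ⟨x, hx⟩ c hc0 hc).symm⟩
      · rw [Set.mem_singleton_iff.1 hx]
        exact ⟨J, hψt.symm⟩
    · rintro _ ⟨M, rfl⟩
      -- move `∞` and `0` back, leaving a diagonal matrix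
      have hne : θ (mobius M ∞) ≠ θ (mobius M ((0 : F) : OnePoint F)) := fun h =>
        OnePoint.infty_ne_coe _ ((mobius M).injective (hθ.1 h))
      obtain ⟨g, hg1, hg2⟩ := trans₂ hS hne (ta_ne hS).symm
      have hgN : ψ g ∈ (mobius (F := F)).range := by
        have hg : g ∈ N := by rw [hNtop]; trivial
        refine (Subgroup.closure_le ((mobius (F := F)).range.comap ψ)).2 ?_ hg
        rintro x ((hx | hx) | hx)
        · obtain ⟨z, rfl⟩ := hpre x hx
          exact ⟨U z, (hψU z).symm⟩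
        · obtain ⟨c, hc⟩ := FiniteField.isSquare_of_char_two hchar (χ ⟨x, hx⟩)
          have hc0 : c ≠ 0 := fun h => hχ0 ⟨x, hx⟩ (by rw [hc, h, mul_zero])
          exact ⟨D c hc0, (hψC ⟨x, hx⟩ c hc0 hc).symm⟩
        · rw [Set.mem_singleton_iff.1 hx]
          exact ⟨J, hψt.symm⟩
      obtain ⟨M₀, hM₀⟩ := hgN
      have e1 : mobius (M₀ * M) ∞ = ∞ := hθ.1 (by
        rw [map_mul, Equiv.Perm.mul_apply, hM₀, hψ, hg1, hθinf])
      have e2 : mobius (M₀ * M) ((0 : F) : OnePoint F) = ((0 : F) : OnePoint F) := hθ.1 (by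
        rw [map_mul, Equiv.Perm.mul_apply, hM₀, hψ, hg2, hθ0])
      set P := M₀ * M with hP
      have hdet : P 0 0 * P 1 1 - P 0 1 * P 1 0 = 1 := by
        have := P.2
        rwa [det_fin_two] at this
      have h10 : P 1 0 = 0 := by
        rw [mobius_infty] at e1
        by_contra hne
        rw [if_neg hne] at e1
        exact OnePoint.coe_ne_infty _ e1
      have h11 : P 1 1 ≠ 0 := fun h => by rw [h, h10] at hdet; simp at hdet
      have h01 : P 0 1 = 0 := by
        rw [mobius_some, h10, if_neg (by simpa using h11)] at e2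
        have := OnePoint.coe_injective e2
        simpa [h11] using this
      have h00 : P 0 0 ≠ 0 := fun h => by rw [h, h01] at hdet; simp at hdet
      have hPD : P = D (P 0 0) h00 := by
        have h11' : P 1 1 = (P 0 0)⁻¹ := eq_inv_of_mul_eq_one_right (by
          simpa [h10] using hdet)
        ext i j
        fin_cases i <;> fin_cases j <;> simp [D, h10, h01, h11']
      obtain ⟨k, hk⟩ := hχsurj (P 0 0 * P 0 0) (mul_ne_zero h00 h00)
      refine ⟨g⁻¹ * k, ?_⟩
      rw [map_mul, map_inv, hψC k _ h00 hk, ← hPD, ← hM₀, map_mul, inv_mul_cancel_left]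
  refine Or.inl ⟨F, iF, iFt, ⟨e, he2, he⟩, ⟨?_⟩⟩
  exact ((MonoidHom.ofInjective hψinj).trans (MulEquiv.subgroupCongr hrange)).trans
    ((QuotientGroup.quotientKerEquivRange (mobius (F := F))).symm.trans
      (QuotientGroup.quotientMulEquivOfEq mobius_ker))

end Cfsg.Lib.BenderSuzuki
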