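import Cfsg.Agent.BenderSuzuki.Steps

/-!
The simple group generated by the involutions, and the group induced by a centraliser on its fixed points.
-/

set_option autoImplicit false
set_option linter.unusedSectionVars false
set_option linter.style.haveILetI false

namespace Cfsg.Lib.BenderSuzuki

open MulAction Cfsg.Lib.RankOne

universe u v

variable {G : Type u} {Ω : Type v} [Group G] [Finite G] [MulAction G Ω] {a : Ω} {t : G} {Q : Subgroup G}

/-- The subgroup generated by the involutions. -/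
def involGen (G : Type u) [Group G] : Subgroup G := Subgroup.closure {x | x ≠ 1 ∧ x * x = 1}

theorem invol_mem_gen {x : G} (h1 : x ≠ 1) (h2 : x * x = 1) : x ∈ involGen G :=
  Subgroup.subset_closure ⟨h1, h2⟩

instance involGen_normal : (involGen G).Normal := by
  refine ⟨fun n hn g => ?_⟩
  have h : (involGen G).map (MulAut.conj g).toMonoidHom ≤ involGen G := by
    rw [involGen, MonoidHom.map_closure, Subgroup.closure_le]
    rintro _ ⟨x, ⟨hx1, hx2⟩, rfl⟩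
    refine Subgroup.subset_closure ⟨fun h => hx1 ?_, ?_⟩
    · exact (MulAut.conj g).injective (h.trans (map_one _).symm)
    · show MulAut.conj g x * MulAut.conj g x = 1
      rw [← map_mul, hx2, map_one]
  exact h ⟨n, hn, rfl⟩

theorem t_mem_gen (hS : Cfsg.IsRankOneSetup G Ω a t Q) : t ∈ involGen G := invol_mem_gen hS.ne_one hS.mul_self

theorem inverted_mem_gen (hS : Cfsg.IsRankOneSetup G Ω a t Q) {k : G} (hk : k ∈ invK Ω a t) :
    k ∈ involGen G := by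
  obtain ⟨h1, h2, -⟩ := (swap_iff hS).2 ⟨k, hk, rfl⟩
  have := mul_mem (invol_mem_gen h1 h2) (t_mem_gen hS)
  rwa [mul_assoc, hS.mul_self, mul_one] at this

theorem Q_le_gen (hS : Cfsg.IsRankOneSetup G Ω a t Q)
    (h2 : ∃ x y : G, x ≠ 1 ∧ y ≠ 1 ∧ x ≠ y ∧ x * x = 1 ∧ y * y = 1 ∧ x * y = y * x) : Q ≤ involGen G := by
  obtain ⟨k, hk, hk1⟩ := exists_inverted_ne hS h2
  have hka : k ∈ stabilizer G a := (Subgroup.mem_inf.1 hk.1).1
  let f : Q → Q := fun x => ⟨(x : G) * (k * (x : G)⁻¹ * k⁻¹), mul_mem x.2 (hS.conj_mem k hka _ (inv_mem x.2))⟩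
  have hf : Function.Injective f := by
    intro x y h
    have h' : (x : G) * (k * (x : G)⁻¹ * k⁻¹) = (y : G) * (k * (y : G)⁻¹ * k⁻¹) := congrArg Subtype.val h
    have h1 : (x : G) * k * (x : G)⁻¹ = (y : G) * k * (y : G)⁻¹ := by
      calc (x : G) * k * (x : G)⁻¹ = (x : G) * (k * (x : G)⁻¹ * k⁻¹) * k := by group
        _ = (y : G) * (k * (y : G)⁻¹ * k⁻¹) * k := by rw [h']
        _ = _ := by group
    have hm : (y : G)⁻¹ * x ∈ Q ⊓ Subgroup.centralizer {k} := by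
      refine Subgroup.mem_inf.2 ⟨mul_mem (inv_mem y.2) x.2, Subgroup.mem_centralizer_singleton_iff.2 ?_⟩
      calc (y : G)⁻¹ * x * k = (y : G)⁻¹ * ((x : G) * k * (x : G)⁻¹) * x := by group
        _ = (y : G)⁻¹ * ((y : G) * k * (y : G)⁻¹) * x := by rw [h1]
        _ = k * ((y : G)⁻¹ * x) := by group
    rw [cent_inverted hS hk hk1, Subgroup.mem_bot, inv_mul_eq_one] at hm
    exact Subtype.ext hm.symm
  intro x hx
  obtain ⟨y, hy⟩ := (Finite.injective_iff_bijective.1 hf).2 ⟨x, hx⟩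
  have hy' : (y : G) * (k * (y : G)⁻¹ * k⁻¹) = x := congrArg Subtype.val hy
  rw [← hy', show (y : G) * (k * (y : G)⁻¹ * k⁻¹) = (y : G) * k * (y : G)⁻¹ * k⁻¹ by group]
  exact mul_mem (involGen_normal.conj_mem k (inverted_mem_gen hS hk) y) (inv_mem (inverted_mem_gen hS hk))

theorem gen_odd_index (hS : Cfsg.IsRankOneSetup G Ω a t Q)
    (h2 : ∃ x y : G, x ≠ 1 ∧ y ≠ 1 ∧ x ≠ y ∧ x * x = 1 ∧ y * y = 1 ∧ x * y = y * x) :
    Odd (involGen G).index := by
  haveI := Fact.mk Nat.prime_two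
  obtain ⟨P, hP⟩ := sylow_le hS
  refine Odd.of_dvd_nat ?_ (Subgroup.index_dvd_of_le (hP.trans (Q_le_gen hS h2)))
  rw [← Nat.not_even_iff_odd, even_iff_two_dvd]
  exact P.not_dvd_index

theorem gen_setup (hS : Cfsg.IsRankOneSetup G Ω a t Q)
    (h2 : ∃ x y : G, x ≠ 1 ∧ y ≠ 1 ∧ x ≠ y ∧ x * x = 1 ∧ y * y = 1 ∧ x * y = y * x) :
    Cfsg.IsRankOneSetup (involGen G) Ω a ⟨t, t_mem_gen hS⟩ (Q.subgroupOf (involGen G)) := by
  have hQ := Q_le_gen hS h2
  have key : ∀ b c : Ω, b ≠ c → ∃ g : involGen G, g • b = a ∧ g • c = t • a := by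
    intro b c hbc
    obtain ⟨g, hg⟩ : ∃ g : involGen G, g • b = a := by
      rcases eq_or_ne b a with rfl | hb
      · exact ⟨1, one_smul _ _⟩
      · obtain ⟨y, hy, -⟩ := regular hS hb (ta_ne hS)
        refine ⟨⟨t, t_mem_gen hS⟩ * ⟨y, hQ y.2⟩, ?_⟩
        show (t * (y : G)) • b = a
        rw [mul_smul, show (y : G) • b = t • a from hy, t_ta hS]
    have hga : g • c ≠ a := fun h => hbc (MulAction.injective g (hg.trans h.symm))
    obtain ⟨y, hy, -⟩ := regular hS hga (ta_ne hS)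
    refine ⟨⟨y, hQ y.2⟩ * g, ?_, ?_⟩
    · rw [mul_smul, hg]; exact fix_a hS y.2
    · rw [mul_smul]; exact hy
  refine
    { two_transitive := is_two_pretransitive_iff.2 fun {p q r s} hpq hrs => ?_
      mul_self := Subtype.ext hS.mul_self
      ne_one := fun h => hS.ne_one (congrArg Subtype.val h)
      not_mem := hS.not_mem
      le := fun x hx => hS.le hx
      conj_mem := fun h hh x hx => hS.conj_mem (h : G) hh (x : G) hx
      inf_eq_bot := ?_
      sup_eq := ?_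
      even_card := ?_
      odd_card := ?_ }
  · obtain ⟨g, g1, g2⟩ := key p q hpq
    obtain ⟨h, h1, h2⟩ := key r s hrs
    exact ⟨h⁻¹ * g, by rw [mul_smul, g1, inv_smul_eq_iff, h1], by rw [mul_smul, g2, inv_smul_eq_iff, h2]⟩
  · rw [Subgroup.eq_bot_iff_forall]
    intro x hx
    obtain ⟨hx1, hx2⟩ := Subgroup.mem_inf.1 hx
    have h : (x : G) ∈ Q ⊓ stabilizer G (t • a) := ⟨hx1, hx2⟩
    rw [hS.inf_eq_bot, Subgroup.mem_bot] at h
    exact Subtype.ext h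
  · refine le_antisymm (sup_le (fun x hx => hS.le hx) inf_le_left) fun g hg => ?_
    obtain ⟨q, hq, d, hd, e⟩ := qd hS (show (g : G) ∈ stabilizer G a from hg)
    have e' : g = (⟨q, hQ hq⟩ : involGen G) * ((⟨q, hQ hq⟩ : involGen G)⁻¹ * g) := (mul_inv_cancel_left _ _).symm
    rw [e']
    refine Subgroup.mul_mem_sup hq ?_
    have h3 : ((⟨q, hQ hq⟩ : involGen G)⁻¹ * g : G) = d := by
      show q⁻¹ * (g : G) = d
      rw [e, inv_mul_cancel_left]
    obtain ⟨hd1, hd2⟩ := Subgroup.mem_inf.1 hd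
    refine Subgroup.mem_inf.2 ⟨?_, ?_⟩
    · show (((⟨q, hQ hq⟩ : involGen G)⁻¹ * g : involGen G) : G) • a = a
      rw [Subgroup.coe_mul, Subgroup.coe_inv, show q⁻¹ * (g : G) = d from h3]; exact hd1
    · show (((⟨q, hQ hq⟩ : involGen G)⁻¹ * g : involGen G) : G) • t • a = t • a
      rw [Subgroup.coe_mul, Subgroup.coe_inv, show q⁻¹ * (g : G) = d from h3]; exact hd2
  · rw [Nat.card_congr (Subgroup.subgroupOfEquivOfLe hQ).toEquiv]
    exact hS.even_card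
  · refine hS.odd_card.of_dvd_nat ?_
    rw [← Subgroup.card_map_of_injective (involGen G).subtype_injective]
    refine Subgroup.card_dvd_of_le ?_
    rintro _ ⟨x, hx, rfl⟩
    exact hx

/-- Passing to the simple group generated by the involutions. -/
theorem reduceStep : ReduceStep.{u, v} := by
  intro G Ω _ _ _ _ a t Q hS h2
  refine ⟨involGen G, t_mem_gen hS, involGen_normal, gen_odd_index hS h2, Q_le_gen hS h2, ?_⟩
  have hL := gen_setup hS h2
  haveI hf : FaithfulSMul (involGen G) Ω :=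
    ⟨fun {x y} h => Subtype.ext (FaithfulSMul.eq_of_smul_eq_smul fun p => h p)⟩
  have h2L : ∃ x y : involGen G, x ≠ 1 ∧ y ≠ 1 ∧ x ≠ y ∧ x * x = 1 ∧ y * y = 1 ∧ x * y = y * x := by
    obtain ⟨x, y, hx1, hy1, hxy, hx2, hy2, hc⟩ := h2
    exact ⟨⟨x, invol_mem_gen hx1 hx2⟩, ⟨y, invol_mem_gen hy1 hy2⟩, fun h => hx1 (congrArg Subtype.val h),
      fun h => hy1 (congrArg Subtype.val h), fun h => hxy (congrArg Subtype.val h), Subtype.ext hx2, Subtype.ext hy2,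
      Subtype.ext hc⟩
  refine ⟨hL, hf, h2L, ?_⟩
  haveI : Nontrivial (involGen G) :=
    ⟨⟨⟨t, t_mem_gen hS⟩, 1, fun h => hS.ne_one (congrArg Subtype.val h)⟩⟩
  refine { eq_bot_or_eq_top_of_normal := fun N hN => ?_ }
  haveI := Fact.mk Nat.prime_two
  by_cases hev : 2 ∣ Nat.card N
  · right
    obtain ⟨u, hu⟩ := exists_prime_orderOf_dvd_card' (G := N) 2 hev
    have hu1 : (u : involGen G) ≠ 1 := fun h => by
      rw [← Subgroup.orderOf_coe, h, orderOf_one] at hu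
      exact absurd hu (by decide)
    have hu2 : (u : involGen G) * u = 1 := by
      have h := pow_orderOf_eq_one u
      rw [hu, pow_two] at h
      exact congrArg Subtype.val h
    rw [eq_top_iff]
    intro x _
    suffices h : involGen G ≤ N.map (involGen G).subtype by
      obtain ⟨y, hy, e⟩ := h x.2
      rwa [← Subtype.ext e]
    refine (Subgroup.closure_le _).2 ?_
    rintro w ⟨hw1, hw2⟩
    obtain ⟨g, hg⟩ := conj_all hL hu1 hu2 (v := ⟨w, invol_mem_gen hw1 hw2⟩)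
      (fun h => hw1 (congrArg Subtype.val h)) (Subtype.ext hw2)
    exact ⟨⟨w, invol_mem_gen hw1 hw2⟩, hg ▸ hN.conj_mem _ u.2 g, rfl⟩
  · left
    have hodd : Odd (Nat.card N) := by rwa [← Nat.not_even_iff_odd, even_iff_two_dvd]
    have hle : N ≤ (stabilizer (involGen G) a).normalCore :=
      core_eq hL h2L ▸ le_sSup ⟨hN, Nat.coprime_two_right.2 hodd⟩
    rw [Subgroup.eq_bot_iff_forall]
    intro z hz
    refine hf.eq_of_smul_eq_smul fun p => ?_
    rw [one_smul]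
    obtain ⟨g, rfl⟩ := trans₁ hL a p
    have h' : (g⁻¹ * z * g⁻¹⁻¹) • a = a := Subgroup.normalCore_le _ (hle (hN.conj_mem z hz g⁻¹))
    rwa [inv_inv, mul_smul, mul_smul, inv_smul_eq_iff] at h'

section Cent

variable {x : G}

/-- The fixed points of `x`. -/
abbrev FixPt (Ω : Type v) [MulAction G Ω] (x : G) : Type v := {p : Ω // x • p = p}

/-- The centraliser acts on the fixed points. -/
instance centAction : MulAction (Subgroup.centralizer ({x} : Set G)) (FixPt Ω x) where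
  smul c p := ⟨(c : G) • (p : Ω), by
    rw [← mul_smul, ← Subgroup.mem_centralizer_singleton_iff.1 c.2, mul_smul, p.2]⟩
  one_smul p := Subtype.ext (one_smul G (p : Ω))
  mul_smul c d p := Subtype.ext (mul_smul (c : G) (d : G) (p : Ω))

/-- The kernel of that action. -/
abbrev centKer (Ω : Type v) [MulAction G Ω] (x : G) : Subgroup (Subgroup.centralizer ({x} : Set G)) :=
  (MulAction.toPermHom (Subgroup.centralizer ({x} : Set G)) (FixPt Ω x)).ker

/-- The group induced on the fixed points. -/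
abbrev CentQ (Ω : Type v) [MulAction G Ω] (x : G) : Type u :=
  Subgroup.centralizer ({x} : Set G) ⧸ centKer Ω x

instance centQAction : MulAction (CentQ Ω x) (FixPt Ω x) :=
  MulAction.compHom (FixPt Ω x)
    (QuotientGroup.kerLift (MulAction.toPermHom (Subgroup.centralizer ({x} : Set G)) (FixPt Ω x)))

theorem centQ_smul (c : Subgroup.centralizer ({x} : Set G)) (p : FixPt Ω x) :
    (QuotientGroup.mk c : CentQ Ω x) • p = c • p := rfl

theorem centQ_coe (c : Subgroup.centralizer ({x} : Set G)) (p : FixPt Ω x) :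
    (((QuotientGroup.mk c : CentQ Ω x) • p : FixPt Ω x) : Ω) = (c : G) • (p : Ω) := rfl

instance centQ_faithful : FaithfulSMul (CentQ Ω x) (FixPt Ω x) :=
  ⟨fun {_ _} e => QuotientGroup.kerLift_injective _ (Equiv.ext e)⟩

/-- The image of `C_Q(x)`. -/
def imgQ (Ω : Type v) [MulAction G Ω] (x : G) (Q : Subgroup G) : Subgroup (CentQ Ω x) :=
  (Q.subgroupOf (Subgroup.centralizer ({x} : Set G))).map (QuotientGroup.mk' (centKer Ω x))

theorem mem_imgQ {g : CentQ Ω x} : g ∈ imgQ Ω x Q ↔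
    ∃ y : Subgroup.centralizer ({x} : Set G), (y : G) ∈ Q ∧ QuotientGroup.mk y = g := Iff.rfl

variable (hS : Cfsg.IsRankOneSetup G Ω a t Q) (hx : x ∈ centT Ω a t)
include hS hx

theorem x_fix_a : x • a = a := (Subgroup.mem_inf.1 (Subgroup.mem_inf.1 hx).1).1

theorem x_fix_ta : x • t • a = t • a := (Subgroup.mem_inf.1 (Subgroup.mem_inf.1 hx).1).2

theorem t_mem_cent : t ∈ Subgroup.centralizer ({x} : Set G) :=
  Subgroup.mem_centralizer_singleton_iff.2
    (Subgroup.mem_centralizer_singleton_iff.1 (Subgroup.mem_inf.1 hx).2).symm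

theorem q_inj {y : Subgroup.centralizer ({x} : Set G)} (hy : (y : G) ∈ Q)
    (h : (QuotientGroup.mk y : CentQ Ω x) = 1) : (y : G) = 1 := by
  by_contra hne
  have h1 := centQ_coe y (⟨t • a, x_fix_ta hS hx⟩ : FixPt Ω x)
  rw [h, one_smul] at h1
  exact ta_ne hS (fix_only hS hy hne h1.symm)

theorem q_eq {y z : Subgroup.centralizer ({x} : Set G)} (hy : (y : G) ∈ Q) (hz : (z : G) ∈ Q)
    (h : (QuotientGroup.mk y : CentQ Ω x) = QuotientGroup.mk z) : y = z := by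
  have h2 : (((y⁻¹ * z : Subgroup.centralizer ({x} : Set G))) : G) = 1 :=
    q_inj hS hx (by rw [Subgroup.coe_mul, Subgroup.coe_inv]; exact mul_mem (inv_mem hy) hz)
      (by rw [QuotientGroup.mk_mul, QuotientGroup.mk_inv, h, inv_mul_cancel])
  rw [Subgroup.coe_mul, Subgroup.coe_inv, inv_mul_eq_one] at h2
  exact Subtype.ext h2

theorem card_imgQ : Nat.card (imgQ Ω x Q) = Nat.card ↥(Q ⊓ Subgroup.centralizer ({x} : Set G)) := by
  let f : ↥(Q ⊓ Subgroup.centralizer ({x} : Set G)) → imgQ Ω x Q := fun y =>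
    ⟨QuotientGroup.mk ⟨y.1, y.2.2⟩, mem_imgQ.2 ⟨⟨y.1, y.2.2⟩, y.2.1, rfl⟩⟩
  refine (Nat.card_eq_of_bijective f ⟨fun y z h => ?_, fun g => ?_⟩).symm
  · exact Subtype.ext (congrArg (fun c : Subgroup.centralizer ({x} : Set G) => (c : G))
      (q_eq hS hx (y := ⟨y.1, y.2.2⟩) (z := ⟨z.1, z.2.2⟩) y.2.1 z.2.1 (congrArg Subtype.val h)))
  · obtain ⟨y, hy, e⟩ := mem_imgQ.1 g.2
    exact ⟨⟨y, hy, y.2⟩, Subtype.ext e⟩

variable (h3 : ∃ b c d : Ω, b ≠ c ∧ b ≠ d ∧ c ≠ d ∧ FixX Ω {x} b ∧ FixX Ω {x} c ∧ FixX Ω {x} d)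
include h3

theorem cent_setup :
    Cfsg.IsRankOneSetup (CentQ Ω x) (FixPt Ω x) ⟨a, x_fix_a hS hx⟩
      (QuotientGroup.mk ⟨t, t_mem_cent hS hx⟩) (imgQ Ω x Q) := by
  have hX : ({x} : Set G) ⊆ (twoStab Ω a t : Set G) := Set.singleton_subset_iff.2 (Subgroup.mem_inf.1 hx).1
  have hf : ∀ p : FixPt Ω x, FixX Ω {x} (p : Ω) := fun p y hy => by rw [Set.mem_singleton_iff.1 hy]; exact p.2
  refine
    { two_transitive := is_two_pretransitive_iff.2 fun {p q r s} hpq hrs => ?_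
      mul_self := ?_
      ne_one := fun h => ?_
      not_mem := fun h => hS.not_mem (congrArg Subtype.val h)
      le := ?_
      conj_mem := ?_
      inf_eq_bot := ?_
      sup_eq := ?_
      even_card := ?_
      odd_card := ?_ }
  · obtain ⟨g, hg, g1, g2⟩ := fix_two_trans hS hX h3 (hf p) (hf q) (hf r) (hf s)
      (fun h => hpq (Subtype.ext h)) (fun h => hrs (Subtype.ext h))
    exact ⟨QuotientGroup.mk ⟨g, hg⟩, Subtype.ext g1, Subtype.ext g2⟩
  · rw [← QuotientGroup.mk_mul]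
    exact congrArg QuotientGroup.mk (Subtype.ext hS.mul_self)
  · have h1 := congrArg (fun g : CentQ Ω x => ((g • (⟨a, x_fix_a hS hx⟩ : FixPt Ω x) : FixPt Ω x) : Ω)) h
    simp only [one_smul] at h1
    exact ta_ne hS h1
  · intro g hg
    obtain ⟨y, hy, rfl⟩ := mem_imgQ.1 hg
    exact Subtype.ext (fix_a hS hy)
  · intro h hh g hg
    obtain ⟨c, rfl⟩ := QuotientGroup.mk_surjective h
    obtain ⟨y, hy, rfl⟩ := mem_imgQ.1 hg
    exact mem_imgQ.2 ⟨c * y * c⁻¹, hS.conj_mem (c : G) (congrArg Subtype.val hh) y hy, rfl⟩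
  · rw [Subgroup.eq_bot_iff_forall]
    intro g hg
    obtain ⟨hg1, hg2⟩ := Subgroup.mem_inf.1 hg
    obtain ⟨y, hy, rfl⟩ := mem_imgQ.1 hg1
    have h1 : (y : G) • t • a = t • a := congrArg Subtype.val hg2
    rw [show y = 1 from Subtype.ext (by
      by_contra hne
      exact ta_ne hS (fix_only hS hy hne h1)), QuotientGroup.mk_one]
  · refine le_antisymm (sup_le ?_ inf_le_left) fun g hg => ?_
    · intro g hg
      obtain ⟨y, hy, rfl⟩ := mem_imgQ.1 hg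
      exact Subtype.ext (fix_a hS hy)
    obtain ⟨c, rfl⟩ := QuotientGroup.mk_surjective g
    have hca : (c : G) • a = a := congrArg Subtype.val hg
    have hcta : (c : G) • t • a ≠ a := fun h => ta_ne hS (MulAction.injective (c : G) (h.trans hca.symm))
    obtain ⟨y, hy, hyb⟩ := fix_trans_a hS hX (ta_ne hS) hcta
      (hf ⟨t • a, x_fix_ta hS hx⟩) (hf (c • (⟨t • a, x_fix_ta hS hx⟩ : FixPt Ω x)))
    obtain ⟨hyQ, hyc⟩ := Subgroup.mem_inf.1 hy
    rw [← mul_inv_cancel_left (⟨y, hyc⟩ : Subgroup.centralizer ({x} : Set G)) c, QuotientGroup.mk_mul]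
    refine Subgroup.mul_mem_sup (mem_imgQ.2 ⟨⟨y, hyc⟩, hyQ, rfl⟩) (Subgroup.mem_inf.2 ⟨?_, ?_⟩)
    · refine Subtype.ext ?_
      show (y⁻¹ * (c : G)) • a = a
      rw [mul_smul, hca, inv_smul_eq_iff, fix_a hS hyQ]
    · refine Subtype.ext ?_
      show (y⁻¹ * (c : G)) • t • a = t • a
      rw [mul_smul, inv_smul_eq_iff, hyb]
  · rw [card_imgQ hS hx, inf_comm]
    exact cent_even hS hX h3
  · refine Odd.of_dvd_nat ?_ (Subgroup.card_dvd_of_le (K := ((twoStab Ω a t).subgroupOf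
      (Subgroup.centralizer ({x} : Set G))).map (QuotientGroup.mk' (centKer Ω x))) fun g hg => ?_)
    · refine hS.odd_card.of_dvd_nat ((Subgroup.card_map_dvd _ _).trans ?_)
      rw [← Subgroup.card_map_of_injective (Subgroup.centralizer ({x} : Set G)).subtype_injective]
      refine Subgroup.card_dvd_of_le ?_
      rintro _ ⟨d, hd, rfl⟩
      exact hd
    · obtain ⟨c, rfl⟩ := QuotientGroup.mk_surjective g
      exact ⟨c, Subgroup.mem_inf.2 ⟨congrArg Subtype.val hg.1, congrArg Subtype.val hg.2⟩, rfl⟩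

omit h3

theorem invol_lift (hC : Cfsg.IsRankOneSetup (CentQ Ω x) (FixPt Ω x) ⟨a, x_fix_a hS hx⟩
      (QuotientGroup.mk ⟨t, t_mem_cent hS hx⟩) (imgQ Ω x Q)) {g : CentQ Ω x}
    (hg : g ∈ invl (CentQ Ω x) (⟨a, x_fix_a hS hx⟩ : FixPt Ω x)) :
    ∃ z : Subgroup.centralizer ({x} : Set G), (z : G) ∈ invl G a ∧ QuotientGroup.mk z = g := by
  obtain ⟨y, hy, rfl⟩ := mem_imgQ.1 (inv_mem_Q hC hg.1 hg.2.2)
  refine ⟨y, ⟨fix_a hS hy, fun h => hg.2.1 ?_, ?_⟩, rfl⟩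
  · rw [show y = 1 from Subtype.ext h, QuotientGroup.mk_one]
  · exact q_inj hS hx (y := y * y) (mul_mem hy hy) (by rw [QuotientGroup.mk_mul]; exact hg.2.2)

theorem invol_push {z : G} (hz : z ∈ invl G a) (hc : z ∈ Subgroup.centralizer ({x} : Set G)) :
    (QuotientGroup.mk ⟨z, hc⟩ : CentQ Ω x) ∈ invl (CentQ Ω x) (⟨a, x_fix_a hS hx⟩ : FixPt Ω x) :=
  ⟨Subtype.ext hz.1, fun h => hz.2.1 (q_inj hS hx (y := ⟨z, hc⟩) (inv_mem_Q hS hz.1 hz.2.2) h),
    by rw [← QuotientGroup.mk_mul]; exact congrArg QuotientGroup.mk (Subtype.ext hz.2.2)⟩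

end Cent

/-- The centraliser of a nontrivial element of `C_D(t)`. -/
theorem centStep : CentStep.{u, v} := by
  intro G Ω _ _ _ a t Q hG hIH x hx hx1 q₀ hq₀ h4
  have hS := hG.setup
  have hxc : ∀ {z : G}, z ∈ invl G a → Commute x z → z ∈ Subgroup.centralizer ({x} : Set G) :=
    fun _ h => Subgroup.mem_centralizer_singleton_iff.2 h.eq.symm
  obtain ⟨z1, z2, hz12⟩ : ∃ z1 z2 : {z // z ∈ invl G a ∧ Commute x z}, z1 ≠ z2 := by
    haveI : Finite {z // z ∈ invl G a ∧ Commute x z} := Subtype.finite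
    exact Finite.one_lt_card_iff_nontrivial.1 (by omega) |>.exists_pair_ne
  have h3 : ∃ b c d : Ω, b ≠ c ∧ b ≠ d ∧ c ≠ d ∧ FixX Ω {x} b ∧ FixX Ω {x} c ∧ FixX Ω {x} d := by
    refine ⟨a, t • a, (z1 : G) • t • a, (ta_ne hS).symm, fun h => ?_, fun h => z1.2.1.2.1 ?_, ?_, ?_, ?_⟩
    · exact ta_ne hS (MulAction.injective (z1 : G) (h.symm.trans z1.2.1.1.symm))
    · by_contra hne
      exact ta_ne hS (fix_only hS (inv_mem_Q hS z1.2.1.1 z1.2.1.2.2) hne h.symm)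
    all_goals
      intro w hw
      rw [Set.mem_singleton_iff.1 hw]
    · exact x_fix_a hS hx
    · exact x_fix_ta hS hx
    · rw [← mul_smul, z1.2.2.eq, mul_smul, x_fix_ta hS hx]
  have hC := cent_setup hS hx h3
  have h2C : ∃ g h : CentQ Ω x, g ≠ 1 ∧ h ≠ 1 ∧ g ≠ h ∧ g * g = 1 ∧ h * h = 1 ∧ g * h = h * g := by
    have hp := invol_push hS hx z1.2.1 (hxc z1.2.1 z1.2.2)
    have hp' := invol_push hS hx z2.2.1 (hxc z2.2.1 z2.2.2)
    refine ⟨_, _, hp.2.1, hp'.2.1, fun h => hz12 (Subtype.ext ?_), hp.2.2, hp'.2.2, ?_⟩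
    · exact congrArg (fun c : Subgroup.centralizer ({x} : Set G) => (c : G))
        (q_eq hS hx (y := ⟨z1.1, hxc z1.2.1 z1.2.2⟩) (z := ⟨z2.1, hxc z2.2.1 z2.2.2⟩)
        (inv_mem_Q hS z1.2.1.1 z1.2.1.2.2) (inv_mem_Q hS z2.2.1.1 z2.2.1.2.2) h)
    · rw [← QuotientGroup.mk_mul, ← QuotientGroup.mk_mul]
      exact congrArg QuotientGroup.mk (Subtype.ext ((invol_central hS hG.two z1.2.1).2 _
        (inv_mem_Q hS z2.2.1.1 z2.2.1.2.2)))
  obtain ⟨L, htL, -, -, hRL, hL⟩ := reduceStep hC h2C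
  have hlt : Nat.card L < Nat.card G := by
    refine (Subgroup.card_le_card_group L).trans_lt (lt_of_lt_of_le ?_ (Subgroup.card_le_card_group
      (Subgroup.centralizer ({x} : Set G))))
    have hxk : (⟨x, Subgroup.mem_centralizer_singleton_iff.2 rfl⟩ : Subgroup.centralizer ({x} : Set G)) ∈
        centKer Ω x := Equiv.ext fun p => Subtype.ext p.2
    rw [Subgroup.card_eq_card_quotient_mul_card_subgroup (centKer Ω x)]
    refine lt_mul_of_one_lt_right Nat.card_pos (Subgroup.one_lt_card_iff_ne_bot _ |>.2 fun h => ?_)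
    rw [h, Subgroup.mem_bot] at hxk
    exact hx1 (congrArg Subtype.val hxk)
  have hgood := hIH L (FixPt Ω x) ⟨a, x_fix_a hS hx⟩ ⟨_, htL⟩ ((imgQ Ω x Q).subgroupOf L) hlt hL
  -- the number of involutions
  have hq : qNum L (⟨a, x_fix_a hS hx⟩ : FixPt Ω x) = q₀ := by
    rw [← hq₀]
    refine congrArg (· + 1) (Nat.card_eq_of_bijective
      (fun z : {z // z ∈ invl G a ∧ Commute x z} =>
        (⟨⟨QuotientGroup.mk ⟨z.1, hxc z.2.1 z.2.2⟩,
            hRL (mem_imgQ.2 ⟨⟨z.1, hxc z.2.1 z.2.2⟩, inv_mem_Q hS z.2.1.1 z.2.1.2.2, rfl⟩)⟩,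
          (invol_push hS hx z.2.1 (hxc z.2.1 z.2.2)).1,
          fun h => (invol_push hS hx z.2.1 (hxc z.2.1 z.2.2)).2.1 (congrArg Subtype.val h),
          Subtype.ext (invol_push hS hx z.2.1 (hxc z.2.1 z.2.2)).2.2⟩ :
          invl L (⟨a, x_fix_a hS hx⟩ : FixPt Ω x))) ⟨fun y z h => ?_, fun g => ?_⟩).symm
    · exact Subtype.ext (congrArg (fun c : Subgroup.centralizer ({x} : Set G) => (c : G))
        (q_eq hS hx (y := ⟨y.1, hxc y.2.1 y.2.2⟩)
        (z := ⟨z.1, hxc z.2.1 z.2.2⟩) (inv_mem_Q hS y.2.1.1 y.2.1.2.2) (inv_mem_Q hS z.2.1.1 z.2.1.2.2)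
        (congrArg (fun w => (w.1 : CentQ Ω x)) h)))
    · obtain ⟨z, hz, e⟩ := invol_lift hS hx hC (g := ((g.1 : L) : CentQ Ω x))
        ⟨g.2.1, fun h => g.2.2.1 (Subtype.ext h), congrArg Subtype.val g.2.2.2⟩
      exact ⟨⟨z, hz, (Subgroup.mem_centralizer_singleton_iff.1 z.2).symm⟩, Subtype.ext (Subtype.ext e)⟩
  have hcard : Nat.card ↥((imgQ Ω x Q).subgroupOf L) = Nat.card ↥(Q ⊓ Subgroup.centralizer ({x} : Set G)) := by
    rw [Nat.card_congr (Subgroup.subgroupOfEquivOfLe hRL).toEquiv, card_imgQ hS hx]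
  -- the partner of `t`
  obtain ⟨⟨s, r⟩, ⟨hs, hr, hsr⟩, hpu⟩ := partner hS
  obtain ⟨hxs, hxr⟩ : Commute x s ∧ Commute x r := by
    have hxt : Commute x t := Subgroup.mem_centralizer_singleton_iff.1 (Subgroup.mem_inf.1 hx).2
    have h := hpu (x * s * x⁻¹, x * r * x⁻¹) ⟨conj_invol hS (x_fix_a hS hx) hs,
      hS.conj_mem x (x_fix_a hS hx) r hr, by
        have hxi : Commute x⁻¹ t := hxt.inv_left
        calc t * (x * s * x⁻¹) * t = (t * x) * s * (x⁻¹ * t) := by simp only [mul_assoc]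
          _ = (x * t) * s * (t * x⁻¹) := by rw [hxt.eq, hxi.eq]
          _ = x * (t * s * t) * x⁻¹ := by simp only [mul_assoc]
          _ = x * (r⁻¹ * t * r) * x⁻¹ := by rw [hsr]
          _ = x * r⁻¹ * x⁻¹ * (x * t * x⁻¹) * (x * r * x⁻¹) := by group
          _ = _ := by rw [hxt.eq, mul_inv_cancel_right]; group⟩
    exact ⟨mul_inv_eq_iff_eq_mul.1 (congrArg Prod.fst h), mul_inv_eq_iff_eq_mul.1 (congrArg Prod.snd h)⟩
  have hrc : r ∈ Subgroup.centralizer ({x} : Set G) := Subgroup.mem_centralizer_singleton_iff.2 hxr.eq.symm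
  have hcase : CaseL a t Q ↔ CaseL (⟨a, x_fix_a hS hx⟩ : FixPt Ω x) (⟨_, htL⟩ : L) ((imgQ Ω x Q).subgroupOf L) := by
    have hsL : (QuotientGroup.mk ⟨s, hxc hs hxs⟩ : CentQ Ω x) ∈ L :=
      hRL (mem_imgQ.2 ⟨⟨s, hxc hs hxs⟩, inv_mem_Q hS hs.1 hs.2.2, rfl⟩)
    have hrL : (QuotientGroup.mk ⟨r, hrc⟩ : CentQ Ω x) ∈ L := hRL (mem_imgQ.2 ⟨⟨r, hrc⟩, hr, rfl⟩)
    have hsI := invol_push hS hx hs (hxc hs hxs)
    have hpair : (⟨_, hsL⟩ : L) ∈ invl L (⟨a, x_fix_a hS hx⟩ : FixPt Ω x) ∧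
        (⟨_, hrL⟩ : L) ∈ (imgQ Ω x Q).subgroupOf L ∧
        (⟨_, htL⟩ : L) * ⟨_, hsL⟩ * ⟨_, htL⟩ = (⟨_, hrL⟩ : L)⁻¹ * ⟨_, htL⟩ * ⟨_, hrL⟩ := by
      refine ⟨⟨hsI.1, fun h => hsI.2.1 (congrArg Subtype.val h), Subtype.ext hsI.2.2⟩,
        mem_imgQ.2 ⟨⟨r, hrc⟩, hr, rfl⟩, Subtype.ext ?_⟩
      simp only [Subgroup.coe_mul, Subgroup.coe_inv, ← QuotientGroup.mk_mul, ← QuotientGroup.mk_inv]
      exact congrArg QuotientGroup.mk (Subtype.ext hsr)
    constructor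
    · rintro ⟨s', hs', r', hr', hr2, e⟩
      obtain ⟨rfl, rfl⟩ := Prod.mk.inj (hpu (s', r') ⟨hs', hr', e⟩)
      refine ⟨_, hpair.1, _, hpair.2.1, Subtype.ext ?_, hpair.2.2⟩
      rw [Subgroup.coe_mul, ← QuotientGroup.mk_mul]
      exact congrArg QuotientGroup.mk (Subtype.ext hr2)
    · rintro ⟨g, hg, h, hh, hh2, e⟩
      obtain ⟨p, -, hpL⟩ := partner hL.setup
      have heq := (hpL (g, h) ⟨hg, hh, e⟩).trans (hpL (⟨_, hsL⟩, ⟨_, hrL⟩) hpair).symm
      rw [(Prod.mk.inj heq).2] at hh2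
      refine ⟨s, hs, r, hr, ?_, hsr⟩
      exact q_inj hS hx (y := ⟨r, hrc⟩ * ⟨r, hrc⟩) (mul_mem hr hr)
        (by rw [QuotientGroup.mk_mul]; exact congrArg Subtype.val hh2)
  have hna : NonAb ((imgQ Ω x Q).subgroupOf L) → NonAb (Q ⊓ Subgroup.centralizer ({x} : Set G)) := by
    rintro ⟨g, hg, h, hh, hne⟩
    obtain ⟨y, hy, ey⟩ := mem_imgQ.1 hg
    obtain ⟨z, hz, ez⟩ := mem_imgQ.1 hh
    refine ⟨y, ⟨hy, y.2⟩, z, ⟨hz, z.2⟩, fun e => hne (Subtype.ext ?_)⟩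
    have e' : y * z = z * y := Subtype.ext e
    have ey' : (QuotientGroup.mk y : CentQ Ω x) = ((g : L) : CentQ Ω x) := ey
    have ez' : (QuotientGroup.mk z : CentQ Ω x) = ((h : L) : CentQ Ω x) := ez
    rw [Subgroup.coe_mul, Subgroup.coe_mul, ← ey', ← ez', ← QuotientGroup.mk_mul, ← QuotientGroup.mk_mul, e']
  rcases hgood.dich with ⟨hl, hn⟩ | ⟨hl, hn, hnab⟩ | ⟨hl, hn, hnab, hV⟩
  · rw [hcard, hq] at hn
    exact ⟨fun _ => Or.inl hn, fun h => absurd (hcase.2 hl) h⟩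
  · rw [hcard, hq] at hn
    exact ⟨fun h => absurd (hcase.1 h) hl, fun _ => ⟨hn, hna hnab⟩⟩
  have hnd := hgood.nondeg hn
  rw [hcard, hq] at hn
  refine ⟨fun _ => Or.inr ⟨hn, hna hnab, ?_, ?_⟩, fun h => absurd (hcase.2 hl) h⟩
  · intro y hy hy2 z hz hxz
    have hy' : (QuotientGroup.mk ⟨y, hy.2⟩ : CentQ Ω x) ∈ imgQ Ω x Q := mem_imgQ.2 ⟨⟨y, hy.2⟩, hy.1, rfl⟩
    have hzI := invol_push hS hx hz (hxc hz hxz)
    obtain ⟨g, hg, e⟩ := hnd ⟨_, hRL hy'⟩ hy'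
      (fun h => hy2 (q_inj hS hx (y := ⟨y, hy.2⟩ * ⟨y, hy.2⟩) (mul_mem hy.1 hy.1)
        (by rw [QuotientGroup.mk_mul]; exact congrArg Subtype.val h)))
      ⟨_, hRL (mem_imgQ.2 ⟨⟨z, hxc hz hxz⟩, inv_mem_Q hS hz.1 hz.2.2, rfl⟩)⟩
      ⟨hzI.1, fun h => hzI.2.1 (congrArg Subtype.val h), Subtype.ext hzI.2.2⟩
    obtain ⟨y', hy'', ey⟩ := mem_imgQ.1 hg
    refine ⟨y', ⟨hy'', y'.2⟩, ?_⟩
    have e2 : (QuotientGroup.mk (⟨y, hy.2⟩ * y' * ⟨y, hy.2⟩⁻¹ * y'⁻¹) : CentQ Ω x) =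
        QuotientGroup.mk ⟨z, hxc hz hxz⟩ := by
      have h := congrArg Subtype.val e
      have ey' : (QuotientGroup.mk y' : CentQ Ω x) = ((g : L) : CentQ Ω x) := ey
      simp only [Subgroup.coe_mul, Subgroup.coe_inv, ← ey'] at h
      simp only [QuotientGroup.mk_mul, QuotientGroup.mk_inv]
      exact h
    exact congrArg Subtype.val (q_eq hS hx
      (y := ⟨y, hy.2⟩ * y' * ⟨y, hy.2⟩⁻¹ * y'⁻¹)
      (mul_mem (mul_mem (mul_mem hy.1 hy'') (inv_mem hy.1)) (inv_mem hy''))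
      (inv_mem_Q hS hz.1 hz.2.2) e2)
  · obtain ⟨⟨δ, hδ⟩, hδ1⟩ := Subgroup.ne_bot_iff_exists_ne_one.1 hV
    obtain ⟨hδD, hδI⟩ := Subgroup.mem_inf.1 hδ
    obtain ⟨d, hd⟩ := QuotientGroup.mk_surjective (δ : CentQ Ω x)
    have hda : (d : G) • a = a := by
      have h := congrArg Subtype.val (Subgroup.mem_inf.1 hδD).1
      change (((δ : CentQ Ω x) • (⟨a, x_fix_a hS hx⟩ : FixPt Ω x) : FixPt Ω x) : Ω) = a at h
      rwa [← hd] at h
    have hdta : (d : G) • t • a = t • a := by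
      have h := congrArg Subtype.val (Subgroup.mem_inf.1 hδD).2
      change (((δ : CentQ Ω x) • (⟨t • a, x_fix_ta hS hx⟩ : FixPt Ω x) : FixPt Ω x) : Ω) = t • a at h
      rwa [← hd] at h
    have hdD : (d : G) ∈ twoStab Ω a t := Subgroup.mem_inf.2 ⟨hda, hdta⟩
    have hdz : ∀ z ∈ invl G a, Commute x z → Commute (d : G) z := by
      intro z hz hxz
      have hzI := invol_push hS hx hz (hxc hz hxz)
      have h := Subgroup.mem_centralizer_iff.1 hδI
        ⟨_, hRL (mem_imgQ.2 ⟨⟨z, hxc hz hxz⟩, inv_mem_Q hS hz.1 hz.2.2, rfl⟩)⟩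
        ⟨hzI.1, fun h => hzI.2.1 (congrArg Subtype.val h), Subtype.ext hzI.2.2⟩
      have h' := congrArg Subtype.val h
      simp only [Subgroup.coe_mul, ← hd] at h'
      have hz' := conj_invol hS hda hz
      have e := q_eq hS hx (y := d * ⟨z, hxc hz hxz⟩ * d⁻¹) (z := ⟨z, hxc hz hxz⟩)
        (inv_mem_Q hS hz'.1 hz'.2.2) (inv_mem_Q hS hz.1 hz.2.2)
        (by rw [QuotientGroup.mk_mul, QuotientGroup.mk_mul, QuotientGroup.mk_inv, ← h', mul_inv_cancel_right])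
      exact mul_inv_eq_iff_eq_mul.1 (congrArg Subtype.val e)
    have hdt : (d : G) ∈ centT Ω a t := by
      show (d : G) ∈ twoStab Ω a t ⊓ Subgroup.centralizer {t}
      rw [cent_eq hS hs hr hsr]
      exact Subgroup.mem_inf.2 ⟨hdD, Subgroup.mem_centralizer_singleton_iff.2 (hdz s hs hxs).eq⟩
    refine ⟨d, hdt, Subgroup.mem_centralizer_singleton_iff.1 d.2, hdz, ?_⟩
    by_contra hall
    push Not at hall
    refine hδ1 (Subtype.ext (Subtype.ext ?_))
    show (δ : CentQ Ω x) = 1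
    rw [← hd]
    refine (QuotientGroup.eq_one_iff d).2 (Equiv.ext fun p => Subtype.ext ?_)
    show (d : G) • (p : Ω) = (p : Ω)
    rcases eq_or_ne (p : Ω) a with hp | hp
    · rw [hp, hda]
    obtain ⟨y, hy, hyp⟩ := fix_trans_a hS (X := {x})
      (Set.singleton_subset_iff.2 (Subgroup.mem_inf.1 hx).1) (ta_ne hS) hp
      (fun w hw => by rw [Set.mem_singleton_iff.1 hw]; exact x_fix_ta hS hx)
      (fun w hw => by rw [Set.mem_singleton_iff.1 hw]; exact p.2)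
    rw [← hyp, ← mul_smul, (hall y hy).eq, mul_smul, hdta]

end Cfsg.Lib.BenderSuzuki
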