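import Cfsg.Agent.BenderSuzuki.SzSwap
import Cfsg.Agent.SuzukiUnique.Main

/-!
# The case `|Q| = q ^ 2`: the group is a Suzuki group
-/

set_option autoImplicit false
set_option linter.unusedSectionVars false
set_option linter.style.haveILetI false

namespace Cfsg.Lib.BenderSuzuki

open MulAction Cfsg.Lib.RankOne
open Cfsg.Lib.SuzukiUnique
open Cfsg.Lib.Suz (Par SL4 T W pt fn)

universe u v

variable {G : Type u} {Ω : Type v} [Group G] [Finite G] [MulAction G Ω] {a : Ω} {t : G} {Q E : Subgroup G}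

/-- A simple rank one group is generated by `Q`, the inverted elements and `t`. -/
theorem gen_top (S : Simple G Ω a t Q) (hE : (E : Set G) = invK Ω a t) (L : Subgroup G) (hQ : Q ≤ L)
    (hK : E ≤ L) (ht : t ∈ L) : L = ⊤ := by
  haveI := S.faithful
  obtain ⟨C, hC, -, hCn⟩ := inverted_subgroup S.setup S.two
  have hCE : C = E := SetLike.coe_injective (hC.trans hE.symm)
  subst hCE
  have hmem : ∀ k, k ∈ C ↔ k ∈ invK Ω a t := fun k => Set.ext_iff.1 hC k
  set M := Subgroup.closure ((Q : Set G) ∪ C ∪ {t}) with hM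
  have hQM : Q ≤ M := fun x hx => Subgroup.subset_closure (Or.inl (Or.inl hx))
  have hCM : C ≤ M := fun x hx => Subgroup.subset_closure (Or.inl (Or.inr hx))
  have htM : t ∈ M := Subgroup.subset_closure (Or.inr rfl)
  have hD : ∀ d ∈ twoStab Ω a t, ∀ x ∈ M, d * x * d⁻¹ ∈ M := by
    intro d hd x hx
    induction hx using Subgroup.closure_induction with
    | mem x hx =>
      rcases hx with (hx | hx) | hx
      · exact hQM (S.setup.conj_mem d (Subgroup.mem_inf.1 hd).1 x hx)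
      · exact hCM (hCn d hd x hx)
      · rw [Set.mem_singleton_iff] at hx
        subst x
        obtain ⟨⟨v, k⟩, ⟨hv, hk, e⟩, -⟩ :=
          factor S.setup.mul_self S.setup.odd_card (fun x hx => conj_D S.setup hx) hd
        simp only at hv hk e
        obtain ⟨hvD, hvt⟩ := Subgroup.mem_inf.1 hv
        rw [Subgroup.mem_centralizer_singleton_iff] at hvt
        have h2 : v * (k * k) * v⁻¹ ∈ M :=
          hCM (hCn v hvD _ (mul_mem ((hmem k).2 hk) ((hmem k).2 hk)))
        have hki : k⁻¹ = t * k * t := by rw [← hk.2, t_inv S.setup]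
        have h3 : d * t * d⁻¹ = v * (k * k) * v⁻¹ * t := by
          have hvi : t * v⁻¹ = v⁻¹ * t := ((show Commute v t from hvt).inv_left).eq.symm
          calc d * t * d⁻¹ = v * (k * (t * k⁻¹)) * v⁻¹ := by rw [e]; group
            _ = v * (k * ((t * t) * (k * t))) * v⁻¹ := by rw [hki]; simp only [mul_assoc]
            _ = v * (k * k) * (t * v⁻¹) := by rw [S.setup.mul_self]; group
            _ = _ := by rw [hvi]; simp only [mul_assoc]
        rw [h3]
        exact mul_mem h2 htM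
    | one => simp
    | mul x y _ _ hx hy =>
      rw [show d * (x * y) * d⁻¹ = (d * x * d⁻¹) * (d * y * d⁻¹) by group]
      exact mul_mem hx hy
    | inv x _ hx =>
      rw [show d * x⁻¹ * d⁻¹ = (d * x * d⁻¹)⁻¹ by group]
      exact inv_mem hx
  have hN : Subgroup.normalizer (M : Set G) = ⊤ := by
    have hle : M ≤ Subgroup.normalizer (M : Set G) := Subgroup.le_normalizer
    have hDN : ∀ d ∈ twoStab Ω a t, d ∈ Subgroup.normalizer (M : Set G) := fun d hd => by
      rw [Subgroup.mem_normalizer_iff]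
      refine fun x => ⟨hD d hd x, fun h => ?_⟩
      have := hD d⁻¹ (inv_mem hd) _ h
      simpa [mul_assoc] using this
    have hst : ∀ g, g • a = a → g ∈ Subgroup.normalizer (M : Set G) := fun g hg => by
      obtain ⟨q, hq, d, hd, rfl⟩ := qd S.setup (show g ∈ stabilizer G a from hg)
      exact mul_mem (hle (hQM hq)) (hDN d hd)
    refine (Subgroup.eq_top_iff' _).2 fun g => ?_
    by_cases hg : g ∈ stabilizer G a
    · exact hst g hg
    · obtain ⟨⟨p, q⟩, ⟨hp, hq, rfl⟩, -⟩ := bruhat S.setup hg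
      exact mul_mem (mul_mem (hst p hp) (hle htM)) (hle (hQM hq))
  haveI : M.Normal := Subgroup.normalizer_eq_top_iff.1 hN
  haveI := S.simple
  rcases (inferInstance : M.Normal).eq_bot_or_eq_top with h | h
  · exact absurd (Subgroup.mem_bot.1 (h ▸ htM)) S.setup.ne_one
  · refine top_le_iff.1 (h ▸ (Subgroup.closure_le _).2 ?_)
    rintro x ((hx | hx) | hx)
    · exact hQ hx
    · exact hK hx
    · rw [Set.mem_singleton_iff] at hx
      subst hx
      exact ht

theorem suzuki_of_frame {F : Type} [Field F] [Fintype F] [CharP F 2] {φ₀ : F ≃+* F} {ι₀ : F × F → G}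
    {κ₀ : Fˣ →* G} (K₀ : SzFrame a t Q E F φ₀ ι₀ κ₀) (h3 : 3 ≤ Fintype.card F) : Cfsg.Lie.IsoSuzuki G := by
  classical
  obtain ⟨φ, ι, κ, k₀, f, k, K, hfp, R⟩ := K₀.exists_zero
  obtain ⟨n, -, hn⟩ := FiniteField.card F 2
  -- the automorphism
  have hiter : ∀ (j : ℕ) (x : F), (φ ^ (2 * j)) x = x ^ 2 ^ j := by
    intro j
    induction j with
    | zero => intro x; simp
    | succ j ih =>
      intro x
      rw [show 2 * (j + 1) = 1 + 1 + 2 * j by ring, pow_add, pow_add, pow_one, RingAut.mul_apply,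
        RingAut.mul_apply, R.phi_sq, ih, ← pow_mul, ← pow_succ]
  have hordn : φ ^ (n : ℕ) = 1 := by
    have h1 : φ ^ (2 * (n : ℕ)) = 1 := RingEquiv.ext fun x => by
      rw [hiter, ← hn, FiniteField.pow_card]
      rfl
    refine orderOf_dvd_iff_pow_eq_one.mp (Nat.Coprime.dvd_of_dvd_mul_left ?_ (orderOf_dvd_of_pow_eq_one h1))
    exact (Nat.coprime_two_right).mpr K.co.odd
  obtain ⟨m, hm⟩ : Odd (n : ℕ) := by
    rw [← Nat.not_even_iff_odd]
    rintro ⟨j, hj⟩
    obtain ⟨g, hg⟩ := IsCyclic.exists_generator (α := Fˣ)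
    have hq : ∀ x : F, x ^ 2 ^ j = x := fun x => by
      rw [← hiter, two_mul, ← hj, hordn]
      rfl
    have hg1 : g ^ (2 ^ j - 1) = 1 := by
      refine Units.ext ?_
      rw [Units.val_pow_eq_pow_val, Units.val_one]
      refine mul_left_cancel₀ g.ne_zero ?_
      rw [mul_one, ← pow_succ', Nat.sub_add_cancel Nat.one_le_two_pow, hq]
    have hord := orderOf_le_of_pow_eq_one ?_ hg1
    · rw [orderOf_eq_card_of_forall_mem_zpowers hg, Nat.card_units, Nat.card_eq_fintype_card, hn, hj, pow_add] at hord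
      have hj1 : 1 ≤ j := by have := n.pos; omega
      have h2 : 2 ≤ 2 ^ j := Nat.le_self_pow (by omega) 2
      have h5 : 2 * 2 ^ j ≤ 2 ^ j * 2 ^ j := Nat.mul_le_mul_right _ h2
      omega
    · have hj1 : 1 ≤ j := by have := n.pos; omega
      have h2 : 2 ≤ 2 ^ j := Nat.le_self_pow (by omega) 2
      omega
  have hF : Fintype.card F = 2 ^ (2 * m + 1) := by rw [hn, hm]
  have hm1 : 1 ≤ m := by
    by_contra h
    obtain rfl : m = 0 := by omega
    rw [hF] at h3
    norm_num at h3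
  have P : Par F m := ⟨hm1, hF⟩
  have hord : φ ^ (2 * m + 1) = 1 := hm ▸ hordn
  have hφ : ∀ x, φ x = x ^ 2 ^ (m + 1) := fun x => by
    rw [← hiter, show 2 * (m + 1) = (2 * m + 1) + 1 by ring, pow_succ, hord, one_mul]
  have hf : ∀ p, p ≠ 0 → f p = target m p := fun p hp => R.unique (target_rel P hφ K.co.inj) hp
  obtain ⟨hwa, hwb, -, -⟩ := K.swap_spec k₀
  generalize hwdef : κ k₀ * t = w at hwa hwb hfp
  refine ⟨F, inferInstance, inferInstance, m, hm1, hF, ?_⟩
  -- the bijection of points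
  let co : Ω → F × F := fun x => if hx : x = a then 0 else (K.pt_surj x hx).choose
  have hco : ∀ x, x ≠ a → ι (co x) • t • a = x := fun x hx => by
    simp only [co, dif_neg hx]
    exact (K.pt_surj x hx).choose_spec
  let ε : Ω → Projectivization F (Fin 4 → F) := fun x =>
    if x = a then Cfsg.suzukiPointInfinity F else pt m (co x).1 (co x).2
  have hεa : ε a = Cfsg.suzukiPointInfinity F := if_pos rfl
  have hεp : ∀ p, ε (ι p • t • a) = pt m p.1 p.2 := fun p => by
    have hne := K.pt_ne_a p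
    simp only [ε, if_neg hne, K.pt_inj (hco _ hne)]
  have hεinj : Function.Injective ε := by
    intro x y exy
    by_cases hx : x = a <;> by_cases hy : y = a
    · rw [hx, hy]
    · rw [hx, hεa, ← hco y hy, hεp] at exy
      exact absurd exy.symm (Cfsg.Lib.Suz.pt_ne_inf _ _ _)
    · rw [hy, hεa, ← hco x hx, hεp] at exy
      exact absurd exy (Cfsg.Lib.Suz.pt_ne_inf _ _ _)
    · rw [← hco x hx, ← hco y hy, hεp, hεp] at exy
      obtain ⟨e1, e2⟩ := Cfsg.Lib.Suz.pt_inj exy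
      rw [← hco x hx, ← hco y hy, Prod.ext e1 e2]
  have hεb : ε (t • a) = pt m 0 0 := by
    have h0 := hεp 0
    rwa [K.pt_zero] at h0
  -- the three kinds of elements
  have hT : ∀ (p : F × F) x, ε (ι p • x) = T m p.1 p.2 • ε x := by
    intro p x
    by_cases hx : x = a
    · rw [hx, K.ι_a, hεa, Cfsg.Lib.Suz.T_inf]
    · rw [← hco x hx, K.pt_star, hεp, hεp, Cfsg.Lib.Suz.T_pt P]
      simp only [Cfsg.Lib.SuzukiUnique.star, hφ]
      congr 1 <;> ring
  have hH : ∀ (l : Fˣ) x, ε (κ l • x) = Cfsg.Lib.Suz.H m l • ε x := by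
    intro l x
    by_cases hx : x = a
    · rw [hx, K.κ_a, hεa, Cfsg.Lib.Suz.H_inf]
    · rw [← hco x hx, K.pt_act, hεp, hεp, Cfsg.Lib.Suz.H_pt P]
      simp only [act, psi, hφ, pow_succ]
      congr 1
      ring
  have hW : ∀ x, ε (w • x) = W F • ε x := by
    intro x
    by_cases hx : x = a
    · rw [hx, hwa, hεb, hεa, Cfsg.Lib.Suz.W_inf m]
    · rw [← hco x hx, hεp]
      by_cases hp : co x = 0
      · rw [hp, K.pt_zero, hwb, hεa]
        exact (Cfsg.Lib.Suz.W_zero m).symm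
      · rw [hfp _ hp, hεp, hf _ hp, ← W_target P hp]
  have key : ∀ g : G, ∃ s : Cfsg.Sz F m, ∀ x, ε (g • x) = (s : SL4 F) • ε x := by
    let L : Subgroup G :=
      { carrier := {g | ∃ s : Cfsg.Sz F m, ∀ x, ε (g • x) = (s : SL4 F) • ε x}
        one_mem' := ⟨1, fun x => by simp⟩
        mul_mem' := fun {g g'} ⟨s, hs⟩ ⟨s', hs'⟩ => ⟨s * s', fun x => by rw [mul_smul, hs, hs', ← mul_smul]; rfl⟩
        inv_mem' := fun {g} ⟨s, hs⟩ => ⟨s⁻¹, fun x => by
          rw [Subgroup.coe_inv, eq_inv_smul_iff, ← hs, smul_inv_smul]⟩ }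
    have hκ : ∀ l, κ l ∈ L := fun l => ⟨⟨_, Cfsg.Lib.Suz.H_mem P l⟩, hH l⟩
    have htL : t ∈ L := by
      have h1 : w ∈ L := ⟨⟨_, Cfsg.Lib.Suz.W_mem P⟩, hW⟩
      have h2 := L.mul_mem (L.inv_mem (hκ k₀)) h1
      rwa [← hwdef, inv_mul_cancel_left] at h2
    have htop := gen_top K.simple K.inv_eq L (fun x hx => by
        obtain ⟨p, rfl⟩ := K.co.ι_surj x hx
        exact ⟨⟨_, Cfsg.Lib.Suz.T_mem P _ _⟩, hT p⟩) (fun x hx => by
        obtain ⟨l, rfl⟩ := K.co.κ_surj x hx
        exact hκ l) htL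
    exact fun g => show g ∈ L by rw [htop]; trivial
  choose Φ hΦ using key
  have huniq : ∀ s s' : Cfsg.Sz F m, (∀ x, (s : SL4 F) • ε x = (s' : SL4 F) • ε x) → s = s' := by
    intro s s' hss
    have h1 : ∀ x, ((s' : SL4 F)⁻¹ * (s : SL4 F)) • ε x = ε x := fun x => by
      rw [mul_smul, hss, inv_smul_smul]
    have h2 := eq_one_of_fix P (mul_mem (inv_mem s'.2) s.2) (hεa ▸ h1 a) (hεb ▸ h1 (t • a))
      (hεp ((1 : F), (0 : F)) ▸ h1 _)
    exact Subtype.ext (inv_mul_eq_one.mp h2).symm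
  let Ψ : G →* Cfsg.Sz F m :=
    { toFun := Φ
      map_one' := huniq _ _ fun x => by rw [← hΦ]; simp
      map_mul' := fun g g' => huniq _ _ fun x => by rw [← hΦ, mul_smul, hΦ, hΦ, ← mul_smul]; rfl }
  haveI := K.simple.faithful
  have hinjΨ : Function.Injective Ψ := fun g g' e' => FaithfulSMul.eq_of_smul_eq_smul (α := Ω) fun x => hεinj (by
    rw [hΦ, hΦ]
    exact congrArg (fun s : Cfsg.Sz F m => (s : SL4 F) • ε x) e')
  have hsurjΨ : Function.Surjective Ψ := by
    have hle : Cfsg.Sz F m ≤ Ψ.range.map (Cfsg.Sz F m).subtype := by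
      refine Cfsg.Lib.Suz.Sz_le P (fun x y => ?_) (fun l => ?_) ?_
      · exact ⟨_, ⟨ι (x, y), rfl⟩, congrArg Subtype.val (huniq (Φ (ι (x, y))) ⟨_, Cfsg.Lib.Suz.T_mem P x y⟩
          fun z => (hΦ _ z).symm.trans (hT (x, y) z))⟩
      · exact ⟨_, ⟨κ l, rfl⟩, congrArg Subtype.val (huniq (Φ (κ l)) ⟨_, Cfsg.Lib.Suz.H_mem P l⟩
          fun z => (hΦ _ z).symm.trans (hH l z))⟩
      · exact ⟨_, ⟨w, rfl⟩, congrArg Subtype.val (huniq (Φ w) ⟨_, Cfsg.Lib.Suz.W_mem P⟩
          fun z => (hΦ _ z).symm.trans (hW z))⟩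
    intro s
    obtain ⟨s', ⟨g, hg⟩, hs'⟩ := hle s.2
    exact ⟨g, hg.trans (Subtype.ext hs')⟩
  exact ⟨(MulEquiv.ofBijective Ψ ⟨hinjΨ, hsurjΨ⟩).trans (Cfsg.Lib.Suz.lieEquiv P)⟩

/-- The step for `|Q| = q ^ 2`. -/
theorem suzukiStep : SuzukiStep.{u, v} := by
  intro G Ω _ _ _ a t Q S hnL hn hna
  obtain ⟨E, hE, -, C, hcard⟩ := exists_szKern S hn hna
  obtain ⟨F, iF, iFF, iC, φ, ι, κ, hF, co⟩ := exists_sz_coords C
  refine Or.inr (Or.inl (suzuki_of_frame ⟨S, hnL, hE, co⟩ ?_))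
  obtain ⟨x, y, hxy, hx, hx2, hy, hy2⟩ := C.two
  have hfin : Finite G := inferInstance
  have h3 : 2 < Nat.card (Subgroup.center Q) := by
    have h : ({1, x, y} : Set Q) ⊆ (Subgroup.center Q : Set Q) := by
      rintro z (rfl | rfl | rfl)
      · exact one_mem _
      · exact C.central _ hx2
      · exact C.central _ hy2
    have h1 := Set.ncard_le_ncard h (Set.toFinite _)
    rw [Set.ncard_eq_three.2 ⟨1, x, y, Ne.symm hx, Ne.symm hy, hxy, rfl⟩, ← Nat.card_coe_set_eq] at h1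
    exact h1
  rw [C.card_center] at h3
  omega

end Cfsg.Lib.BenderSuzuki
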