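import Cfsg.Agent.BenderSuzuki.Induction
import Cfsg.Agent.BenderSuzuki.Sub
import Cfsg.Agent.BenderSuzuki.Alpha
import Cfsg.Agent.BenderSuzuki.Beta
import Cfsg.Agent.BenderSuzuki.Gamma
import Cfsg.Agent.BenderSuzuki.Linear
import Cfsg.Agent.BenderSuzuki.SuzukiCase
import Cfsg.Agent.BenderSuzuki.DegreeA
import Cfsg.Agent.BenderSuzuki.DegreeB

/-!
The classification of rank one groups in characteristic two, up to its unitary case.
-/

set_option autoImplicit false

namespace Cfsg.Lib.BenderSuzuki

open MulAction Cfsg.Lib.RankOne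

universe u v

/-- The induction statement at every bound, given the unitary case. -/
theorem ih_of_unitary (hU : UnitaryStep.{u, v}) (N : ℕ) : IH.{u, v} N :=
  good_of_steps (alpha_of centStep degA) (beta_of degB centStep) gamma linear_step suzukiStep hU N

/-- The classification, given the unitary case. -/
theorem classification_of_unitary (hU : UnitaryStep.{u, v}) {G : Type u} {Ω : Type v}
    [Group G] [Finite G] [MulAction G Ω] [FaithfulSMul G Ω] {a : Ω} {t : G} {Q : Subgroup G}
    (hS : Cfsg.IsRankOneSetup G Ω a t Q)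
    (h2 : ∃ x y : G, x ≠ 1 ∧ y ≠ 1 ∧ x ≠ y ∧ x * x = 1 ∧ y * y = 1 ∧ x * y = y * x) :
    ∃ L : Subgroup G, L.Normal ∧ Odd L.index ∧ Ident L :=
  classification_of_steps reduceStep (ih_of_unitary hU) hS h2

end Cfsg.Lib.BenderSuzuki
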