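import Cfsg.Agent.BenderSuzuki.Steps
import Cfsg.Agent.Suz.Group
import Cfsg.Agent.Suz.SylowAut
import Cfsg.Agent.InvolCalc.ZStarApps
import Cfsg.Prelude.Def_Exceptional
import Cfsg.Prelude.Def_Involutions

/-!
Simple groups with a strongly embedded subgroup having a regular normal subgroup on the other cosets, from the
classification of rank one groups.
-/

set_option autoImplicit false
set_option linter.unusedSectionVars false
set_option linter.style.haveILetI false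

namespace Cfsg.Lib.BenderSuzuki

open MulAction Cfsg.Lib.RankOne

universe u

/-- The classification as an input. -/
def Classification : Prop :=
  ∀ {G : Type u} {Ω : Type u} [Group G] [Finite G] [MulAction G Ω] [FaithfulSMul G Ω] {a : Ω} {t : G}
    {Q : Subgroup G}, Cfsg.IsRankOneSetup G Ω a t Q →
    (∃ x y : G, x ≠ 1 ∧ y ≠ 1 ∧ x ≠ y ∧ x * x = 1 ∧ y * y = 1 ∧ x * y = y * x) →
    ∃ L : Subgroup G, L.Normal ∧ Odd L.index ∧ Ident L

variable {G : Type u} [Group G] [Finite G] [IsSimpleGroup G]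

theorem smul_base (H : Subgroup G) (g : G) : g • ((1 : G) : G ⧸ H) = (g : G ⧸ H) := by
  rw [MulAction.Quotient.smul_coe, smul_eq_mul, mul_one]

theorem exists_invol_out (H : Subgroup G) (hH : Cfsg.IsStronglyEmbedded H) : ∃ t : G, t ∉ H ∧ orderOf t = 2 := by
  obtain ⟨hne, heven, -⟩ := hH
  haveI := Fact.mk Nat.prime_two
  obtain ⟨s, hs⟩ := exists_prime_orderOf_dvd_card' (G := H) 2 (even_iff_two_dvd.1 heven)
  rw [← Subgroup.orderOf_coe] at hs
  by_contra hno
  push Not at hno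
  refine hne (eq_top_iff.2 ?_)
  rcases IsSimpleGroup.eq_bot_or_eq_top_of_normal (Subgroup.normalClosure {(s : G)})
    Subgroup.normalClosure_normal with h | h
  · have h1 : (s : G) ∈ Subgroup.normalClosure {(s : G)} :=
      Subgroup.subset_normalClosure (Set.mem_singleton _)
    rw [h, Subgroup.mem_bot] at h1
    rw [h1, orderOf_one] at hs
    omega
  · rw [← h]
    refine (Subgroup.closure_le _).2 fun c hc => ?_
    obtain ⟨w, hw, hwc⟩ := Group.mem_conjugatesOfSet_iff.1 hc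
    rw [Set.mem_singleton_iff] at hw
    subst hw
    obtain ⟨g, rfl⟩ := isConj_iff.1 hwc
    by_contra hg
    exact hno _ hg (((MulAut.conj g).orderOf_eq (s : G)).trans hs)

theorem embedded_setup (H : Subgroup G) (hH : Cfsg.IsStronglyEmbedded H) (Q : Subgroup G) (hQH : Q ≤ H)
    (hQn : (Q.subgroupOf H).Normal) (htrans : ∀ g₁ g₂ : G, g₁ ∉ H → g₂ ∉ H → ∃ u ∈ Q, g₂⁻¹ * (u * g₁) ∈ H)
    (hreg : ∀ g : G, g ∉ H → ∀ u ∈ Q, g⁻¹ * (u * g) ∈ H → u = 1) {t : G} (ht : t ∉ H) (ht2 : orderOf t = 2) :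
    Cfsg.IsRankOneSetup G (G ⧸ H) ((1 : G) : G ⧸ H) t Q := by
  obtain ⟨hne, heven, hodd⟩ := hH
  have hstab : stabilizer G ((1 : G) : G ⧸ H) = H := MulAction.stabilizer_quotient H
  have hstab' : ∀ g : G, g ∈ stabilizer G (t • ((1 : G) : G ⧸ H)) ↔ t⁻¹ * (g * t) ∈ H := by
    intro g
    rw [MulAction.mem_stabilizer_iff, smul_base, MulAction.Quotient.smul_coe, smul_eq_mul, QuotientGroup.eq]
    refine ⟨fun h => ?_, fun h => ?_⟩
    · have := inv_mem h
      simpa [mul_assoc] using this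
    · have := inv_mem h
      simpa [mul_assoc] using this
  have hD : Odd (Nat.card ↥(stabilizer G ((1 : G) : G ⧸ H) ⊓ stabilizer G (t • ((1 : G) : G ⧸ H)))) := by
    have e : stabilizer G (t • ((1 : G) : G ⧸ H)) = H.map (MulAut.conj t).toMonoidHom := by
      ext g
      rw [hstab', Subgroup.mem_map_equiv, MulAut.conj_symm_apply, mul_assoc]
    rw [hstab, e]
    exact hodd t ht
  have hsup : Q ⊔ (stabilizer G ((1 : G) : G ⧸ H) ⊓ stabilizer G (t • ((1 : G) : G ⧸ H))) =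
      stabilizer G ((1 : G) : G ⧸ H) := by
    refine le_antisymm (sup_le (hstab.symm ▸ hQH) inf_le_left) fun g hg => ?_
    rw [hstab] at hg
    have hgt : g * t ∉ H := fun h => ht (by simpa using mul_mem (inv_mem hg) h)
    obtain ⟨u, hu, h⟩ := htrans t (g * t) ht hgt
    rw [← mul_inv_cancel_left u g]
    refine Subgroup.mul_mem_sup hu (Subgroup.mem_inf.2 ⟨?_, (hstab' _).2 ?_⟩)
    · rw [hstab]; exact mul_mem (inv_mem (hQH hu)) hg
    · have h' := inv_mem h
      simpa [mul_assoc] using h'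
  refine
    { two_transitive := is_two_pretransitive_iff.2 fun {p q r s} hpq hrs => ?_
      mul_self := by rw [← pow_two, ← ht2, pow_orderOf_eq_one]
      ne_one := fun h => by rw [h, orderOf_one] at ht2; omega
      not_mem := fun h => ht (hstab ▸ h)
      le := hstab.symm ▸ hQH
      conj_mem := fun h hh x hx => ?_
      inf_eq_bot := ?_
      sup_eq := hsup
      even_card := ?_
      odd_card := hD }
  · have key : ∀ p q : G ⧸ H, p ≠ q →
        ∃ g : G, g • p = ((1 : G) : G ⧸ H) ∧ g • q = t • ((1 : G) : G ⧸ H) := by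
      intro p q hpq
      obtain ⟨x, rfl⟩ := QuotientGroup.mk_surjective p
      obtain ⟨y, rfl⟩ := QuotientGroup.mk_surjective q
      obtain ⟨u, hu, h⟩ := htrans (x⁻¹ * y) t (fun h => hpq (QuotientGroup.eq.2 h)) ht
      refine ⟨u * x⁻¹, ?_, ?_⟩
      · rw [MulAction.Quotient.smul_coe, smul_eq_mul, QuotientGroup.eq]
        simpa [mul_assoc] using hQH hu
      · rw [smul_base, MulAction.Quotient.smul_coe, smul_eq_mul, QuotientGroup.eq]
        have h' := inv_mem h
        simpa [mul_assoc] using h'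
    obtain ⟨g, g1, g2⟩ := key p q hpq
    obtain ⟨h, h1, h2⟩ := key r s hrs
    exact ⟨h⁻¹ * g, by rw [mul_smul, g1, inv_smul_eq_iff, h1], by rw [mul_smul, g2, inv_smul_eq_iff, h2]⟩
  · rw [hstab] at hh
    have h1 := hQn.conj_mem ⟨x, hQH hx⟩ hx ⟨h, hh⟩
    exact h1
  · rw [Subgroup.eq_bot_iff_forall]
    intro u hu
    exact hreg t ht u hu.1 ((hstab' u).1 hu.2)
  · by_contra hQ
    rw [Nat.not_even_iff_odd] at hQ
    set D := stabilizer G ((1 : G) : G ⧸ H) ⊓ stabilizer G (t • ((1 : G) : G ⧸ H))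
    have hle : D ≤ Subgroup.normalizer (Q : Set G) := by
      intro d hd
      have hd' : d ∈ H := hstab ▸ (Subgroup.mem_inf.1 hd).1
      rw [Subgroup.mem_normalizer_iff]
      refine fun x => ⟨fun hx => hQn.conj_mem ⟨x, hQH hx⟩ hx ⟨d, hd'⟩, fun hx => ?_⟩
      have h2 : d⁻¹ * (d * x * d⁻¹) * d⁻¹⁻¹ ∈ Q := hQn.conj_mem ⟨d * x * d⁻¹, hQH hx⟩ hx ⟨d⁻¹, inv_mem hd'⟩
      simpa [mul_assoc] using h2
    have h := Cfsg.Lib.Coprime.card_sup_mul_card_inf hle
    rw [show Q ⊔ D = H from hsup.trans hstab] at h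
    refine Nat.not_even_iff_odd.2 (Odd.of_dvd_nat (hQ.mul hD) (h ▸ dvd_mul_right _ _)) heven

theorem two_commuting : ∀ {t : G}, orderOf t = 2 →
    ¬ IsMulCommutative G → ∃ x y : G, x ≠ 1 ∧ y ≠ 1 ∧ x ≠ y ∧ x * x = 1 ∧ y * y = 1 ∧ x * y = y * x := by
  intro t ht hna
  have htt : t * t = 1 := by rw [← pow_two, ← ht, pow_orderOf_eq_one]
  have ht1 : t ≠ 1 := fun h => by rw [h, orderOf_one] at ht; omega
  by_contra hno
  push Not at hno
  have hiso : ∀ g : G, Commute t (g * t * g⁻¹) → g * t * g⁻¹ = t := by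
    intro g hc
    by_contra hne
    refine hno t (g * t * g⁻¹) ht1 (fun h => ht1 (conj_eq_one_iff.1 h)) (Ne.symm hne) htt ?_ hc.eq
    rw [show g * t * g⁻¹ * (g * t * g⁻¹) = g * (t * t) * g⁻¹ by group, htt]
    group
  have hz := Cfsg.Lib.ZStarApps.zstarProp (z := t) ⟨ht, hiso⟩
  have hcore : Cfsg.pPrimeCore 2 G = ⊥ := by
    refine (IsSimpleGroup.eq_bot_or_eq_top_of_normal _ inferInstance).resolve_right fun h => ?_
    have hodd : Odd (Nat.card (Cfsg.pPrimeCore 2 G)) := Cfsg.Lib.ZStarApps.odd_card_pPrimeCore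
    rw [h, Subgroup.card_top] at hodd
    exact Nat.not_even_iff_odd.2 hodd (even_iff_two_dvd.2 (ht ▸ orderOf_dvd_natCard t))
  have hcen : t ∈ Subgroup.center G := Subgroup.mem_center_iff.2 fun g => by
    have h1 := hz g
    rw [hcore, Subgroup.mem_bot, mul_inv_eq_one] at h1
    exact (mul_inv_eq_iff_eq_mul.1 h1).symm
  rcases IsSimpleGroup.eq_bot_or_eq_top_of_normal (Subgroup.center G) inferInstance with h | h
  · rw [h, Subgroup.mem_bot] at hcen
    exact ht1 hcen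
  · exact hna ⟨⟨fun x y => Subgroup.mem_center_iff.1 (h ▸ Subgroup.mem_top y : y ∈ Subgroup.center G) x⟩⟩

/-- Strongly embedded with a regular normal subgroup on the other cosets. -/
theorem simple_embedded (hcl : Classification.{u}) (H : Subgroup G) (hH : Cfsg.IsStronglyEmbedded H)
    (Q : Subgroup G) (hQH : Q ≤ H) (hQn : (Q.subgroupOf H).Normal)
    (htrans : ∀ g₁ g₂ : G, g₁ ∉ H → g₂ ∉ H → ∃ u ∈ Q, g₂⁻¹ * (u * g₁) ∈ H)
    (hreg : ∀ g : G, g ∉ H → ∀ u ∈ Q, g⁻¹ * (u * g) ∈ H → u = 1) :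
    (∃ (F : Type) (_ : Field F) (_ : Fintype F), CharP F 2 ∧ 4 ≤ Fintype.card F ∧
      Nonempty (G ≃* Matrix.ProjectiveSpecialLinearGroup (Fin 2) F)) ∨ Cfsg.IsSuzuki G ∨
    (∃ (F : Type) (_ : Field F) (_ : Fintype F) (q : ℕ), Fintype.card F = q ^ 2 ∧ Even q ∧ 4 ≤ q ∧
      Nonempty (G ≃* Cfsg.PSU 3 F q)) := by
  obtain ⟨t, ht, ht2⟩ := exists_invol_out H hH
  have hS := embedded_setup H hH Q hQH hQn htrans hreg ht ht2
  have hne : H ≠ ⊤ := hH.1
  have hna : ¬ IsMulCommutative G := by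
    intro hc
    have hn : H.Normal := ⟨fun n hn g => by rw [mul_comm' g n, mul_inv_cancel_right]; exact hn⟩
    rcases IsSimpleGroup.eq_bot_or_eq_top_of_normal H hn with h | h
    · have := hH.2.1
      rw [h, Subgroup.card_bot] at this
      exact Nat.not_even_one this
    · exact hne h
  haveI : FaithfulSMul G (G ⧸ H) := by
    constructor
    intro x y h
    have hk : y⁻¹ * x ∈ H.normalCore := by
      rw [Subgroup.normalCore_eq_ker, MonoidHom.mem_ker]
      refine Equiv.ext fun p => ?_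
      show (y⁻¹ * x) • p = p
      rw [mul_smul, h p, inv_smul_smul]
    rcases IsSimpleGroup.eq_bot_or_eq_top_of_normal H.normalCore (Subgroup.normalCore_normal H) with e | e
    · rw [e, Subgroup.mem_bot, inv_mul_eq_one] at hk
      exact hk.symm
    · exact absurd (eq_top_iff.2 (e ▸ Subgroup.normalCore_le H)) hne
  obtain ⟨L, hLn, hLodd, hL⟩ := hcl hS (two_commuting ht2 hna)
  have hLt : L = ⊤ := by
    refine (IsSimpleGroup.eq_bot_or_eq_top_of_normal L hLn).resolve_left fun h => ?_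
    rw [h, Subgroup.index_bot] at hLodd
    exact Nat.not_even_iff_odd.2 hLodd (even_iff_two_dvd.2 (ht2 ▸ orderOf_dvd_natCard t))
  subst hLt
  let e := (Subgroup.topEquiv (G := G)).symm
  rcases hL with ⟨F, iF, iF', ⟨n, hn, hF⟩, ⟨f⟩⟩ | ⟨F, iF, iF', m, hm, hF, ⟨f⟩⟩ | ⟨F, iF, iF', n, hn, hF, ⟨f⟩⟩
  · refine Or.inl ⟨F, iF, iF', ?_, ?_, ⟨e.trans f⟩⟩
    · haveI := Fact.mk Nat.prime_two
      refine (CharP.charP_iff_prime_eq_zero Nat.prime_two).2 ?_
      have h0 : ((Fintype.card F : ℕ) : F) = 0 := Nat.cast_card_eq_zero F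
      rw [hF, Nat.cast_pow] at h0
      exact pow_eq_zero_iff (by omega) |>.1 h0
    · rw [hF]; exact le_of_eq_of_le (by norm_num) (Nat.pow_le_pow_right two_pos hn)
  · refine Or.inr (Or.inl ⟨inferInstance, m, hm, ?_⟩)
    rw [Nat.card_congr ((e.trans f).trans (Cfsg.Lib.Suz.lieEquiv (⟨hm, hF⟩ : Cfsg.Lib.Suz.Par F m)).symm).toEquiv]
    exact Cfsg.Lib.Suz.card_Sz ⟨hm, hF⟩
  · exact Or.inr (Or.inr ⟨F, iF, iF', 2 ^ n, hF, (Nat.even_pow.2 ⟨even_two, by omega⟩),
      le_of_eq_of_le (by norm_num) (Nat.pow_le_pow_right two_pos hn), ⟨e.trans f⟩⟩)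

end Cfsg.Lib.BenderSuzuki
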