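import Cfsg.Agent.BenderSuzuki.U3.InputOf
import Cfsg.Agent.BenderSuzuki.U3.Triangle
import Cfsg.Agent.BenderSuzuki.U3.OneClass
import Cfsg.Agent.BenderSuzuki.U3.Form
import Cfsg.Agent.BenderSuzuki.U3.Iso

/-!
The case `|Q| = q ^ 3` of the classification of rank one groups in characteristic two.
-/

set_option autoImplicit false

namespace Cfsg.Lib.BenderSuzuki

open MulAction Cfsg.Lib.RankOne

universe u v

/-- `|Q| = q ^ 3`. -/
theorem unitaryStep : UnitaryStep.{u, v} := by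
  intro G Ω _ _ _ a t Q hs hIH hL hn hna hV
  obtain ⟨F, E, _, _, _, _, _, _, ⟨Fr⟩⟩ := (U3.Input.of_step hs hIH hL hn hna hV).exists_frame
  obtain ⟨M⟩ := Fr.exists_muData
  obtain ⟨A, B, h⟩ := Fr.exists_closed M (Fr.wi_mem_centI M) (Fr.twoStab_eq M) (Fr.norm_bi_eq M)
  exact U3.closed_nondeg_ident h

end Cfsg.Lib.BenderSuzuki
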