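import Cfsg.Agent.BenderSuzuki.AlphaSmall
import Cfsg.Agent.S0205
import Cfsg.Agent.S0225
import Mathlib.GroupTheory.SpecificGroups.KleinFour

/-!
The action of the centraliser of `w` on the points fixed by `w`: a regular normal elementary abelian `p`-subgroup.
-/

set_option autoImplicit false
set_option linter.unusedSectionVars false
set_option linter.style.haveILetI false

namespace Cfsg.Lib.BenderSuzuki

open MulAction Cfsg.Lib.RankOne
open scoped commutatorElement
open scoped _root_.Classical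

universe u v

variable {G : Type u} {Ω : Type v} [Group G] [Finite G] [MulAction G Ω] {a : Ω} {t : G} {Q : Subgroup G}

/-- The points fixed by `w`. -/
abbrev FixW (Ω : Type v) [MulAction G Ω] (w : G) : Type v := {x : Ω // w • x = x}

/-- The centraliser of `w` acting on the points fixed by `w`. -/
def actW (Ω : Type v) [MulAction G Ω] (w : G) : Subgroup.centralizer ({w} : Set G) →* Equiv.Perm (FixW Ω w) where
  toFun g :=
    { toFun := fun x => ⟨(g : G) • (x : Ω), by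
        rw [← mul_smul, ← Subgroup.mem_centralizer_singleton_iff.1 g.2, mul_smul, x.2]⟩
      invFun := fun x => ⟨(g : G)⁻¹ • (x : Ω), by
        rw [← mul_smul, ← Subgroup.mem_centralizer_singleton_iff.1 (inv_mem g.2), mul_smul, x.2]⟩
      left_inv := fun x => Subtype.ext (inv_smul_smul _ _)
      right_inv := fun x => Subtype.ext (smul_inv_smul _ _) }
  map_one' := Equiv.ext fun x => Subtype.ext (one_smul G (x : Ω))
  map_mul' g h := Equiv.ext fun x => Subtype.ext (mul_smul (g : G) (h : G) (x : Ω))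

theorem actW_apply (w : G) (g : Subgroup.centralizer ({w} : Set G)) (x : FixW Ω w) :
    ((actW Ω w g x : FixW Ω w) : Ω) = (g : G) • (x : Ω) := rfl

namespace SmallData

open Alpha

variable {k w s : G} {p : ℕ} (B : SmallData G Ω a t Q k w s p)

include B

theorem fix_ta : w • t • a = t • a := (Subgroup.mem_inf.1 (Subgroup.mem_inf.1 B.mem).1).2

/-- The base point. -/
def base : FixW Ω w := ⟨a, B.fix_a⟩

theorem t_cent : t ∈ Subgroup.centralizer ({w} : Set G) :=
  Subgroup.mem_centralizer_singleton_iff.2 (centT_comm B.mem).eq.symm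

theorem s_ne : s ≠ 1 := B.s_mem.2.1

theorem s_Q : s ∈ Q := inv_mem_Q B.simple.setup B.s_mem.1 B.s_mem.2.2

theorem s_cent : s ∈ Subgroup.centralizer ({w} : Set G) :=
  Subgroup.mem_centralizer_singleton_iff.2 (B.s_comm w B.mem).eq.symm

theorem s_fix : s • a = a := B.s_mem.1

theorem s_Q0 : s ∈ Q ⊓ Subgroup.centralizer {w} := ⟨B.s_Q, B.s_cent⟩

theorem two_le_Q0 : 2 ≤ Nat.card ↥(Q ⊓ Subgroup.centralizer {w}) := by
  haveI : Nontrivial ↥(Q ⊓ Subgroup.centralizer {w}) :=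
    ⟨⟨⟨s, B.s_Q0⟩, 1, fun h => B.s_ne (congrArg Subtype.val h)⟩⟩
  exact Finite.one_lt_card

theorem hfix (x : FixW Ω w) : FixX Ω ({w} : Set G) (x : Ω) := fun g hg => by
  rw [Set.mem_singleton_iff.1 hg]; exact x.2

theorem card_fix : Nat.card (FixW Ω w) = Nat.card ↥(Q ⊓ Subgroup.centralizer {w}) + 1 := by
  have hS := B.simple.setup
  haveI := finite_pts hS
  rw [← Finite.card_option]
  have hmem : ∀ y : ↥(Q ⊓ Subgroup.centralizer {w}), w • (y : G) • t • a = (y : G) • t • a := fun y => by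
    rw [← mul_smul, ← Subgroup.mem_centralizer_singleton_iff.1 (Subgroup.mem_inf.1 y.2).2, mul_smul, B.fix_ta]
  have hne : ∀ y : ↥(Q ⊓ Subgroup.centralizer {w}), (y : G) • t • a ≠ a := fun y h =>
    ta_ne hS (MulAction.injective (y : G) (h.trans (RankOne.fix_a hS (Subgroup.mem_inf.1 y.2).1).symm))
  refine (Nat.card_eq_of_bijective (fun o : Option ↥(Q ⊓ Subgroup.centralizer {w}) =>
    (o.elim B.base fun y => ⟨(y : G) • t • a, hmem y⟩ : FixW Ω w)) ⟨?_, fun x => ?_⟩).symm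
  · rintro (_ | y) (_ | y') h
    · rfl
    · exact absurd (congrArg Subtype.val h).symm (hne y')
    · exact absurd (congrArg Subtype.val h) (hne y)
    · refine congrArg some (Subtype.ext ?_)
      obtain ⟨z, -, hz⟩ := regular hS (ta_ne hS) (hne y')
      exact congrArg (Subtype.val : Q → G) ((hz ⟨y, (Subgroup.mem_inf.1 y.2).1⟩ (congrArg Subtype.val h)).trans
        (hz ⟨y', (Subgroup.mem_inf.1 y'.2).1⟩ rfl).symm)
  · by_cases hx : (x : Ω) = a
    · exact ⟨none, Subtype.ext hx.symm⟩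
    · obtain ⟨y, hy, hyx⟩ := fix_trans_a hS (Set.singleton_subset_iff.2 (Subgroup.mem_inf.1 B.mem).1) (ta_ne hS) hx
        (B.hfix ⟨t • a, B.fix_ta⟩) (B.hfix x)
      exact ⟨some ⟨y, hy⟩, Subtype.ext hyx⟩

theorem p_dvd_fix : p ∣ Nat.card (FixW Ω w) := by
  have h := B.p_dvd ⟨s, B.s_Q, B.s_ne, (B.s_comm w B.mem).symm⟩
  haveI := Fact.mk B.prime
  rw [B.card_Q] at h
  rw [B.card_fix, ← ZMod.natCast_eq_zero_iff]
  rw [← ZMod.natCast_eq_zero_iff] at h
  push_cast at h ⊢
  rwa [ZMod.pow_card] at h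

/-- The centraliser is doubly transitive on the fixed points. -/
theorem trans_fix {x y z u : FixW Ω w} (hxy : x ≠ y) (hzu : z ≠ u) :
    ∃ g : Subgroup.centralizer ({w} : Set G), actW Ω w g x = z ∧ actW Ω w g y = u := by
  have hS := B.simple.setup
  have hfy : FixX Ω ({w} : Set G) (s • t • a) := B.hfix ⟨s • t • a, by
    rw [← mul_smul, ← Subgroup.mem_centralizer_singleton_iff.1 B.s_cent, mul_smul, B.fix_ta]⟩
  obtain ⟨g, hg, g1, g2⟩ := fix_two_trans hS (Set.singleton_subset_iff.2 (Subgroup.mem_inf.1 B.mem).1)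
    ⟨a, t • a, s • t • a, (ta_ne hS).symm,
      fun h => ta_ne hS (MulAction.injective s (h.symm.trans B.s_fix.symm)),
      fun h => ta_ne hS (fix_only hS B.s_Q B.s_ne h.symm), B.hfix B.base, B.hfix ⟨t • a, B.fix_ta⟩, hfy⟩
    (B.hfix x) (B.hfix y) (B.hfix z) (B.hfix u) (fun h => hxy (Subtype.ext h)) (fun h => hzu (Subtype.ext h))
  exact ⟨⟨g, hg⟩, Subtype.ext g1, Subtype.ext g2⟩

/-- An involution of the centraliser is conjugate in it to `s`. -/
theorem conj_to_s {z : G} (hz : z ∈ Subgroup.centralizer ({w} : Set G)) (hz1 : z ≠ 1) (hz2 : z * z = 1) :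
    ∃ g : Subgroup.centralizer ({w} : Set G), (g : G) * z * (g : G)⁻¹ = s := by
  have hS := B.simple.setup
  obtain ⟨x, hx⟩ := exists_fix hS hz2
  have hwx : w • x = x := commute_fix hS hz1 hz2 (Subgroup.mem_centralizer_singleton_iff.1 hz).symm hx
  obtain ⟨g, hg⟩ : ∃ g : Subgroup.centralizer ({w} : Set G), actW Ω w g ⟨x, hwx⟩ = B.base := by
    by_cases e : (⟨x, hwx⟩ : FixW Ω w) = B.base
    · exact ⟨1, by rw [map_one, e]; rfl⟩
    · exact (B.trans_fix e (Ne.symm e)).imp fun g h => h.1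
  refine ⟨g, B.s_only _ ⟨?_, fun h => hz1 (by rwa [mul_inv_eq_one, mul_eq_left] at h), ?_⟩ ?_⟩
  · show ((g : G) * z * (g : G)⁻¹) • a = a
    have e : (g : G) • x = a := congrArg Subtype.val hg
    rw [mul_smul, mul_smul, ← e, inv_smul_smul, hx]
  · rw [show (g : G) * z * (g : G)⁻¹ * ((g : G) * z * (g : G)⁻¹) = (g : G) * (z * z) * (g : G)⁻¹ by group, hz2]
    group
  · exact (Subgroup.mem_centralizer_singleton_iff.1 (mul_mem (mul_mem g.2 hz) (inv_mem g.2))).symm

/-- An element of the centraliser fixing `a` centralises `s`. -/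
theorem comm_s {g : G} (hg : g ∈ Subgroup.centralizer ({w} : Set G)) (hga : g • a = a) : g * s * g⁻¹ = s :=
  B.s_only _ (conj_invol B.simple.setup hga B.s_mem)
    (Subgroup.mem_centralizer_singleton_iff.1 (mul_mem (mul_mem hg B.s_cent) (inv_mem hg))).symm

/-- The regular normal subgroup. -/
structure Reg (R : Subgroup (Equiv.Perm (FixW Ω w))) (d : ℕ) : Prop where
  le_range : R ≤ (actW Ω w).range
  norm : ∀ h ∈ (actW Ω w).range, ∀ r ∈ R, h * r * h⁻¹ ∈ R
  comm : ∀ r ∈ R, ∀ r' ∈ R, r * r' = r' * r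
  trans : ∀ x, ∃ r ∈ R, r B.base = x
  free : ∀ r ∈ R, r B.base = B.base → r = 1
  pow_p : ∀ r ∈ R, r ^ p = 1
  card : Nat.card R = p ^ d
  card_fix : Nat.card (FixW Ω w) = p ^ d
  pos : 0 < d
  st_mem : actW Ω w ⟨s, B.s_cent⟩ * actW Ω w ⟨t, B.t_cent⟩ ∈ R

theorem exists_reg : ∃ R d, B.Reg R d := by
  have hS := B.simple.setup
  haveI := finite_pts hS
  haveI := Fact.mk B.prime
  set C := Subgroup.centralizer ({w} : Set G) with hC
  set π := actW Ω w with hπ
  -- no four-group in the centraliser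
  have heven : Even (Nat.card C) := by
    rw [even_iff_two_dvd, ← orderOf_eq_prime (p := 2) (by rw [pow_two, B.s_mem.2.2]) B.s_ne]
    exact Subgroup.orderOf_dvd_natCard C B.s_cent
  have hrank : ∀ E : Subgroup C, ¬ IsKleinFour E := by
    intro E hE
    haveI := hE
    obtain ⟨x, y, hx1, hy1, hxy⟩ : ∃ x y : E, x ≠ 1 ∧ y ≠ 1 ∧ x ≠ y := by
      have h4 : Nat.card E = 4 := IsKleinFour.card_four
      letI := Fintype.ofFinite E
      rw [Nat.card_eq_fintype_card] at h4
      have h3 : (Finset.univ.erase (1 : E)).card = 3 := by rw [Finset.card_erase_of_mem (Finset.mem_univ _)]; simp [h4]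
      obtain ⟨x, y, z, hxy, -, -, e⟩ := Finset.card_eq_three.1 h3
      have hxm : x ∈ Finset.univ.erase (1 : E) := by rw [e]; simp
      have hym : y ∈ Finset.univ.erase (1 : E) := by rw [e]; simp
      exact ⟨x, y, (Finset.mem_erase.1 hxm).1, (Finset.mem_erase.1 hym).1, hxy⟩
    set X : G := ((x : C) : G) with hX
    set Y : G := ((y : C) : G) with hY
    have hX2 : X * X = 1 := congrArg (fun e : E => ((e : C) : G)) (IsKleinFour.mul_self x)
    have hY2 : Y * Y = 1 := congrArg (fun e : E => ((e : C) : G)) (IsKleinFour.mul_self y)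
    have hX1 : X ≠ 1 := fun e => hx1 (Subtype.ext (Subtype.ext e))
    have hY1 : Y ≠ 1 := fun e => hy1 (Subtype.ext (Subtype.ext e))
    have hc : X * Y = Y * X := congrArg (fun e : E => ((e : C) : G)) (IsKleinFour.isMulCommutative.is_comm.comm x y)
    obtain ⟨g, hg⟩ := B.conj_to_s (x : C).2 hX1 hX2
    have hxfix : X • ((g : G)⁻¹ • a) = (g : G)⁻¹ • a := by
      have h : ((g : G) * X * (g : G)⁻¹) • a = a := by rw [hg]; exact B.s_fix
      rwa [mul_smul, mul_smul, smul_eq_iff_eq_inv_smul] at h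
    have hyfix : Y • ((g : G)⁻¹ • a) = (g : G)⁻¹ • a := commute_fix hS hX1 hX2 hc.symm hxfix
    have h2 : (g : G) * Y * (g : G)⁻¹ = s := by
      refine B.s_only _ ⟨?_, fun h => hY1 (by rwa [mul_inv_eq_one, mul_eq_left] at h), ?_⟩
        (Subgroup.mem_centralizer_singleton_iff.1 (mul_mem (mul_mem g.2 (y : C).2) (inv_mem g.2))).symm
      · show ((g : G) * Y * (g : G)⁻¹) • a = a
        rw [mul_smul, mul_smul, hyfix, smul_inv_smul]
      · rw [show (g : G) * Y * (g : G)⁻¹ * ((g : G) * Y * (g : G)⁻¹) = (g : G) * (Y * Y) * (g : G)⁻¹ by group, hY2]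
        group
    exact hxy (Subtype.ext (Subtype.ext (mul_left_cancel (mul_right_cancel (hg.trans h2.symm)))))
  obtain ⟨z, hz, N, hN, hNodd, hzN⟩ := Cfsg.Agent.S0225.result heven hrank
  haveI := hN
  have hz2 : (z : G) * z = 1 := by
    have h := pow_orderOf_eq_one z
    rw [hz, pow_two] at h
    exact congrArg Subtype.val h
  have hz1 : (z : G) ≠ 1 := fun e => by
    rw [show z = 1 from Subtype.ext e, orderOf_one] at hz
    norm_num at hz
  obtain ⟨c, hc⟩ := B.conj_to_s z.2 hz1 hz2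
  have hsN : ∀ g : C, ⟨s, B.s_cent⟩ * g * ⟨s, B.s_cent⟩⁻¹ * g⁻¹ ∈ N := fun g => by
    have h := hN.conj_mem _ (hzN (c⁻¹ * g * c)) c
    have e : (⟨s, B.s_cent⟩ : C) = c * z * c⁻¹ := Subtype.ext hc.symm
    rw [e]
    convert h using 1
    group
  set N' := N.map π with hN'
  have hnorm : ∀ h ∈ π.range, ∀ r ∈ N', h * r * h⁻¹ ∈ N' := by
    rintro _ ⟨g, rfl⟩ _ ⟨x, hx, rfl⟩
    exact ⟨g * x * g⁻¹, hN.conj_mem x hx g, by rw [map_mul, map_mul, map_inv]⟩
  have hne' : N' ≠ ⊥ := by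
    intro h
    have hall : ∀ g : C, π (⟨s, B.s_cent⟩ * g * ⟨s, B.s_cent⟩⁻¹ * g⁻¹) = 1 := fun g =>
      Subgroup.mem_bot.1 (h ▸ ⟨_, hsN g, rfl⟩)
    have hta := hall ⟨t, B.t_cent⟩
    have e := congrArg (fun e : Equiv.Perm (FixW Ω w) => ((e ⟨t • a, B.fix_ta⟩ : FixW Ω w) : Ω)) hta
    simp only [Equiv.Perm.coe_one, id_eq] at e
    rw [actW_apply] at e
    simp only [Subgroup.coe_mul, InvMemClass.coe_inv] at e
    rw [mul_smul, mul_smul, mul_smul, t_inv hS, inv_of_sq B.s_mem.2.2, t_ta hS, B.s_fix] at e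
    exact ta_ne hS (fix_only hS B.s_Q B.s_ne e)
  -- a minimal one
  have hex : ∃ m, ∃ R : Subgroup (Equiv.Perm (FixW Ω w)),
      R ≤ N' ∧ R ≠ ⊥ ∧ (∀ h ∈ π.range, ∀ r ∈ R, h * r * h⁻¹ ∈ R) ∧ Nat.card R = m := ⟨_, N', le_rfl, hne', hnorm, rfl⟩
  obtain ⟨R, hRN, hRne, hRn, hRc⟩ := Nat.find_spec hex
  have hRrange : R ≤ π.range := hRN.trans (Subgroup.map_le_range π N)
  have hRodd : Odd (Nat.card R) := hNodd.of_dvd_nat
    ((Subgroup.card_dvd_of_le hRN).trans (Subgroup.card_map_dvd _ _))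
  haveI : Group.IsSolvable R := Cfsg.Agent.S0205.result hRodd
  have hcomm : ∀ r ∈ R, ∀ r' ∈ R, r * r' = r' * r := by
    by_contra hab
    set R1 := (⁅(⊤ : Subgroup R), (⊤ : Subgroup R)⁆).map R.subtype with hR1
    have hR1R : R1 ≤ R := Subgroup.map_subtype_le _
    have hR1n : ∀ h ∈ π.range, ∀ r ∈ R1, h * r * h⁻¹ ∈ R1 := by
      intro h hh r hr
      rw [hR1, Subgroup.map_commutator, ← MonoidHom.range_eq_map, Subgroup.range_subtype] at hr ⊢
      have hm : R.map (MulAut.conj h).toMonoidHom ≤ R := by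
        rintro _ ⟨x, hx, rfl⟩
        exact hRn h hh x hx
      exact Subgroup.commutator_mono hm hm (by rw [← Subgroup.map_commutator]; exact ⟨r, hr, rfl⟩)
    by_cases hbot : R1 = ⊥
    · refine hab fun r hr r' hr' => ?_
      have h : ⁅(⟨r, hr⟩ : R), (⟨r', hr'⟩ : R)⁆ ∈ ⁅(⊤ : Subgroup R), (⊤ : Subgroup R)⁆ :=
        Subgroup.commutator_mem_commutator trivial trivial
      have h' : ((⁅(⟨r, hr⟩ : R), (⟨r', hr'⟩ : R)⁆ : R) : Equiv.Perm (FixW Ω w)) ∈ R1 := ⟨_, h, rfl⟩
      rw [hbot, Subgroup.mem_bot] at h'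
      exact commutatorElement_eq_one_iff_mul_comm.1 h'
    · haveI : Nontrivial R := (Subgroup.nontrivial_iff_ne_bot R).2 hRne
      have hlt : ⁅(⊤ : Subgroup R), (⊤ : Subgroup R)⁆ < ⊤ := Group.IsSolvable.commutator_lt_top_of_nontrivial R
      have hcard : Nat.card R1 < Nat.card R := by
        rw [hR1, Subgroup.card_map_of_injective R.subtype_injective]
        exact lt_of_le_of_ne (Nat.le_of_dvd Nat.card_pos (Subgroup.card_subgroup_dvd_card _))
          fun e => hlt.ne (Subgroup.eq_top_of_card_eq _ e)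
      exact Nat.find_min hex (hRc ▸ hcard) ⟨R1, hR1R.trans hRN, hbot, hR1n, rfl⟩
  -- transitive and free
  have htrans : ∀ x, ∃ r ∈ R, r B.base = x := by
    intro x
    rcases eq_or_ne x B.base with rfl | hx
    · exact ⟨1, one_mem R, rfl⟩
    obtain ⟨⟨r, hr⟩, hr1⟩ := Subgroup.ne_bot_iff_exists_ne_one.1 hRne
    obtain ⟨u, hu⟩ : ∃ u, r u ≠ u := by
      by_contra! h
      exact hr1 (Subtype.ext (Equiv.ext h))
    obtain ⟨g, g1, g2⟩ := B.trans_fix hu.symm hx.symm
    refine ⟨π g * r * (π g)⁻¹, hRn _ ⟨g, rfl⟩ r hr, ?_⟩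
    have e : (π g)⁻¹ B.base = u := by rw [← g1]; exact (π g).symm_apply_apply u
    show π g (r ((π g)⁻¹ B.base)) = x
    rw [e, g2]
  have hfree : ∀ r ∈ R, r B.base = B.base → r = 1 := fun r hr h => Equiv.ext fun x => by
    obtain ⟨r', hr', rfl⟩ := htrans x
    show (r * r') B.base = r' B.base
    rw [hcomm r hr r' hr']
    exact congrArg r' h
  have hcardR : Nat.card R = Nat.card (FixW Ω w) := by
    refine Nat.card_eq_of_bijective (fun r : R => (r : Equiv.Perm (FixW Ω w)) B.base)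
      ⟨fun r r' h => ?_, fun x => (htrans x).elim fun r hr => ⟨⟨r, hr.1⟩, hr.2⟩⟩
    refine Subtype.ext (inv_mul_eq_one.1 (hfree _ (mul_mem (inv_mem r'.2) r.2) ?_)).symm
    show (r' : Equiv.Perm (FixW Ω w))⁻¹ ((r : Equiv.Perm (FixW Ω w)) B.base) = B.base
    exact (congrArg _ h).trans ((r' : Equiv.Perm (FixW Ω w)).symm_apply_apply _)
  obtain ⟨⟨r0, hr0⟩, hr0o⟩ := exists_prime_orderOf_dvd_card' (G := R) p (hcardR ▸ B.p_dvd_fix)
  rw [← Subgroup.orderOf_coe] at hr0o
  have hpow : ∀ r ∈ R, r ^ p = 1 := by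
    intro r hr
    by_cases hr1 : r = 1
    · rw [hr1, one_pow]
    have hr0' : r0 B.base ≠ B.base := fun h => B.prime.ne_one (hr0o ▸ orderOf_eq_one_iff.2 (hfree r0 hr0 h))
    obtain ⟨g, g1, g2⟩ := B.trans_fix hr0'.symm (fun h => hr1 (hfree r hr h.symm) : B.base ≠ r B.base)
    have e : π g * r0 * (π g)⁻¹ = r := by
      refine (inv_mul_eq_one.1 (hfree _ (mul_mem (inv_mem hr) (hRn _ ⟨g, rfl⟩ r0 hr0)) ?_)).symm
      show r⁻¹ (π g (r0 ((π g)⁻¹ B.base))) = B.base
      have e : (π g)⁻¹ B.base = B.base := by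
        conv_lhs => rw [← g1]
        exact (π g).symm_apply_apply _
      rw [e, g2]
      exact r.symm_apply_apply _
    rw [← e, conj_pow, ← hr0o, pow_orderOf_eq_one, mul_one, mul_inv_cancel]
  obtain ⟨d, hd⟩ := (show IsPGroup p R from fun r => ⟨1, Subtype.ext (by rw [pow_one]; exact hpow r r.2)⟩).exists_card_eq
  refine ⟨R, d, hRrange, hRn, hcomm, htrans, hfree, hpow, hd, hcardR.symm.trans hd, ?_, ?_⟩
  · rcases Nat.eq_zero_or_pos d with rfl | h
    · have h1 := B.two_le_Q0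
      have h2 := B.card_fix
      rw [← hcardR, hd, pow_zero] at h2
      omega
    · exact h
  · obtain ⟨c, hc⟩ := B.conj_to_s B.t_cent hS.ne_one hS.mul_self
    obtain ⟨r, hr, hr'⟩ := htrans (π c⁻¹ B.base)
    obtain ⟨γ, hγ⟩ := hRrange hr
    set δ : C := γ⁻¹ * c⁻¹ with hδ
    have hδa : (δ : G) • a = a := by
      have h : π δ B.base = B.base := by
        rw [hδ, map_mul, map_inv, hγ]
        show r⁻¹ (π c⁻¹ B.base) = B.base
        rw [← hr']
        exact r.symm_apply_apply _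
      exact congrArg Subtype.val h
    have hts : (⟨t, B.t_cent⟩ : C) = γ * ⟨s, B.s_cent⟩ * γ⁻¹ := Subtype.ext (by
      show t = (γ : G) * s * (γ : G)⁻¹
      conv_rhs => rw [← B.comm_s δ.2 hδa]
      rw [← hc, hδ]
      simp only [Subgroup.coe_mul, InvMemClass.coe_inv]
      group)
    rw [hts, map_mul, map_mul, map_inv, hγ, ← mul_assoc, ← mul_assoc]
    refine mul_mem ?_ (inv_mem hr)
    have hs2 : π ⟨s, B.s_cent⟩ * π ⟨s, B.s_cent⟩ = 1 := by
      rw [← map_mul]
      exact (congrArg π (Subtype.ext B.s_mem.2.2 : (⟨s, B.s_cent⟩ : C) * ⟨s, B.s_cent⟩ = 1)).trans (map_one π)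
    have h := hRn (π ⟨s, B.s_cent⟩) ⟨_, rfl⟩ r hr
    rwa [inv_eq_of_mul_eq_one_left hs2] at h

end SmallData

end Cfsg.Lib.BenderSuzuki
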