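import Mathlib.GroupTheory.Nilpotent
import Mathlib.LinearAlgebra.Vandermonde
import Mathlib.GroupTheory.Index

/-!
A fixed point free cyclic group and an element permuting its powers freely: the fixed points of that element
(Wielandt).
-/

set_option autoImplicit false
set_option linter.unusedSectionVars false
set_option linter.style.haveILetI false

namespace Cfsg.Lib.BenderSuzuki

open scoped _root_.Classical

section Additive

variable {A : Type*} [AddCommGroup A] [Finite A] {m a : ℕ} {k w : AddMonoid.End A}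

/-- Vandermonde systems with commuting endomorphisms whose differences are injective. -/
theorem vander_zero (u : Fin m → AddMonoid.End A) (hu : ∀ i j, Commute (u i) (u j))
    (hd : ∀ i j, i ≠ j → Function.Injective ⇑(u i - u j)) :
    (∀ y : Fin m → A, (∀ j, ∑ i : Fin m, (u j ^ (i : ℕ)) (y i) = 0) → y = 0) ∧
      (∀ y : Fin m → A, (∀ i : Fin m, ∑ j, (u j ^ (i : ℕ)) (y j) = 0) → y = 0) := by
  let R : Subring (AddMonoid.End A) := Subring.closure (Set.range u)
  haveI : IsMulCommutative R := Subring.isMulCommutative_closure (by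
    rintro _ ⟨i, rfl⟩ _ ⟨j, rfl⟩
    exact hu i j)
  letI : CommRing R := { (inferInstance : Ring R) with mul_comm := mul_comm' }
  let v : Fin m → R := fun i => ⟨u i, Subring.subset_closure ⟨i, rfl⟩⟩
  have hdet : Function.Injective ⇑((Matrix.vandermonde v).det : AddMonoid.End A) := by
    rw [Matrix.det_vandermonde]
    refine Finset.prod_induction _ (fun x : R => Function.Injective ⇑(x : AddMonoid.End A))
      (fun x y hx hy => hx.comp hy) (fun x y h => h) fun i _ => ?_
    refine Finset.prod_induction _ (fun x : R => Function.Injective ⇑(x : AddMonoid.End A))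
      (fun x y hx hy => hx.comp hy) (fun x y h => h) fun j hj => ?_
    exact hd j i (Finset.mem_Ioi.1 hj).ne'
  have key : ∀ (M : Matrix (Fin m) (Fin m) R), M.det = (Matrix.vandermonde v).det → ∀ y : Fin m → A,
      (∀ i, ∑ j, (M i j : AddMonoid.End A) (y j) = 0) → y = 0 := fun M hM y h => funext fun l => hdet (by
    rw [Pi.zero_apply, map_zero, ← hM]
    have e : ∀ j, ((∑ i, M.adjugate l i * M i j : R) : AddMonoid.End A) (y j) =
        if l = j then (M.det : AddMonoid.End A) (y j) else 0 := fun j => by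
      rw [← Matrix.mul_apply, Matrix.adjugate_mul, Matrix.smul_apply, Matrix.one_apply]
      split_ifs with hlj <;> simp
    have happ : ∀ (f : Fin m → R) (z : A), ((∑ i, f i : R) : AddMonoid.End A) z =
        ∑ i, (f i : AddMonoid.End A) z := fun f z =>
      map_sum ((AddMonoidHom.eval z).comp (R.subtype.toAddMonoidHom : R →+ (A →+ A))) f Finset.univ
    have hz : ∑ j, ((∑ i, M.adjugate l i * M i j : R) : AddMonoid.End A) (y j) = 0 := by
      rw [Finset.sum_congr rfl fun j _ => happ _ _, Finset.sum_comm]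
      refine Finset.sum_eq_zero fun i _ => ?_
      show ∑ j, (M.adjugate l i : AddMonoid.End A) ((M i j : AddMonoid.End A) (y j)) = 0
      rw [← map_sum, h i, map_zero]
    rw [Finset.sum_congr rfl fun j _ => e j, Finset.sum_ite_eq, if_pos (Finset.mem_univ _)] at hz
    exact hz)
  refine ⟨fun y h => key _ rfl y fun j => ?_, fun y h => key _ (Matrix.det_transpose _) y fun i => ?_⟩
  · refine Eq.trans (Finset.sum_congr rfl fun i _ => ?_) (h j)
    simp [Matrix.vandermonde, v]
  · refine Eq.trans (Finset.sum_congr rfl fun j _ => ?_) (h i)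
    simp [Matrix.vandermonde, v]

/-- The fixed points. -/
def fixAdd (w : AddMonoid.End A) : AddSubgroup A where
  carrier := {x | w x = x}
  add_mem' := fun {x y} hx hy => by
    show w (x + y) = x + y
    rw [map_add, show w x = x from hx, show w y = y from hy]
  zero_mem' := map_zero w
  neg_mem' := fun {x} hx => by
    show w (-x) = -x
    rw [map_neg, show w x = x from hx]

/-- The three consequences for a finite abelian group. -/
theorem abelian_main (hw : w ^ m = 1) (hm : 0 < m) (hconj : w * k = k ^ a * w)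
    (hd : ∀ i < m, ∀ j < m, i ≠ j → ∀ x : A, (k ^ a ^ i) x = (k ^ a ^ j) x → x = 0) :
    Nat.card A = Nat.card (fixAdd w) ^ m ∧
      (∀ x : A, ∃ y : Fin m → fixAdd w, x = ∑ i : Fin m, (k ^ (i : ℕ)) (y i : A)) ∧
      (∀ d : A, ∑ j ∈ Finset.range m, (w ^ j) d = 0 → ∃ y, w y - y = d) := by
  have hc1 : ∀ i, w * k ^ i = k ^ (a * i) * w := fun i => by
    induction i with
    | zero => simp
    | succ i ih => rw [pow_succ, ← mul_assoc, ih, mul_assoc, hconj, ← mul_assoc, ← pow_add, Nat.mul_succ]
  have hc : ∀ j i, w ^ j * k ^ i = k ^ (a ^ j * i) * w ^ j := fun j => by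
    induction j with
    | zero => intro i; simp
    | succ j ih =>
      intro i
      rw [pow_succ', mul_assoc, ih, ← mul_assoc, hc1, mul_assoc, ← mul_assoc a, ← pow_succ' a j]
  set u : Fin m → AddMonoid.End A := fun j => k ^ a ^ (j : ℕ) with hu
  obtain ⟨V1, V2⟩ := vander_zero u (fun i j => Commute.pow_pow_self k _ _) (fun i j hij => by
    refine (injective_iff_map_eq_zero (u i - u j)).2 fun x hx => hd i i.2 j j.2 (fun e => hij (Fin.ext e)) x ?_
    exact sub_eq_zero.1 hx)
  let Tr : AddMonoid.End A := ∑ j ∈ Finset.range m, w ^ j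
  have hTr : ∀ x, Tr x = ∑ j ∈ Finset.range m, (w ^ j) x := fun x => AddMonoidHom.finsetSum_apply _ _ _
  have hTrF : ∀ x, Tr x ∈ fixAdd w := fun x => by
    show w (Tr x) = Tr x
    have h1 : ∑ j ∈ Finset.range m, (w ^ (j + 1)) x + (w ^ 0) x = ∑ j ∈ Finset.range m, (w ^ j) x + (w ^ m) x := by
      rw [← Finset.sum_range_succ' (fun j => (w ^ j) x), Finset.sum_range_succ]
    rw [hw, pow_zero] at h1
    rw [hTr, map_sum]
    exact (Finset.sum_congr rfl fun j _ => by rw [pow_succ']; rfl).trans (add_right_cancel h1)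
  let Φ : A → Fin m → fixAdd w := fun x i => ⟨Tr ((k ^ (i : ℕ)) x), hTrF _⟩
  have hΦ : Function.Injective Φ := fun x x' hxx => sub_eq_zero.1 (by
    have h := congrFun (V2 (fun j => (w ^ (j : ℕ)) (x - x')) fun i => ?_) ⟨0, hm⟩
    · simpa using h
    · have h := congrArg Subtype.val (congrFun hxx i)
      rw [← sub_eq_zero, ← map_sub, ← map_sub, hTr, ← Fin.sum_univ_eq_sum_range] at h
      refine Eq.trans (Finset.sum_congr rfl fun j _ => ?_) h
      show (u j ^ (i : ℕ) * w ^ (j : ℕ)) (x - x') = (w ^ (j : ℕ) * k ^ (i : ℕ)) (x - x')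
      rw [hc, hu, ← pow_mul])
  let Ψ : (Fin m → fixAdd w) → A := fun y => ∑ i : Fin m, (k ^ (i : ℕ)) (y i : A)
  have hΨ : Function.Injective Ψ := fun y y' hyy => by
    have h := V1 (fun i => (y i : A) - y' i) fun j => ?_
    · funext i
      exact Subtype.ext (sub_eq_zero.1 (congrFun h i))
    · have h : (w ^ (j : ℕ)) (Ψ y - Ψ y') = 0 := by rw [hyy, sub_self, map_zero]
      simp only [Ψ, ← Finset.sum_sub_distrib, ← map_sub] at h
      rw [map_sum] at h
      refine Eq.trans (Finset.sum_congr rfl fun i _ => ?_) h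
      show (u j ^ (i : ℕ)) ((y i : A) - y' i) = (w ^ (j : ℕ) * k ^ (i : ℕ)) ((y i : A) - y' i)
      rw [hc, hu, ← pow_mul]
      show _ = (k ^ (a ^ (j : ℕ) * i)) ((w ^ (j : ℕ)) ((y i : A) - y' i))
      congr 1
      have hfix : ∀ z ∈ fixAdd w, ∀ n : ℕ, (w ^ n) z = z := fun z hz n => by
        induction n with
        | zero => rfl
        | succ n ih =>
          rw [pow_succ']
          show w ((w ^ n) z) = z
          rw [ih]; exact hz
      exact (hfix _ (sub_mem (y i).2 (y' i).2) _).symm
  have hcard : Nat.card A = Nat.card (fixAdd w) ^ m := by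
    have h1 := Nat.card_le_card_of_injective Φ hΦ
    have h2 := Nat.card_le_card_of_injective Ψ hΨ
    rw [Nat.card_fun, Nat.card_fin] at h1 h2
    omega
  have hcard' : Nat.card (Fin m → fixAdd w) = Nat.card A := by rw [Nat.card_fun, Nat.card_fin, hcard]
  refine ⟨hcard, fun x => ?_, fun d hdz => ?_⟩
  · obtain ⟨y, hy⟩ := (hΨ.bijective_of_nat_card_le hcard'.ge).2 x
    exact ⟨y, hy.symm⟩
  · have hsurj : ∀ f ∈ fixAdd w, ∃ x, Tr x = f := fun f hf => by
      obtain ⟨x, hx⟩ := (hΦ.bijective_of_nat_card_le hcard'.le).2 fun _ => ⟨f, hf⟩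
      refine ⟨x, ?_⟩
      have := congrArg Subtype.val (congrFun hx ⟨0, hm⟩)
      simpa [Φ] using this
    let T : A →+ fixAdd w := AddMonoidHom.codRestrict Tr (fixAdd w) hTrF
    have hT : Function.Surjective T := fun f => (hsurj f f.2).imp fun x hx => Subtype.ext hx
    let S : A →+ A := AddMonoidHom.mk' (fun x => w x - x) fun x y => by rw [map_add]; abel
    have hker : S.ker = fixAdd w := by
      ext x
      exact sub_eq_zero
    have e1 : Nat.card S.range * Nat.card (fixAdd w) = Nat.card T.ker * Nat.card (fixAdd w) := by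
      have a1 := S.ker.card_mul_index
      rw [AddSubgroup.index_ker, hker] at a1
      have a2 := T.ker.card_mul_index
      rw [AddSubgroup.index_ker, AddMonoidHom.range_eq_top.2 hT, AddSubgroup.card_top] at a2
      rw [mul_comm, a1, a2]
    have hle : S.range ≤ T.ker := by
      rintro _ ⟨x, rfl⟩
      refine AddMonoidHom.mem_ker.2 (Subtype.ext ?_)
      show Tr (w x - x) = 0
      rw [map_sub, sub_eq_zero]
      have h1 : ∑ j ∈ Finset.range m, (w ^ (j + 1)) x + (w ^ 0) x = ∑ j ∈ Finset.range m, (w ^ j) x + (w ^ m) x := by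
        rw [← Finset.sum_range_succ' (fun j => (w ^ j) x), Finset.sum_range_succ]
      rw [hw, pow_zero] at h1
      rw [hTr, hTr, ← add_right_cancel h1]
      exact Finset.sum_congr rfl fun j _ => by rw [pow_succ]; rfl
    have heq : S.range = T.ker :=
      AddSubgroup.eq_of_le_of_card_ge hle (Nat.eq_of_mul_eq_mul_right Nat.card_pos e1).ge
    have hmem : d ∈ T.ker := Subtype.ext (by show Tr d = 0; rw [hTr, hdz])
    rw [← heq] at hmem
    exact AddMonoidHom.mem_range.1 hmem

end Additive

section Nilpotent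

/-- An automorphism as an endomorphism of the additive group. -/
def toEnd (A : Type*) [CommGroup A] : MulAut A →* AddMonoid.End (Additive A) where
  toFun e := MonoidHom.toAdditive e.toMonoidHom
  map_one' := rfl
  map_mul' _ _ := rfl

/-- Automorphisms restricted to the centre. -/
def centerAut (G : Type*) [Group G] : MulAut G →* MulAut (Subgroup.center G) where
  toFun e := Subgroup.centerCongr e
  map_one' := MulEquiv.ext fun _ => Subtype.ext rfl
  map_mul' _ _ := MulEquiv.ext fun _ => Subtype.ext rfl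

/-- Automorphisms of the quotient by the centre. -/
def quotAut (G : Type*) [Group G] : MulAut G →* MulAut (G ⧸ Subgroup.center G) where
  toFun e := QuotientGroup.congr _ _ e (Subgroup.map_equiv_eq_comap_symm' e _ |>.trans
    (by
      ext x
      show e.symm x ∈ Subgroup.center G ↔ x ∈ Subgroup.center G
      rw [Subgroup.mem_center_iff, Subgroup.mem_center_iff]
      exact ⟨fun h y => e.symm.injective (by rw [map_mul, map_mul, h]),
        fun h y => e.injective (by rw [map_mul, map_mul, MulEquiv.apply_symm_apply, h])⟩))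
  map_one' := MulEquiv.ext fun q => QuotientGroup.induction_on q fun _ => rfl
  map_mul' _ _ := MulEquiv.ext fun q => QuotientGroup.induction_on q fun _ => rfl

/-- The fixed points of an automorphism. -/
def fixMul {G : Type*} [Group G] (w : MulAut G) : Subgroup G := (w : G →* G).eqLocus (MonoidHom.id G)

theorem mem_fixMul {G : Type*} [Group G] {w : MulAut G} {x : G} : x ∈ fixMul w ↔ w x = x := Iff.rfl

universe u

theorem nilpotent_main (m a : ℕ) (hm : 0 < m) (G : Type u) [Group G] [hn : Group.IsNilpotent G] :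
    Finite G → ∀ k w : MulAut G, w ^ m = 1 → w * k = k ^ a * w →
      (∀ i < m, ∀ j < m, i ≠ j → ∀ x, (k ^ a ^ i) x = (k ^ a ^ j) x → x = 1) →
      Nat.card G = Nat.card (fixMul w) ^ m := by
  refine Group.nilpotent_center_quotient_ind (P := fun G _ _ => Finite G → ∀ k w : MulAut G, w ^ m = 1 →
      w * k = k ^ a * w → (∀ i < m, ∀ j < m, i ≠ j → ∀ x, (k ^ a ^ i) x = (k ^ a ^ j) x → x = 1) →
      Nat.card G = Nat.card (fixMul w) ^ m) G ?_ ?_
  · intro G _ _ _ k w _ _ _
    rw [Nat.card_of_subsingleton (1 : G), Nat.card_of_subsingleton (1 : fixMul w), one_pow]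
  intro G _ _ ih _ k w hw hconj hd
  let Z : Subgroup G := Subgroup.center G
  letI : CommGroup Z := { (inferInstance : Group Z) with mul_comm := fun x y => Subtype.ext (Subgroup.mem_center_iff.1 y.2 x) }
  let cz := (toEnd Z).comp (centerAut G)
  have hcz : ∀ (e : MulAut G) (z : Z), ((Additive.toMul (cz e (Additive.ofMul z)) : Z) : G) = e z := fun _ _ => rfl
  obtain ⟨hZ, -, hlift⟩ := abelian_main (A := Additive Z) (m := m) (a := a) (k := cz k) (w := cz w)
    (by rw [← map_pow, hw, map_one]) hm (by rw [← map_pow, ← map_mul, ← map_mul, hconj])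
    (fun i hi j hj hij x hx => by
      rw [← map_pow, ← map_pow] at hx
      have h1 := congrArg (fun y : Additive Z => ((Additive.toMul y : Z) : G)) hx
      exact congrArg Additive.ofMul (Subtype.ext (hd i hi j hj hij _ h1) : Additive.toMul x = (1 : Z)))
  -- no fixed points appear in the quotient
  have hq : ∀ i < m, ∀ j < m, i ≠ j → ∀ x : G ⧸ Z,
      (quotAut G k ^ a ^ i) x = (quotAut G k ^ a ^ j) x → x = 1 := by
    intro i hi j hj hij q hqe
    obtain ⟨x, rfl⟩ := QuotientGroup.mk_surjective q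
    rw [← map_pow, ← map_pow] at hqe
    set e := (k ^ a ^ j)⁻¹ * k ^ a ^ i with he
    have hfix : ∀ y, e y = y → y = 1 := fun y hy => hd i hi j hj hij y (by
      have h := congrArg (k ^ a ^ j) hy
      rwa [he, MulAut.mul_apply, MulAut.apply_inv_self] at h)
    have hez : x⁻¹ * e x ∈ Z := by
      have hz : ((k ^ a ^ j) x)⁻¹ * (k ^ a ^ i) x ∈ Z := QuotientGroup.eq.1 hqe.symm
      have := (centerAut G (k ^ a ^ j)⁻¹ ⟨_, hz⟩).2
      convert this using 1
      show x⁻¹ * e x = (k ^ a ^ j)⁻¹ (((k ^ a ^ j) x)⁻¹ * (k ^ a ^ i) x)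
      rw [map_mul, map_inv, MulAut.inv_apply_self, he, MulAut.mul_apply]
    have hbij : Function.Bijective fun z : Z => z⁻¹ * centerAut G e z := by
      refine Finite.injective_iff_bijective.1 fun z z' h => ?_
      have hh : z⁻¹ * centerAut G e z = z'⁻¹ * centerAut G e z' := h
      have h2 : centerAut G e (z' * z⁻¹) = z' * z⁻¹ := by
        rw [map_mul, map_inv, show centerAut G e z = z * (z'⁻¹ * centerAut G e z') by rw [← hh, mul_inv_cancel_left],
          mul_inv_rev, mul_inv_rev, inv_inv, ← mul_assoc, ← mul_assoc, mul_inv_cancel, one_mul]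
      have h3 := hfix _ (congrArg Subtype.val h2)
      exact (mul_inv_eq_one.1 (Subtype.ext h3 : z' * z⁻¹ = 1)).symm
    obtain ⟨z, hz⟩ := hbij.2 ⟨_, hez⟩
    have hz' : (z : G)⁻¹ * e z = x⁻¹ * e x := congrArg Subtype.val hz
    have hx1 := hfix (x * (z : G)⁻¹) (by
      rw [map_mul, map_inv, show e z = (z : G) * (x⁻¹ * e x) by rw [← hz', mul_inv_cancel_left]]
      have hcomm := Subgroup.mem_center_iff.1 z.2
      rw [mul_inv_rev, mul_inv_rev, inv_inv, ← mul_assoc, ← mul_assoc, mul_inv_cancel, one_mul])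
    rw [QuotientGroup.eq_one_iff, mul_inv_eq_one.1 hx1]
    exact z.2
  have hQ := ih inferInstance (quotAut G k) (quotAut G w) (by rw [← map_pow, hw, map_one])
    (by rw [← map_pow, ← map_mul, ← map_mul, hconj]) hq
  -- the fixed points map onto those of the quotient
  let f : fixMul w →* fixMul (quotAut G w) :=
    { toFun := fun x => ⟨QuotientGroup.mk (x : G), congrArg QuotientGroup.mk (mem_fixMul.1 x.2)⟩
      map_one' := rfl
      map_mul' := fun _ _ => rfl }
  have hf : Function.Surjective f := by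
    rintro ⟨q, hq'⟩
    obtain ⟨x, rfl⟩ := QuotientGroup.mk_surjective q
    have hdm : x⁻¹ * w x ∈ Z := QuotientGroup.eq.1 (mem_fixMul.1 hq').symm
    have hsum : ∀ n, ((Additive.toMul (∑ j ∈ Finset.range n, (cz w ^ j) (Additive.ofMul ⟨_, hdm⟩)) : Z) : G) =
        x⁻¹ * (w ^ n) x := by
      intro n
      induction n with
      | zero => simp
      | succ n ihn =>
        rw [Finset.sum_range_succ, toMul_add, Subgroup.coe_mul, ihn, ← map_pow, hcz]
        show x⁻¹ * (w ^ n) x * (w ^ n) (x⁻¹ * w x) = _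
        rw [map_mul, map_inv, pow_succ, MulAut.mul_apply]
        group
    obtain ⟨y, hy⟩ := hlift (Additive.ofMul ⟨_, hdm⟩) (Subtype.ext (by
      show ((Additive.toMul (∑ j ∈ Finset.range m, (cz w ^ j) (Additive.ofMul ⟨_, hdm⟩)) : Z) : G) = 1
      rw [hsum, hw, MulAut.one_apply, inv_mul_cancel]) : Additive.toMul _ = (1 : Z))
    set z : Z := Additive.toMul y
    have hy' : w (z : G) = (x⁻¹ * w x) * z := by
      have := congrArg (fun y : Additive Z => ((Additive.toMul y : Z) : G)) (sub_eq_iff_eq_add.1 hy)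
      exact this
    refine ⟨⟨x * (z : G)⁻¹, ?_⟩, Subtype.ext (QuotientGroup.eq.2 ?_)⟩
    · show w (x * (z : G)⁻¹) = x * (z : G)⁻¹
      rw [map_mul, map_inv, hy', mul_inv_rev, ← mul_assoc, Subgroup.mem_center_iff.1 (inv_mem z.2) (w x),
        Subgroup.mem_center_iff.1 (inv_mem z.2) x]
      group
    · rw [mul_inv_rev, inv_inv, inv_mul_cancel_right]; exact z.2
  have hkf : Nat.card f.ker = Nat.card (fixAdd (cz w)) := by
    refine Nat.card_congr
      { toFun := fun x => ⟨Additive.ofMul ⟨(x : fixMul w), (QuotientGroup.eq_one_iff _).1 (congrArg Subtype.val x.2)⟩,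
          congrArg Additive.ofMul (Subtype.ext (mem_fixMul.1 x.1.2))⟩
        invFun := fun y => ⟨⟨((Additive.toMul (y : Additive Z) : Z) : G),
          congrArg (fun y : Additive Z => ((Additive.toMul y : Z) : G)) y.2⟩,
          Subtype.ext ((QuotientGroup.eq_one_iff _).2 (Additive.toMul (y : Additive Z)).2)⟩
        left_inv := fun _ => rfl
        right_inv := fun _ => rfl }
  have h1 := f.ker.card_mul_index
  rw [Subgroup.index_ker, MonoidHom.range_eq_top.2 hf, Subgroup.card_top, hkf] at h1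
  have h2 := Subgroup.card_eq_card_quotient_mul_card_subgroup Z
  rw [hQ, show Nat.card Z = Nat.card (fixAdd (cz w)) ^ m from hZ] at h2
  rw [h2, ← h1, mul_pow, mul_comm]

end Nilpotent

section Subgroups

variable {G : Type*} [Group G] [Finite G] {X : Subgroup G} {k w : G} {m a : ℕ}

theorem conj_pow_of_conj (hconj : w * k * w⁻¹ = k ^ a) (i : ℕ) : w ^ i * k * (w ^ i)⁻¹ = k ^ a ^ i := by
  induction i with
  | zero => simp
  | succ i ih =>
    rw [pow_succ', show w * w ^ i * k * (w * w ^ i)⁻¹ = w * (w ^ i * k * (w ^ i)⁻¹) * w⁻¹ by group, ih, ← conj_pow,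
      hconj, ← pow_mul, ← pow_succ' a i]

theorem powers_distinct (hconj : w * k * w⁻¹ = k ^ a) (hmove : ∀ d, 0 < d → d < m → ¬ Commute (w ^ d) k) :
    ∀ i < m, ∀ j < m, i ≠ j → k ^ a ^ i ≠ k ^ a ^ j := by
  intro i hi j hj hij he
  wlog hlt : i < j generalizing i j
  · exact this j hj i hi hij.symm he.symm (by omega)
  refine hmove (j - i) (by omega) (by omega) ?_
  rw [← conj_pow_of_conj hconj, ← conj_pow_of_conj hconj, show w ^ j = w ^ i * w ^ (j - i) by
    rw [← pow_add]; congr 1; omega] at he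
  have h1 : w ^ (j - i) * k * (w ^ (j - i))⁻¹ = k := by
    calc w ^ (j - i) * k * (w ^ (j - i))⁻¹
        = (w ^ i)⁻¹ * (w ^ i * w ^ (j - i) * k * (w ^ i * w ^ (j - i))⁻¹) * w ^ i := by group
      _ = k := by rw [← he]; group
  exact mul_inv_eq_iff_eq_mul.1 h1

theorem move_of_prime {p : ℕ} (hp : p.Prime) (hw : w ^ p = 1) (hne : ¬ Commute w k) :
    ∀ d, 0 < d → d < p → ¬ Commute (w ^ d) k := by
  intro d hd0 hdp hc
  refine hne ?_
  have hcop : Nat.Coprime (orderOf w) d :=
    ((hp.coprime_iff_not_dvd.2 fun h => (Nat.le_of_dvd hd0 h).not_gt hdp).coprime_dvd_left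
      (orderOf_dvd_of_pow_eq_one hw))
  obtain ⟨e, he⟩ := exists_pow_eq_self_of_coprime hcop.symm
  rw [← he]
  exact hc.pow_left e

/-- Wielandt's formula for a nilpotent subgroup. -/
theorem card_cent_pow [Group.IsNilpotent X] (hm : 0 < m) (hk : k ∈ Subgroup.normalizer (X : Set G))
    (hw : w ∈ Subgroup.normalizer (X : Set G)) (hwm : ∀ x ∈ X, Commute (w ^ m) x) (hconj : w * k * w⁻¹ = k ^ a)
    (hfpf : ∀ g ∈ Subgroup.zpowers k, g ≠ 1 → ∀ x ∈ X, Commute g x → x = 1)
    (hmove : ∀ d, 0 < d → d < m → ¬ Commute (w ^ d) k) :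
    Nat.card X = Nat.card ↥(X ⊓ Subgroup.centralizer {w}) ^ m := by
  let c := X.normalizerMonoidHom
  have hdist := powers_distinct hconj hmove
  rw [nilpotent_main m a hm X inferInstance (c ⟨k, hk⟩) (c ⟨w, hw⟩)
    (by
      rw [← map_pow]
      refine MulEquiv.ext fun x => Subtype.ext ?_
      show w ^ m * (x : G) * (w ^ m)⁻¹ = (x : G)
      rw [(hwm x x.2).eq, mul_inv_cancel_right])
    (by
      rw [← map_pow, ← map_mul, ← map_mul]
      exact congrArg c (Subtype.ext (mul_inv_eq_iff_eq_mul.1 hconj)))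
    (fun i hi j hj hij x hx => by
      rw [← map_pow, ← map_pow] at hx
      have h : k ^ a ^ i * (x : G) * (k ^ a ^ i)⁻¹ = k ^ a ^ j * (x : G) * (k ^ a ^ j)⁻¹ := congrArg Subtype.val hx
      refine Subtype.ext (hfpf ((k ^ a ^ j)⁻¹ * k ^ a ^ i)
        (mul_mem (inv_mem (pow_mem (Subgroup.mem_zpowers k) _)) (pow_mem (Subgroup.mem_zpowers k) _))
        (fun e => hdist i hi j hj hij (inv_mul_eq_one.1 e).symm) x x.2 ?_)
      refine mul_inv_eq_iff_eq_mul.1 ?_
      calc (k ^ a ^ j)⁻¹ * k ^ a ^ i * (x : G) * ((k ^ a ^ j)⁻¹ * k ^ a ^ i)⁻¹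
          = (k ^ a ^ j)⁻¹ * (k ^ a ^ i * (x : G) * (k ^ a ^ i)⁻¹) * k ^ a ^ j := by group
        _ = x := by rw [h]; group)]
  congr 1
  refine Nat.card_congr
    { toFun := fun x => ⟨((x : X) : G), (x : X).2, ?_⟩
      invFun := fun x => ⟨⟨x.1, x.2.1⟩, ?_⟩
      left_inv := fun _ => rfl
      right_inv := fun _ => rfl }
  · exact Subgroup.mem_centralizer_singleton_iff.2
      (mul_inv_eq_iff_eq_mul.1 (congrArg Subtype.val x.2 : w * ((x : X) : G) * w⁻¹ = (x : X))).symm
  · refine Subtype.ext ?_
    show w * x.1 * w⁻¹ = x.1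
    rw [← Subgroup.mem_centralizer_singleton_iff.1 x.2.2, mul_inv_cancel_right]

end Subgroups

end Cfsg.Lib.BenderSuzuki
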