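import Cfsg.Agent.BenderSuzuki.Steps
import Cfsg.Agent.BenderSuzuki.Wielandt
import Cfsg.Agent.RankOne.CentralizerQuotient

/-!
An element of prime order of `C_D(t)` outside the centraliser of the involutions: first facts.
-/

set_option autoImplicit false
set_option linter.unusedSectionVars false
set_option linter.style.haveILetI false

namespace Cfsg.Lib.BenderSuzuki

open MulAction Cfsg.Lib.RankOne
open scoped _root_.Classical

universe u v

variable {G : Type u} {Ω : Type v} [Group G] [Finite G] [MulAction G Ω] {a : Ω} {t : G} {Q : Subgroup G}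

namespace Alpha

/-- A fixed generator `k` of the inverted elements. -/
structure Gen (Ω : Type v) [MulAction G Ω] (a : Ω) (t k : G) : Prop where
  mem_iff : ∀ g : G, g ∈ invK Ω a t ↔ g ∈ Subgroup.zpowers k
  norm : ∀ d ∈ twoStab Ω a t, d * k * d⁻¹ ∈ Subgroup.zpowers k

theorem exists_gen (hs : Simple G Ω a t Q) : ∃ k : G, Gen Ω a t k := by
  obtain ⟨C, hC, hcyc, hn⟩ := inverted_subgroup hs.setup hs.two
  obtain ⟨k, hk⟩ := C.isCyclic_iff_exists_zpowers_eq_top.1 hcyc
  have hmem : ∀ g : G, g ∈ invK Ω a t ↔ g ∈ Subgroup.zpowers k := fun g => by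
    rw [hk, ← SetLike.mem_coe, hC]
  refine ⟨k, hmem, fun d hd => ?_⟩
  rw [hk]
  exact hn d hd k (hk ▸ Subgroup.mem_zpowers k)

theorem Gen.inv_mem {k : G} (hk : Gen Ω a t k) : k ∈ invK Ω a t := (hk.mem_iff k).2 (Subgroup.mem_zpowers k)

theorem Gen.fix_a {k : G} (hk : Gen Ω a t k) : k • a = a := (Subgroup.mem_inf.1 hk.inv_mem.1).1

theorem Gen.fpf {k : G} (hk : Gen Ω a t k) (hs : Simple G Ω a t Q) {X : Subgroup G} (hX : X ≤ Q) :
    ∀ g ∈ Subgroup.zpowers k, g ≠ 1 → ∀ x ∈ X, Commute g x → x = 1 := fun g hg hg1 x hx hc => by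
  have h : x ∈ Q ⊓ Subgroup.centralizer {g} :=
    ⟨hX hx, Subgroup.mem_centralizer_singleton_iff.2 hc.symm⟩
  rwa [cent_inverted hs.setup ((hk.mem_iff g).2 hg) hg1, Subgroup.mem_bot] at h

theorem mem_normalizer_of_conj {H : Subgroup G} {g : G} (h : ∀ x ∈ H, g * x * g⁻¹ ∈ H) :
    g ∈ Subgroup.normalizer (H : Set G) := by
  have hle : H.map (MulAut.conj g).toMonoidHom ≤ H := by
    rintro _ ⟨x, hx, rfl⟩
    exact h x hx
  have heq := Subgroup.eq_of_le_of_card_ge hle
    (Subgroup.card_map_of_injective (MulAut.conj g).injective).ge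
  rw [Subgroup.mem_normalizer_iff]
  refine fun x => ⟨h x, fun hx => ?_⟩
  rw [← heq] at hx
  obtain ⟨y, hy, e⟩ := hx
  have : y = x := by
    have e' : g * y * g⁻¹ = g * x * g⁻¹ := e
    exact mul_left_cancel (mul_right_cancel e')
  exact this ▸ hy

theorem normalizer_Q_of_fix (hs : Simple G Ω a t Q) {g : G} (hg : g • a = a) :
    g ∈ Subgroup.normalizer (Q : Set G) := by
  rw [normalizer_Q hs.setup]; exact hg

theorem centT_fix {x : G} (hx : x ∈ centT Ω a t) : x • a = a := (Subgroup.mem_inf.1 (Subgroup.mem_inf.1 hx).1).1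

theorem centT_comm {x : G} (hx : x ∈ centT Ω a t) : Commute x t :=
  Subgroup.mem_centralizer_singleton_iff.1 (Subgroup.mem_inf.1 hx).2

theorem mem_centI_iff {k : G} (hk : Gen Ω a t k) (hs : Simple G Ω a t Q) {x : G} (hx : x ∈ centT Ω a t) :
    x ∈ centI Ω a t ↔ Commute x k := by
  have h := cent_all hs.setup (a := a) (t := t)
  constructor
  · intro hxI
    have h' : x ∈ centT Ω a t ⊓ Subgroup.centralizer (invK Ω a t) := by
      show x ∈ _
      rw [show centT Ω a t ⊓ Subgroup.centralizer (invK Ω a t) = centI Ω a t from h]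
      exact hxI
    exact (Subgroup.mem_centralizer_iff.1 (Subgroup.mem_inf.1 h').2 k hk.inv_mem).symm
  · intro hc
    rw [show centI Ω a t = centT Ω a t ⊓ Subgroup.centralizer (invK Ω a t) from h.symm]
    refine Subgroup.mem_inf.2 ⟨hx, Subgroup.mem_centralizer_iff.2 fun g hg => ?_⟩
    obtain ⟨i, rfl⟩ := Subgroup.mem_zpowers_iff.1 ((hk.mem_iff g).1 hg)
    exact (hc.zpow_right i).eq.symm

theorem centI_le (hs : Simple G Ω a t Q) : centI Ω a t ≤ centT Ω a t := by
  rw [show centI Ω a t = centT Ω a t ⊓ Subgroup.centralizer (invK Ω a t) from (cent_all hs.setup).symm]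
  exact inf_le_left

theorem exists_mult {k : G} (hk : Gen Ω a t k) {d : G} (hd : d ∈ twoStab Ω a t) :
    ∃ e : ℕ, d * k * d⁻¹ = k ^ e :=
  (mem_powers_iff_mem_zpowers.2 (hk.norm d hd) : d * k * d⁻¹ ∈ Submonoid.powers k).imp fun _ h => h.symm

/-- The group of involutions fixing `a`, as a subgroup. -/
abbrev zGroup (hs : Simple G Ω a t Q) : Subgroup G := involGroup hs.setup hs.two

theorem zGroup_le (hs : Simple G Ω a t Q) : zGroup hs ≤ Q := by
  rintro x (rfl | hx)
  · exact one_mem Q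
  · exact inv_mem_Q hs.setup hx.1 hx.2.2

theorem zGroup_central (hs : Simple G Ω a t Q) {z : G} (hz : z ∈ zGroup hs) {x : G} (hx : x ∈ Q) :
    z * x = x * z := by
  rcases hz with rfl | hz
  · rw [one_mul, mul_one]
  · exact (invol_central hs.setup hs.two hz).2 x hx

theorem zGroup_normalizer (hs : Simple G Ω a t Q) {g : G} (hg : g • a = a) :
    g ∈ Subgroup.normalizer (zGroup hs : Set G) :=
  mem_normalizer_of_conj fun _ hx => conj_involGroup hs.setup hs.two hg hx

theorem card_involGroup_inf (hs : Simple G Ω a t Q) (H : Subgroup G) :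
    Nat.card ↥(zGroup hs ⊓ H) = Nat.card {z // z ∈ invl G a ∧ z ∈ H} + 1 := by
  rw [← Finite.card_option]
  refine Nat.card_congr (Equiv.ofBijective (fun x : ↥(zGroup hs ⊓ H) =>
    if h : (x : G) = 1 then none else some (⟨x, x.2.1.resolve_left h, x.2.2⟩ : {z // z ∈ invl G a ∧ z ∈ H}))
    ⟨fun x y hxy => ?_, fun o => ?_⟩)
  · simp only at hxy
    split_ifs at hxy with h1 h2 h2
    · exact Subtype.ext (h1.trans h2.symm)
    · have h := Option.some.inj hxy
      exact Subtype.ext (congrArg Subtype.val h :)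
  · cases o with
    | none => exact ⟨⟨1, one_mem _⟩, by simp⟩
    | some z => exact ⟨⟨z.1, Or.inr z.2.1, z.2.2⟩, by simp [z.2.1.2.1]⟩

theorem card_zGroup (hs : Simple G Ω a t Q) : Nat.card (zGroup hs) = qNum G a := by
  have h := card_involGroup_inf hs ⊤
  rw [inf_top_eq] at h
  rw [h, qNum]
  exact congrArg (· + 1) (Nat.card_congr (Equiv.subtypeEquivRight fun z => ⟨fun hz => hz.1, fun hz => ⟨hz, trivial⟩⟩))

theorem card_cent_zGroup (hs : Simple G Ω a t Q) (x : G) :
    Nat.card ↥(zGroup hs ⊓ Subgroup.centralizer {x}) = Nat.card {z // z ∈ invl G a ∧ Commute x z} + 1 := by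
  rw [card_involGroup_inf hs]
  exact congrArg (· + 1) (Nat.card_congr (Equiv.subtypeEquivRight fun z =>
    and_congr_right fun _ => Subgroup.mem_centralizer_singleton_iff.trans eq_comm))

/-- An involution fixing `a` centralised by all of `C_D(t)`. -/
theorem exists_base (hs : Simple G Ω a t Q) :
    ∃ s ∈ invl G a, ∀ x ∈ centT Ω a t, Commute x s := by
  obtain ⟨⟨s, r⟩, ⟨hs', hr, he⟩, -⟩ := partner hs.setup
  refine ⟨s, hs', fun x hx => ?_⟩
  have h : x ∈ twoStab Ω a t ⊓ Subgroup.centralizer {s} := cent_eq hs.setup hs' hr he ▸ hx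
  exact Subgroup.mem_centralizer_singleton_iff.1 (Subgroup.mem_inf.1 h).2

theorem two_le_cent_zGroup (hs : Simple G Ω a t Q) {x : G} (hx : x ∈ centT Ω a t) :
    2 ≤ Nat.card ↥(zGroup hs ⊓ Subgroup.centralizer {x}) := by
  obtain ⟨s, hs', hc⟩ := exists_base hs
  rw [card_cent_zGroup hs]
  haveI : Nonempty {z // z ∈ invl G a ∧ Commute x z} := ⟨⟨s, hs', hc x hx⟩⟩
  have := Nat.card_pos (α := {z // z ∈ invl G a ∧ Commute x z})
  omega

theorem cent_zGroup_pow_two (hs : Simple G Ω a t Q) (H : Subgroup G) :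
    ∃ e, Nat.card ↥(zGroup hs ⊓ H) = 2 ^ e := by
  have hp : IsPGroup 2 ↥(zGroup hs ⊓ H) := fun x => ⟨1, Subtype.ext (by
    rw [pow_one, pow_two]; exact involGroup_sq hs.setup hs.two x.2.1)⟩
  haveI := Fact.mk Nat.prime_two
  exact hp.exists_card_eq

/-- Wielandt's formula for the invariant subgroups of `Q`. -/
theorem card_fix_pow {k : G} (hk : Gen Ω a t k) (hs : Simple G Ω a t Q) {X : Subgroup G} (hXQ : X ≤ Q)
    (hkX : k ∈ Subgroup.normalizer (X : Set G)) {x : G} (hx : x ∈ centT Ω a t)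
    (hxX : x ∈ Subgroup.normalizer (X : Set G)) {m : ℕ} (hm : 0 < m) (hxm : ∀ y ∈ X, Commute (x ^ m) y)
    (hmove : ∀ d, 0 < d → d < m → x ^ d ∉ centI Ω a t) :
    Nat.card X = Nat.card ↥(X ⊓ Subgroup.centralizer {x}) ^ m := by
  haveI := nilpotent_Q hs.setup hs.two
  haveI : Group.IsNilpotent X := Group.nilpotent_of_mulEquiv (Subgroup.subgroupOfEquivOfLe hXQ)
  obtain ⟨e, he⟩ := exists_mult hk (Subgroup.mem_inf.1 hx).1
  exact card_cent_pow hm hkX hxX hxm he (hk.fpf hs hXQ) fun d hd hdm hc =>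
    hmove d hd hdm ((mem_centI_iff hk hs (pow_mem hx d)).2 hc)

end Alpha

end Cfsg.Lib.BenderSuzuki
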