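import Cfsg.Agent.BenderSuzuki.AlphaPrimeV
import Cfsg.Agent.Coprime.SolvableBasics

/-!
An element of prime order `p` centralising one involution when `p` divides the order of the centraliser
of the involutions.
-/

set_option autoImplicit false
set_option linter.unusedSectionVars false
set_option linter.style.haveILetI false

namespace Cfsg.Lib.BenderSuzuki

open MulAction Cfsg.Lib.RankOne
open scoped _root_.Classical

universe u v

variable {G : Type u} {Ω : Type v} [Group G] [Finite G] [MulAction G Ω] {a : Ω} {t : G} {Q : Subgroup G}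

/-- The points fixed by a subset of the two-point stabiliser. -/
theorem card_fix_set (hs : Simple G Ω a t Q) {X : Set G} (hX : X ⊆ (twoStab Ω a t : Set G)) :
    Nat.card {x : Ω // FixX Ω X x} = Nat.card ↥(Q ⊓ Subgroup.centralizer X) + 1 := by
  have hS := hs.setup
  haveI := finite_pts hS
  rw [← Finite.card_option]
  have fa : FixX Ω X a := fun g hg => (Subgroup.mem_inf.1 (hX hg)).1
  have fta : FixX Ω X (t • a) := fun g hg => (Subgroup.mem_inf.1 (hX hg)).2
  have hmem : ∀ y : ↥(Q ⊓ Subgroup.centralizer X), FixX Ω X ((y : G) • t • a) := fun y g hg => by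
    rw [← mul_smul, Subgroup.mem_centralizer_iff.1 (Subgroup.mem_inf.1 y.2).2 g hg, mul_smul, fta g hg]
  have hne : ∀ y : ↥(Q ⊓ Subgroup.centralizer X), (y : G) • t • a ≠ a := fun y h =>
    ta_ne hS (MulAction.injective (y : G) (h.trans (RankOne.fix_a hS (Subgroup.mem_inf.1 y.2).1).symm))
  refine (Nat.card_eq_of_bijective (fun o : Option ↥(Q ⊓ Subgroup.centralizer X) =>
    (o.elim ⟨a, fa⟩ fun y => ⟨(y : G) • t • a, hmem y⟩ : {x : Ω // FixX Ω X x})) ⟨?_, fun x => ?_⟩).symm
  · rintro (_ | y) (_ | y') h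
    · rfl
    · exact absurd (congrArg Subtype.val h).symm (hne y')
    · exact absurd (congrArg Subtype.val h) (hne y)
    · refine congrArg some (Subtype.ext ?_)
      obtain ⟨z, -, hz⟩ := regular hS (ta_ne hS) (hne y')
      exact congrArg (Subtype.val : Q → G) ((hz ⟨y, (Subgroup.mem_inf.1 y.2).1⟩ (congrArg Subtype.val h)).trans
        (hz ⟨y', (Subgroup.mem_inf.1 y'.2).1⟩ rfl).symm)
  · by_cases hx : (x : Ω) = a
    · exact ⟨none, Subtype.ext hx.symm⟩
    · obtain ⟨y, hy, hyx⟩ := fix_trans_a hS hX (ta_ne hS) hx fta x.2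
      exact ⟨some ⟨y, hy⟩, Subtype.ext hyx⟩

namespace SmallData

open Alpha

variable {k w s : G} {p : ℕ} (B : SmallData G Ω a t Q k w s p) {R : Subgroup (Equiv.Perm (FixW Ω w))} {d : ℕ}

include B

/-- An element of order `p` of the centraliser of the involutions commuting with `w`. -/
theorem exists_v (hV : p ∣ Nat.card (centI Ω a t)) : ∃ v ∈ centI Ω a t, orderOf v = p ∧ Commute v w := by
  haveI := Fact.mk B.prime
  set W := centT Ω a t
  set V := (centI Ω a t).subgroupOf W with hV'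
  have hcV : Nat.card V = Nat.card (centI Ω a t) :=
    Nat.card_congr (Subgroup.subgroupOfEquivOfLe (centI_le B.simple)).toEquiv
  haveI : V.Normal := ⟨fun x hx g => by
    rw [hV', Subgroup.mem_subgroupOf] at hx ⊢
    refine (mem_centI_iff B.gen B.simple (g * x * g⁻¹ : W).2).2 ?_
    have hxk : B.rho ⟨x, (Subgroup.mem_inf.1 x.2).1⟩ = 1 :=
      B.rho_eq_one_iff.2 ((mem_centI_iff B.gen B.simple x.2).1 hx)
    refine (B.rho_eq_one_iff (d := ⟨g, (Subgroup.mem_inf.1 g.2).1⟩ * ⟨x, (Subgroup.mem_inf.1 x.2).1⟩ *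
      ⟨g, (Subgroup.mem_inf.1 g.2).1⟩⁻¹)).1 ?_
    rw [map_mul, map_mul, map_inv, hxk, mul_one, mul_inv_cancel]⟩
  have hidx : V.index = p := by
    have h := V.card_mul_index
    rw [hcV, B.card_centT, mul_comm p] at h
    exact Nat.eq_of_mul_eq_mul_left Nat.card_pos h
  have hwW : IsPGroup p (Subgroup.zpowers (⟨w, B.mem⟩ : W)) := IsPGroup.of_card (n := 1) (by
    rw [Nat.card_zpowers, ← Subgroup.orderOf_coe, pow_one]; exact B.order)
  obtain ⟨P, hwP⟩ := hwW.exists_le_sylow
  have hN : V.subgroupOf (P : Subgroup W) ≠ ⊥ := fun hbot => by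
    have h1 : V.relIndex (P : Subgroup W) = Nat.card (P : Subgroup W) := by
      show (V.subgroupOf (P : Subgroup W)).index = _
      rw [hbot, Subgroup.index_bot]
    have h2 := Subgroup.relIndex_dvd_index_of_normal V (P : Subgroup W)
    rw [h1, hidx] at h2
    have h3 : p ^ 2 ∣ Nat.card (P : Subgroup W) := P.pow_dvd_card_of_pow_dvd_card (by
      rw [B.card_centT, pow_two]; exact Nat.mul_dvd_mul_left p hV)
    have := Nat.le_of_dvd B.prime.pos (h3.trans h2)
    nlinarith [B.prime.two_le]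
  haveI : Group.IsNilpotent (P : Subgroup W) := P.isPGroup'.isNilpotent
  have hne := Cfsg.Lib.Coprime.inf_center_ne_bot _ hN
  set Z := V.subgroupOf (P : Subgroup W) ⊓ Subgroup.center (P : Subgroup W)
  haveI : Nontrivial Z := (Subgroup.nontrivial_iff_ne_bot _).2 hne
  obtain ⟨e, he, hc⟩ := (P.isPGroup'.to_subgroup Z).nontrivial_iff_card.1 ‹_›
  obtain ⟨⟨z, hzN, hzc⟩, hz⟩ := exists_prime_orderOf_dvd_card' (G := Z) p (hc ▸ dvd_pow_self p he.ne')
  refine ⟨((z : W) : G), hzN, ?_, ?_⟩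
  · exact (Subgroup.orderOf_coe _).trans ((Subgroup.orderOf_coe _).trans ((Subgroup.orderOf_coe (⟨z, hzN, hzc⟩ : Z)).trans hz))
  · exact (congrArg (fun e : (P : Subgroup W) => ((e : W) : G))
      (Subgroup.mem_center_iff.1 hzc ⟨_, hwP (Subgroup.mem_zpowers _)⟩)).symm

/-- The three possibilities when `p` divides the order of the centraliser of the involutions. -/
theorem dich_div (hc : CentStep.{u, v}) (hIH : IH.{u, v} (Nat.card G)) (hV : p ∣ Nat.card (centI Ω a t))
    (hR : B.Reg R d) : Dich a t Q := by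
  have hS := B.simple.setup
  haveI := finite_pts hS
  haveI := Fact.mk B.prime
  haveI := Fact.mk Nat.prime_two
  obtain ⟨v, hvI, hvo, hvw⟩ := B.exists_v hV
  have hvT : v ∈ centT Ω a t := centI_le B.simple hvI
  have hv1 : v ≠ 1 := fun e => B.prime.ne_one (by rw [← hvo, e, orderOf_one])
  have hvk : Commute v k := (mem_centI_iff B.gen B.simple hvT).1 hvI
  have hva := centT_fix hvT
  have hV1 : centI Ω a t ≠ ⊥ := fun h => hv1 (by rwa [h, Subgroup.mem_bot] at hvI)
  have hvwd : ({w, v} : Set G) ⊆ (twoStab Ω a t : Set G) := fun g hg => by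
    rcases hg with rfl | rfl
    · exact (Subgroup.mem_inf.1 B.mem).1
    · exact (Subgroup.mem_inf.1 hvT).1
  have hq : Nat.card {z // z ∈ invl G a ∧ Commute v z} + 1 = qNum G a :=
    congrArg (· + 1) (Nat.card_congr (Equiv.subtypeEquivRight fun z => ⟨fun h => h.1, fun h =>
      ⟨h, (Subgroup.mem_centralizer_iff.1 (Subgroup.mem_inf.1 hvI).2 z h).symm⟩⟩))
  obtain ⟨hL, hS'⟩ := hc B.simple hIH v hvT hv1 (qNum G a) hq (le_trans (by norm_num) B.eight_le)
  -- the fixed points
  set n0 := Nat.card ↥(Q ⊓ Subgroup.centralizer {w}) with hn0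
  set Y := Q ⊓ Subgroup.centralizer ({v} : Set G) with hY
  set n1 := Nat.card ↥(Q ⊓ Subgroup.centralizer ({w, v} : Set G)) with hn1
  have hYn : ∀ g, g • a = a → Commute g v → g ∈ Subgroup.normalizer (Y : Set G) := fun g hg hgv =>
    mem_normalizer_of_conj fun y hy => ⟨hS.conj_mem g hg y hy.1, Subgroup.mem_centralizer_singleton_iff.2 (by
      calc g * y * g⁻¹ * v = g * (y * v) * g⁻¹ := by rw [mul_assoc (g * y), hgv.inv_left.eq]; group
        _ = g * (v * y) * g⁻¹ := by rw [Subgroup.mem_centralizer_singleton_iff.1 hy.2]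
        _ = (g * v) * y * g⁻¹ := by simp only [mul_assoc]
        _ = _ := by rw [hgv.eq]; simp only [mul_assoc])⟩
  have hY1 : Nat.card Y = n1 ^ p := by
    rw [B.card_pow inf_le_left (hYn k B.gen.fix_a hvk.symm) (hYn w B.fix_a hvw.symm), hn1]
    congr 2
    rw [inf_assoc]
    congr 2
    ext g
    rw [Subgroup.mem_inf, Subgroup.mem_inf, Subgroup.mem_inf, Subgroup.mem_centralizer_singleton_iff,
      Subgroup.mem_centralizer_singleton_iff, Subgroup.mem_centralizer_iff]
    refine and_congr_right fun _ => ?_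
    constructor
    · rintro ⟨h1, h2⟩ x (rfl | rfl)
      · exact h2.symm
      · exact h1.symm
    · exact fun h => ⟨(h v (Or.inr rfl)).symm, (h w (Or.inl rfl)).symm⟩
  -- their number is a power of `p`
  have hvC : v ∈ Subgroup.centralizer ({w} : Set G) := Subgroup.mem_centralizer_singleton_iff.2 hvw.eq
  set π := actW Ω w with hπ
  set V' := π ⟨v, hvC⟩ with hV'
  have hVb : V' B.base = B.base := Subtype.ext hva
  have hcR : Nat.card ↥(R ⊓ Subgroup.centralizer {V'}) = n1 + 1 := by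
    rw [hn1, ← card_fix_set B.simple hvwd]
    have hmem : ∀ r : ↥(R ⊓ Subgroup.centralizer {V'}), FixX Ω ({w, v} : Set G) ((r : Equiv.Perm (FixW Ω w)) B.base : Ω) := by
      intro r g hg
      rcases hg with rfl | rfl
      · exact ((r : Equiv.Perm (FixW Ω g)) B.base).2
      · have h := congrArg (fun e : Equiv.Perm (FixW Ω w) => ((e B.base : FixW Ω w) : Ω))
          (Subgroup.mem_centralizer_singleton_iff.1 (Subgroup.mem_inf.1 r.2).2)
        simp only [Equiv.Perm.coe_mul, Function.comp_apply] at h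
        rw [hVb] at h
        exact h.symm
    refine Nat.card_eq_of_bijective (fun r => ⟨_, hmem r⟩) ⟨fun r r' h => ?_, fun x => ?_⟩
    · refine Subtype.ext (inv_mul_eq_one.1 (hR.free _ (mul_mem (inv_mem r'.2.1) r.2.1) ?_)).symm
      show (r' : Equiv.Perm (FixW Ω w))⁻¹ ((r : Equiv.Perm (FixW Ω w)) B.base) = B.base
      have h' : (r : Equiv.Perm (FixW Ω w)) B.base = (r' : Equiv.Perm (FixW Ω w)) B.base :=
        Subtype.ext (congrArg Subtype.val h :)
      exact (congrArg _ h').trans ((r' : Equiv.Perm (FixW Ω w)).symm_apply_apply _)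
    · obtain ⟨r, hr, hrx⟩ := hR.trans ⟨x, x.2 w (Or.inl rfl)⟩
      refine ⟨⟨r, hr, Subgroup.mem_centralizer_singleton_iff.2 ?_⟩, Subtype.ext (congrArg Subtype.val hrx :)⟩
      have hc' : V' * r * V'⁻¹ = r := by
        refine (inv_mul_eq_one.1 (hR.free _ (mul_mem (inv_mem hr) (hR.norm _ ⟨_, rfl⟩ r hr)) ?_)).symm
        show r⁻¹ (V' (r (V'⁻¹ B.base))) = B.base
        have e : V'⁻¹ B.base = B.base := by
          conv_lhs => rw [← hVb]
          exact V'.symm_apply_apply _
        have e2 : V' (⟨x, x.2 w (Or.inl rfl)⟩ : FixW Ω w) = ⟨x, x.2 w (Or.inl rfl)⟩ := Subtype.ext (x.2 v (Or.inr rfl))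
        rw [e, hrx, e2, ← hrx]
        exact r.symm_apply_apply _
      exact (mul_inv_eq_iff_eq_mul.1 hc').symm
  obtain ⟨i, -, hi⟩ := (Nat.dvd_prime_pow B.prime).1
    (hR.card ▸ Subgroup.card_dvd_of_le (inf_le_left : R ⊓ Subgroup.centralizer {V'} ≤ R))
  rw [hcR] at hi
  have hcases : (CaseL a t Q ∧ p = 3 ∧ (n1 = 2 ∨ n1 = 8)) ∨ (¬ CaseL a t Q ∧ p = 5 ∧ n1 = 4) := by
    by_cases hl : CaseL a t Q
    · have hp := B.caseL_three hR hl
      refine Or.inl ⟨hl, hp, ?_⟩
      rcases hL hl with h | ⟨h, -⟩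
      all_goals rw [hY1, B.qNum_two, hp] at h
      · exact Or.inl (Nat.pow_left_injective (by norm_num : 3 ≠ 0) h)
      · exact Or.inr (Nat.pow_left_injective (by norm_num : 3 ≠ 0) (h.trans (by norm_num)))
    · obtain ⟨h, -⟩ := hS' hl
      rw [hY1, B.qNum_two, ← pow_mul, mul_comm, pow_mul] at h
      have h4 : n1 = 4 := Nat.pow_left_injective B.prime.ne_zero h
      refine Or.inr ⟨hl, ?_, h4⟩
      rw [h4] at hi
      have := (Nat.prime_dvd_prime_iff_eq B.prime Nat.prime_five).1 (show p ∣ 5 by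
        rw [show (5 : ℕ) = p ^ i from hi]
        exact dvd_pow_self p (by rintro rfl; norm_num at hi))
      exact this
  -- the odd part is trivial
  have hQn : Nat.card Q = n0 ^ p := B.card_Q
  obtain ⟨b, hb⟩ : ∃ b, n0 = 2 ^ b := by
    refine ⟨_, Nat.eq_prime_pow_of_unique_prime_dvd (p := 2) (by have := B.two_le_Q0; omega) fun {l} hl hln => ?_⟩
    by_contra hl2
    have hlQ : l ∣ Nat.card Q := hQn ▸ hln.trans (dvd_pow_self n0 B.prime.ne_zero)
    obtain ⟨X, hXQ, hX, hn, hcomm, hexp⟩ := B.exists_char_sub hl hlQ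
    have hXw := B.card_cent_X hR hl hXQ hX hn hcomm hexp
    haveI := Fact.mk hl
    obtain ⟨⟨x, hx⟩, hxl⟩ := exists_prime_orderOf_dvd_card' (G := ↥(X ⊓ Subgroup.centralizer {w})) l (dvd_of_eq hXw.symm)
    rw [← Subgroup.orderOf_coe] at hxl
    change orderOf x = l at hxl
    have hxv : ¬ Commute v x := fun hc' => by
      have h := Subgroup.orderOf_dvd_natCard Y ⟨hXQ hx.1, Subgroup.mem_centralizer_singleton_iff.2 hc'.eq.symm⟩
      rw [hxl, hY1] at h
      have h' := hl.dvd_of_dvd_pow h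
      rcases hcases with ⟨-, -, h1 | h1⟩ | ⟨-, -, h1⟩ <;> rw [h1] at h'
      · exact hl2 ((Nat.prime_dvd_prime_iff_eq hl Nat.prime_two).1 h')
      · exact hl2 ((Nat.prime_dvd_prime_iff_eq hl Nat.prime_two).1 (hl.dvd_of_dvd_pow (show l ∣ 2 ^ 3 by norm_num; exact h')))
      · exact hl2 ((Nat.prime_dvd_prime_iff_eq hl Nat.prime_two).1 (hl.dvd_of_dvd_pow (show l ∣ 2 ^ 2 by norm_num; exact h')))
    set K' := π ⟨x, hx.2⟩ with hK'
    have hpow : Subgroup.zpowers x = X ⊓ Subgroup.centralizer {w} := Subgroup.eq_of_le_of_card_ge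
      (Subgroup.zpowers_le.2 hx) (by rw [Nat.card_zpowers, hxl, hXw])
    have hconjX : v * x * v⁻¹ ∈ X ⊓ Subgroup.centralizer {w} := Subgroup.mem_inf.2 ⟨(Subgroup.mem_normalizer_iff.1 (hn v hva) x).1 hx.1,
      mul_mem (mul_mem hvC hx.2) (inv_mem hvC)⟩
    obtain ⟨e, he⟩ := mem_powers_iff_mem_zpowers.2 (hpow.symm ▸ hconjX : v * x * v⁻¹ ∈ Subgroup.zpowers x)
    simp only at he
    have hfix : ∀ y ∈ Q ⊓ Subgroup.centralizer {w}, ∀ h : y ∈ Subgroup.centralizer ({w} : Set G),
        π ⟨y, h⟩ = 1 → y = 1 := fun y hy h e1 => by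
      by_contra hy1
      exact ta_ne hS (fix_only hS hy.1 hy1
        (congrArg (fun e : Equiv.Perm (FixW Ω w) => ((e ⟨t • a, B.fix_ta⟩ : FixW Ω w) : Ω)) e1))
    have hcomm' : ¬ Commute V' K' := fun hc' => hxv (mul_inv_eq_iff_eq_mul.1 (mul_inv_eq_one.1 (hfix (v * x * v⁻¹ * x⁻¹)
      (Subgroup.mem_inf.2 ⟨mul_mem (hXQ hconjX.1) (inv_mem (hXQ hx.1)), mul_mem hconjX.2 (inv_mem hx.2)⟩)
      (mul_mem hconjX.2 (inv_mem hx.2)) (by
        show π (⟨v, hvC⟩ * ⟨x, hx.2⟩ * ⟨v, hvC⟩⁻¹ * ⟨x, hx.2⟩⁻¹) = 1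
        rw [map_mul, map_mul, map_mul, map_inv, map_inv, ← hK', ← hV', hc'.eq, mul_inv_cancel_right, mul_inv_cancel]))))
    have hVp : V' ^ p = 1 := by
      rw [hV', ← map_pow]
      exact (congrArg π (Subtype.ext (hvo ▸ pow_orderOf_eq_one v) : (⟨v, hvC⟩ : Subgroup.centralizer ({w} : Set G)) ^ p = 1)).trans
        (map_one π)
    letI : CommGroup R := { (inferInstance : Group R) with
      mul_comm := fun r r' => Subtype.ext (hR.comm r r.2 r' r'.2) }
    have hcard := card_cent_pow (X := R) (k := K') (w := V') (a := e) B.prime.pos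
      (mem_normalizer_of_conj fun r hr => hR.norm _ ⟨_, rfl⟩ r hr)
      (mem_normalizer_of_conj fun r hr => hR.norm _ ⟨_, rfl⟩ r hr)
      (fun r _ => by rw [hVp]; exact Commute.one_left r)
      (by
        rw [hK', hV', ← map_pow, ← map_inv, ← map_mul, ← map_mul]
        exact congrArg π (Subtype.ext he.symm))
      (fun g hg hg1 r hr hc' => by
        obtain ⟨j, rfl⟩ := Subgroup.mem_zpowers_iff.1 hg
        have hy : x ^ j ∈ Q ⊓ Subgroup.centralizer {w} := zpow_mem (⟨hXQ hx.1, hx.2⟩ : x ∈ Q ⊓ Subgroup.centralizer {w}) j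
        have hK : actW Ω w ⟨x ^ j, hy.2⟩ = K' ^ j := by rw [hK', ← map_zpow]; rfl
        refine B.free_Q0 hR hy (fun e' => hg1 ?_) hr (hK ▸ hc')
        rw [← hK]
        exact (congrArg π (Subtype.ext e' : (⟨x ^ j, hy.2⟩ : Subgroup.centralizer ({w} : Set G)) = 1)).trans (map_one π))
      (move_of_prime B.prime hVp hcomm')
    rw [hR.card, ← B.card_Q0 hR, hcR, ← hn0] at hcard
    obtain ⟨i', hi', hmod⟩ := B.prime_cong hR hl hlQ
    rcases hcases with ⟨-, rfl, h12⟩ | ⟨-, rfl, h4⟩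
    · have hl' : l = 13 ∨ l = 7 := by
        have h13 : l ∣ 2 * 13 ∨ l ∣ 2 ^ 3 * (7 * 13) := by
          rcases h12 with h | h
          · exact Or.inl (by rw [h] at hcard; norm_num at hcard ⊢; rwa [show n0 = 26 by omega] at hln)
          · exact Or.inr (by rw [h] at hcard; norm_num at hcard ⊢; rwa [show n0 = 728 by omega] at hln)
        rcases h13 with h | h <;> rcases (Nat.Prime.dvd_mul hl).1 h with h | h
        · exact absurd ((Nat.prime_dvd_prime_iff_eq hl Nat.prime_two).1 h) hl2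
        · exact Or.inl ((Nat.prime_dvd_prime_iff_eq hl (by norm_num)).1 h)
        · exact absurd ((Nat.prime_dvd_prime_iff_eq hl Nat.prime_two).1 (hl.dvd_of_dvd_pow h)) hl2
        · exact ((Nat.Prime.dvd_mul hl).1 h).symm.imp (Nat.prime_dvd_prime_iff_eq hl (by norm_num)).1
            (Nat.prime_dvd_prime_iff_eq hl (by norm_num)).1
      rcases hl' with rfl | rfl <;> interval_cases i' <;> norm_num at hmod
    · have hl' : l = 11 ∨ l = 71 := by
        have h : l ∣ 2 ^ 2 * (11 * 71) := by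
          rw [h4] at hcard
          norm_num at hcard ⊢
          rwa [show n0 = 3124 by omega] at hln
        rcases (Nat.Prime.dvd_mul hl).1 h with h | h
        · exact absurd ((Nat.prime_dvd_prime_iff_eq hl Nat.prime_two).1 (hl.dvd_of_dvd_pow h)) hl2
        · exact ((Nat.Prime.dvd_mul hl).1 h).imp (Nat.prime_dvd_prime_iff_eq hl (by norm_num)).1
            (Nat.prime_dvd_prime_iff_eq hl (by norm_num)).1
      rcases hl' with rfl | rfl <;> interval_cases i' <;> norm_num at hmod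
  have hn2 : Nat.card Q = 2 ^ (b * p) := by rw [hQn, hb, ← pow_mul]
  have hab : NonAb Q := by
    by_contra h
    refine hV1 (B.centI_bot hn2 fun x hx y hy => ?_)
    by_contra hne
    exact h ⟨x, hx, y, hy, hne⟩
  have hp0 : p ∣ n0 + 1 := B.card_Q0 hR ▸ dvd_pow_self p hR.pos.ne'
  rw [hb] at hp0
  rcases B.suzuki_cases hn2 hab with rfl | rfl
  · rcases hcases with ⟨-, rfl, -⟩ | ⟨hl, -, -⟩
    · norm_num at hp0
    · exact Or.inr (Or.inl ⟨hl, by rw [hn2, B.qNum_two, ← pow_mul, mul_comm], hab⟩)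
  · rcases hcases with ⟨hl, -, -⟩ | ⟨-, rfl, -⟩
    · exact Or.inr (Or.inr ⟨hl, by rw [hn2, B.qNum_two, ← pow_mul, mul_comm], hab, hV1⟩)
    · norm_num at hp0

end SmallData

end Cfsg.Lib.BenderSuzuki
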