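import Cfsg.Agent.BenderSuzuki.AlphaBasic

/-!
An element of prime order outside the centraliser of the involutions with at least three involutions centralised.
-/

set_option autoImplicit false
set_option linter.unusedSectionVars false
set_option linter.style.haveILetI false

namespace Cfsg.Lib.BenderSuzuki

open MulAction Cfsg.Lib.RankOne
open scoped _root_.Classical

universe u v

variable {G : Type u} {Ω : Type v} [Group G] [Finite G] [MulAction G Ω] {a : Ω} {t : G} {Q : Subgroup G}

/-- An element of prime order `p` of `C_D(t)` not centralising the involutions, with a generator `k` of the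
inverted elements. -/
structure WData (G : Type u) (Ω : Type v) [Group G] [Finite G] [MulAction G Ω] (a : Ω) (t : G) (Q : Subgroup G)
    (k w : G) (p : ℕ) : Prop where
  simple : Simple G Ω a t Q
  gen : Alpha.Gen Ω a t k
  mem : w ∈ centT Ω a t
  order : orderOf w = p
  prime : p.Prime
  not_mem : w ∉ centI Ω a t

namespace WData

open Alpha

variable {k w : G} {p : ℕ} (A : WData G Ω a t Q k w p)

include A

theorem pow_p : w ^ p = 1 := A.order ▸ pow_orderOf_eq_one w

theorem fix_a : w • a = a := centT_fix A.mem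

theorem moves : ∀ d, 0 < d → d < p → w ^ d ∉ centI Ω a t := fun d hd hdp hm => by
  refine A.not_mem ?_
  have hcop : Nat.Coprime (orderOf w) d := by
    rw [A.order]
    exact A.prime.coprime_iff_not_dvd.2 fun h => (Nat.le_of_dvd hd h).not_gt hdp
  obtain ⟨e, he⟩ := exists_pow_eq_self_of_coprime hcop.symm
  rw [← he]
  exact pow_mem hm e

/-- The fixed points on an invariant subgroup of `Q`. -/
theorem card_pow {X : Subgroup G} (hXQ : X ≤ Q) (hk : k ∈ Subgroup.normalizer (X : Set G))
    (hw : w ∈ Subgroup.normalizer (X : Set G)) : Nat.card X = Nat.card ↥(X ⊓ Subgroup.centralizer {w}) ^ p :=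
  Alpha.card_fix_pow A.gen A.simple hXQ hk A.mem hw A.prime.pos (fun y _ => by rw [A.pow_p]; exact Commute.one_left y)
    A.moves

/-- The number `n₀`. -/
theorem card_Q : Nat.card Q = Nat.card ↥(Q ⊓ Subgroup.centralizer {w}) ^ p :=
  A.card_pow le_rfl (normalizer_Q_of_fix A.simple A.gen.fix_a) (normalizer_Q_of_fix A.simple A.fix_a)

theorem qNum_eq : qNum G a = Nat.card ↥(zGroup A.simple ⊓ Subgroup.centralizer {w}) ^ p := by
  rw [← card_zGroup A.simple]
  exact A.card_pow (zGroup_le A.simple) (zGroup_normalizer A.simple A.gen.fix_a) (zGroup_normalizer A.simple A.fix_a)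

/-- At least three involutions centralised: the three possibilities. -/
theorem dich_large (hc : CentStep.{u, v}) (hIH : IH.{u, v} (Nat.card G))
    (h4 : 4 ≤ Nat.card ↥(zGroup A.simple ⊓ Subgroup.centralizer {w})) : Dich a t Q := by
  have hw1 : w ≠ 1 := fun e => A.prime.ne_one (by rw [← A.order, e, orderOf_one])
  set q₀ := Nat.card ↥(zGroup A.simple ⊓ Subgroup.centralizer {w}) with hq0
  obtain ⟨hL, hS⟩ := hc A.simple hIH w A.mem hw1 q₀ (by rw [hq0, card_cent_zGroup A.simple]) h4
  have hnab : ∀ {H : Subgroup G}, NonAb (H ⊓ Subgroup.centralizer {w}) → NonAb H := fun ⟨x, hx, y, hy, hne⟩ =>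
    ⟨x, (Subgroup.mem_inf.1 hx).1, y, (Subgroup.mem_inf.1 hy).1, hne⟩
  by_cases hl : CaseL a t Q
  · rcases hL hl with h | ⟨h, hna, -, d, hd, hdw, hdz, y, hy, hdy⟩
    · exact Or.inl ⟨hl, by rw [A.card_Q, h, A.qNum_eq]⟩
    refine Or.inr (Or.inr ⟨hl, by rw [A.card_Q, h, A.qNum_eq, ← pow_mul, ← pow_mul, mul_comm], hnab hna,
      fun hV => hdy ?_⟩)
    obtain ⟨v, hv, hsup⟩ := centralizer_quotient_cyclic A.simple.setup A.simple.two
    have hI : centT Ω a t ⊓ Subgroup.centralizer (invK Ω a t) = ⊥ := (cent_all A.simple.setup).trans hV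
    have hgen : centT Ω a t = Subgroup.zpowers v := by
      rw [show twoStab Ω a t ⊓ Subgroup.centralizer {t} ⊓
        Subgroup.centralizer (Cfsg.invertedBy (twoStab Ω a t) t) = ⊥ from hI, bot_sup_eq] at hsup
      exact hsup.symm.trans (Subgroup.zpowers_eq_closure v).symm
    set H : Subgroup G := Subgroup.zpowers w ⊔ Subgroup.zpowers d with hH
    have hHle : H ≤ centT Ω a t := sup_le (Subgroup.zpowers_le.2 A.mem) (Subgroup.zpowers_le.2 hd)
    haveI : IsCyclic H := Subgroup.isCyclic_of_le (hgen ▸ hHle : H ≤ Subgroup.zpowers v)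
    obtain ⟨x, hx⟩ := H.isCyclic_iff_exists_zpowers_eq_top.1 inferInstance
    have hxT : x ∈ centT Ω a t := hHle (hx ▸ Subgroup.mem_zpowers x)
    have hZx : zGroup A.simple ⊓ Subgroup.centralizer {x} = zGroup A.simple ⊓ Subgroup.centralizer {w} := by
      have h1 : zGroup A.simple ⊓ Subgroup.centralizer {x} ≤ zGroup A.simple ⊓ Subgroup.centralizer {w} := by
        intro z hz
        refine Subgroup.mem_inf.2 ⟨hz.1, ?_⟩
        obtain ⟨i, hi⟩ := Subgroup.mem_zpowers_iff.1 (hx ▸ Subgroup.mem_sup_left (Subgroup.mem_zpowers w) :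
          w ∈ Subgroup.zpowers x)
        rw [Subgroup.mem_centralizer_singleton_iff, ← hi]
        exact (Commute.zpow_right (Subgroup.mem_centralizer_singleton_iff.1 hz.2) i).eq
      have h2 : zGroup A.simple ⊓ Subgroup.centralizer {w} ≤ zGroup A.simple ⊓ Subgroup.centralizer {x} := by
        intro z hz
        refine Subgroup.mem_inf.2 ⟨hz.1, ?_⟩
        have hzd : H ≤ Subgroup.centralizer {z} := sup_le
          (Subgroup.zpowers_le.2 (Subgroup.mem_centralizer_singleton_iff.2
            (Subgroup.mem_centralizer_singleton_iff.1 hz.2).symm))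
          (Subgroup.zpowers_le.2 (Subgroup.mem_centralizer_singleton_iff.2 (by
            rcases hz.1 with e | hzI
            · rw [e, one_mul, mul_one]
            · exact (hdz z hzI (Subgroup.mem_centralizer_singleton_iff.1 hz.2).symm).eq)))
        exact Subgroup.mem_centralizer_singleton_iff.2
          (Subgroup.mem_centralizer_singleton_iff.1 (hzd (hx ▸ Subgroup.mem_zpowers x))).symm
      exact le_antisymm h1 h2
    have hmove : ∀ j, 0 < j → j < orderOf x → x ^ j ∉ centI Ω a t := fun j hj hjo hm => by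
      rw [hV, Subgroup.mem_bot] at hm
      exact (Nat.le_of_dvd hj (orderOf_dvd_of_pow_eq_one hm)).not_gt hjo
    have hq := Alpha.card_fix_pow A.gen A.simple (zGroup_le A.simple) (zGroup_normalizer A.simple A.gen.fix_a) hxT
      (zGroup_normalizer A.simple (centT_fix hxT)) (orderOf_pos x)
      (fun y _ => by rw [pow_orderOf_eq_one]; exact Commute.one_left y) hmove
    rw [hZx, card_zGroup A.simple, A.qNum_eq] at hq
    have hord : orderOf x = p := (Nat.pow_right_injective (by omega : 2 ≤ q₀) hq).symm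
    have heq : Subgroup.zpowers w = Subgroup.zpowers x :=
      Subgroup.eq_of_le_of_card_ge (hx ▸ le_sup_left) (by rw [Nat.card_zpowers, Nat.card_zpowers, hord, A.order])
    obtain ⟨i, hi⟩ := Subgroup.mem_zpowers_iff.1 (heq ▸ hx ▸ Subgroup.mem_sup_right (Subgroup.mem_zpowers d) :
      d ∈ Subgroup.zpowers w)
    rw [← hi]
    exact (Commute.zpow_left (Subgroup.mem_centralizer_singleton_iff.1 (Subgroup.mem_inf.1 hy).2).symm i)
  · obtain ⟨h, hna⟩ := hS hl
    exact Or.inr (Or.inl ⟨hl, by rw [A.card_Q, h, A.qNum_eq, ← pow_mul, ← pow_mul, mul_comm], hnab hna⟩)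

end WData

end Cfsg.Lib.BenderSuzuki
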