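import Cfsg.Agent.BenderSuzuki.AlphaShared
import Cfsg.Agent.S1132
import Cfsg.Agent.S1134
import Cfsg.Agent.S1137
import Cfsg.Agent.S1138
import Mathlib.NumberTheory.Multiplicity
import Mathlib.GroupTheory.Sylow

/-!
An element of prime order `p` centralising one involution when `p` does not divide the order of the centraliser
of the involutions.
-/

set_option autoImplicit false
set_option linter.unusedSectionVars false
set_option linter.style.haveILetI false

namespace Cfsg.Lib.BenderSuzuki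

open MulAction Cfsg.Lib.RankOne
open scoped _root_.Classical

universe u v

/-- The order of a preimage. -/
theorem card_preimage {C H : Type*} [Group C] [Finite C] [Group H] [Finite H] (f : C →* H) {R : Subgroup H}
    (h : R ≤ f.range) : Nat.card (R.comap f) = Nat.card f.ker * Nat.card R := by
  have h1 := (R.comap f).card_mul_index
  have h2 := f.ker.card_mul_index
  have h3 := (R.subgroupOf f.range).card_mul_index
  rw [Subgroup.index_ker] at h2
  rw [Nat.card_congr (Subgroup.subgroupOfEquivOfLe h).toEquiv] at h3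
  rw [Subgroup.index_comap] at h1
  have hne : R.relIndex f.range ≠ 0 := fun e => by
    rw [show (R.subgroupOf f.range).index = R.relIndex f.range from rfl, e, mul_zero] at h3
    exact Nat.card_pos.ne h3
  refine Nat.eq_of_mul_eq_mul_right (Nat.pos_of_ne_zero hne) ?_
  rw [h1, ← h2, mul_assoc, ← h3]
  rfl

/-- The conjugates of an element by the elements of a subgroup. -/
theorem card_conj_range {G : Type*} [Group G] [Finite G] (M : Subgroup G) (w : G) :
    Nat.card (Set.range fun m : M => (m : G) * w * (m : G)⁻¹) *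
      Nat.card ((Subgroup.centralizer ({w} : Set G)).subgroupOf M) = Nat.card M := by
  set H := (Subgroup.centralizer ({w} : Set G)).subgroupOf M
  have key : ∀ m m' : M, (m : G) * w * (m : G)⁻¹ = (m' : G) * w * (m' : G)⁻¹ ↔ m⁻¹ * m' ∈ H := fun m m' => by
    show _ ↔ (m : G)⁻¹ * (m' : G) ∈ Subgroup.centralizer ({w} : Set G)
    rw [Subgroup.mem_centralizer_singleton_iff]
    constructor
    · intro e
      calc (m : G)⁻¹ * (m' : G) * w = (m : G)⁻¹ * ((m' : G) * w * (m' : G)⁻¹) * (m' : G) := by group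
        _ = (m : G)⁻¹ * ((m : G) * w * (m : G)⁻¹) * (m' : G) := by rw [e]
        _ = w * ((m : G)⁻¹ * (m' : G)) := by group
    · intro e
      calc (m : G) * w * (m : G)⁻¹ = (m : G) * (w * ((m : G)⁻¹ * (m' : G))) * (m' : G)⁻¹ := by group
        _ = (m : G) * ((m : G)⁻¹ * (m' : G) * w) * (m' : G)⁻¹ := by rw [e]
        _ = _ := by group
  let φ : M ⧸ H → Set.range fun m : M => (m : G) * w * (m : G)⁻¹ :=
    Quotient.lift (fun m => ⟨_, m, rfl⟩) fun m m' h => Subtype.ext ((key m m').2 (QuotientGroup.leftRel_apply.1 h))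
  have hφ : Function.Bijective φ := by
    refine ⟨fun x y => Quotient.inductionOn₂ x y fun m m' h => QuotientGroup.eq.2 ((key m m').1 (congrArg Subtype.val h)), ?_⟩
    rintro ⟨_, m, rfl⟩
    exact ⟨⟦m⟧, rfl⟩
  rw [← Nat.card_eq_of_bijective φ hφ, ← Subgroup.card_eq_card_quotient_mul_card_subgroup]

variable {G : Type u} {Ω : Type v} [Group G] [Finite G] [MulAction G Ω] {a : Ω} {t : G} {Q : Subgroup G}

namespace SmallData

open Alpha

variable {k w s : G} {p : ℕ} (B : SmallData G Ω a t Q k w s p) {R : Subgroup (Equiv.Perm (FixW Ω w))} {d : ℕ}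

include B

theorem not_dvd_Q0 (hR : B.Reg R d) : ¬ p ∣ Nat.card ↥(Q ⊓ Subgroup.centralizer {w}) := fun h =>
  B.prime.not_dvd_one ((Nat.dvd_add_right h).1 (B.card_Q0 hR ▸ dvd_pow_self p hR.pos.ne'))

theorem card_D : Nat.card (twoStab Ω a t) = p * Nat.card (centI Ω a t) * (2 ^ p - 1) := by
  rw [RankOne.card_factor B.simple.setup.mul_self B.simple.setup.odd_card
    (fun x hx => conj_D B.simple.setup hx), ← B.card_centT, ← B.card_invK]
  exact congrArg _ (Nat.card_congr (Equiv.subtypeEquivRight B.gen.mem_iff))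

theorem val_orders (hV : ¬ p ∣ Nat.card (centI Ω a t)) (hR : B.Reg R d) :
    padicValNat p (Nat.card (stabilizer G a)) = 1 ∧ padicValNat p (Nat.card G) = d + 2 := by
  haveI := Fact.mk B.prime
  have hk : ¬ p ∣ 2 ^ p - 1 := B.card_invK ▸ B.not_dvd_invK
  have hk0 : 2 ^ p - 1 ≠ 0 := fun e => hk (e ▸ dvd_zero p)
  have hV0 : Nat.card (centI Ω a t) ≠ 0 := Nat.card_pos.ne'
  have hn : padicValNat p (Nat.card Q) = 0 := padicValNat.eq_zero_of_not_dvd B.not_dvd_Q
  have hD : padicValNat p (Nat.card (twoStab Ω a t)) = 1 := by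
    rw [B.card_D, padicValNat.mul (mul_ne_zero B.prime.ne_zero hV0) hk0, padicValNat.mul B.prime.ne_zero hV0,
      padicValNat.self B.prime.one_lt, padicValNat.eq_zero_of_not_dvd hV, padicValNat.eq_zero_of_not_dvd hk]
  have h1 : padicValNat p (Nat.card (stabilizer G a)) = 1 := by
    rw [card_stab B.simple.setup, padicValNat.mul Nat.card_pos.ne' Nat.card_pos.ne', hn, hD]
  refine ⟨h1, ?_⟩
  have h2 : padicValNat p (Nat.card Q + 1) = d + 1 := by
    rw [B.card_Q]
    have h := padicValNat.pow_add_pow (y := 1) B.p_odd (B.card_Q0 hR ▸ dvd_pow_self p hR.pos.ne') (B.not_dvd_Q0 hR) B.p_odd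
    rwa [one_pow, B.card_Q0 hR, padicValNat.prime_pow, padicValNat.self B.prime.one_lt] at h
  rw [card_group B.simple.setup, padicValNat.mul (mul_ne_zero Nat.card_pos.ne' Nat.card_pos.ne') (Nat.add_one_ne_zero _),
    padicValNat.mul Nat.card_pos.ne' Nat.card_pos.ne', hn, hD, h2]
  omega

/-- The number of fixed points of `w` is `p`. -/
theorem d_eq_one (hV : ¬ p ∣ Nat.card (centI Ω a t)) (hR : B.Reg R d) : d = 1 := by
  have hS := B.simple.setup
  haveI := finite_pts hS
  haveI := Fact.mk B.prime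
  haveI := B.simple.faithful
  obtain ⟨hvS, hvG⟩ := B.val_orders hV hR
  have hle : ∀ {m n : ℕ}, n ≠ 0 → m ∣ n → padicValNat p m ≤ padicValNat p n := fun {m n} hn hmn => by
    rw [← padicValNat_dvd_iff_le hn]
    exact pow_padicValNat_dvd.trans hmn
  have hge : ∀ {i n : ℕ}, n ≠ 0 → p ^ i ∣ n → i ≤ padicValNat p n := fun hn h => (padicValNat_dvd_iff_le hn).1 h
  set C := Subgroup.centralizer ({w} : Set G) with hC
  set π := actW Ω w with hπ
  have hwC : w ∈ C := Subgroup.mem_centralizer_singleton_iff.2 rfl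
  -- the kernel
  have hker : π.ker.map C.subtype ≤ stabilizer G a := by
    rintro _ ⟨g, hg, rfl⟩
    exact congrArg (fun e : Equiv.Perm (FixW Ω w) => ((e B.base : FixW Ω w) : Ω)) (MonoidHom.mem_ker.1 hg)
  have hkdvd : Nat.card π.ker ∣ Nat.card (stabilizer G a) := by
    rw [← Subgroup.card_map_of_injective C.subtype_injective]
    exact Subgroup.card_dvd_of_le hker
  have hwker : (⟨w, hwC⟩ : C) ∈ π.ker := MonoidHom.mem_ker.2 (Equiv.ext fun x => Subtype.ext x.2)
  have hvker : padicValNat p (Nat.card π.ker) = 1 := by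
    refine le_antisymm ((hle Nat.card_pos.ne' hkdvd).trans hvS.le) (hge Nat.card_pos.ne' ?_)
    rw [pow_one, ← B.order]
    exact (Subgroup.orderOf_mk w hwC).symm ▸ Subgroup.orderOf_dvd_natCard π.ker hwker
  -- the preimage of the regular subgroup and its Sylow subgroup
  set P0 := R.comap π with hP0
  haveI : P0.Normal := ⟨fun x hx g => by
    show π (g * x * g⁻¹) ∈ R
    rw [map_mul, map_mul, map_inv]
    exact hR.norm _ ⟨g, rfl⟩ _ hx⟩
  obtain ⟨S⟩ : Nonempty (Sylow p P0) := inferInstance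
  set E' := (S : Subgroup P0).map P0.subtype with hE'
  have hcardE' : Nat.card E' = p ^ (d + 1) := by
    rw [hE', Subgroup.card_map_of_injective P0.subtype_injective, S.card_eq_multiplicity, Nat.factorization_def _ B.prime,
      hP0, card_preimage π hR.le_range, hR.card, padicValNat.mul Nat.card_pos.ne' (pow_ne_zero d B.prime.ne_zero),
      hvker, padicValNat.prime_pow, add_comm]
  have hwE' : (⟨w, hwC⟩ : C) ∈ E' := by
    set N := Subgroup.zpowers (⟨⟨w, hwC⟩, show π ⟨w, hwC⟩ ∈ R by rw [MonoidHom.mem_ker.1 hwker]; exact one_mem R⟩ : P0)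
      with hNdef
    haveI : N.Normal := ⟨fun x hx g => by
      obtain ⟨i, rfl⟩ := Subgroup.mem_zpowers_iff.1 hx
      rw [← conj_zpow]
      refine zpow_mem ?_ i
      convert Subgroup.mem_zpowers _ using 1
      refine mul_inv_eq_iff_eq_mul.2 (Subtype.ext (Subtype.ext ?_))
      exact Subgroup.mem_centralizer_singleton_iff.1 (g : C).2⟩
    have hN : IsPGroup p N := IsPGroup.of_card (n := 1) (by
      rw [hNdef, Nat.card_zpowers, ← Subgroup.orderOf_coe, ← Subgroup.orderOf_coe, pow_one]; exact B.order)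
    have h := S.is_maximal' (IsPGroup.to_sup_of_normal_right S.isPGroup' hN) le_sup_left
    exact ⟨_, h ▸ Subgroup.mem_sup_right (Subgroup.mem_zpowers _), rfl⟩
  set f0 := π.comp E'.subtype with hf0
  have hrange0 : f0.range = E'.map π := by rw [hf0, MonoidHom.range_comp, Subgroup.range_subtype]
  have hEle : E'.map π ≤ R := by
    rintro _ ⟨_, ⟨x, -, rfl⟩, rfl⟩
    exact x.2
  have hk0 : Nat.card f0.ker = p := by
    obtain ⟨i, hi, he⟩ := (Nat.dvd_prime_pow B.prime).1 (hcardE' ▸ Subgroup.card_subgroup_dvd_card f0.ker)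
    have hd1 : Nat.card f0.ker ∣ Nat.card π.ker := by
      rw [← Subgroup.card_map_of_injective E'.subtype_injective]
      exact Subgroup.card_dvd_of_le (by rintro _ ⟨x, hx, rfl⟩; exact hx)
    have h1 : i ≤ 1 := (hge Nat.card_pos.ne' (he ▸ hd1)).trans hvker.le
    have h2 : p ∣ Nat.card f0.ker := by
      have h := Subgroup.orderOf_dvd_natCard f0.ker (x := (⟨⟨w, hwC⟩, hwE'⟩ : E')) hwker
      rwa [← Subgroup.orderOf_coe, ← Subgroup.orderOf_coe, B.order] at h
    interval_cases i
    · exact absurd (he ▸ h2) (by rw [pow_zero]; exact B.prime.not_dvd_one)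
    · rw [he, pow_one]
  have hEmap : E'.map π = R := by
    refine Subgroup.eq_of_le_of_card_ge hEle (le_of_eq ?_)
    have h := f0.ker.card_mul_index
    rw [Subgroup.index_ker, hrange0, hk0, hcardE', pow_succ'] at h
    rw [hR.card, Nat.eq_of_mul_eq_mul_left B.prime.pos h]
  have hkerE : ∀ x : C, x ∈ E' → π x = 1 → (x : G) ∈ Subgroup.zpowers w := by
    intro x hx hx1
    have heq : Subgroup.zpowers (⟨⟨w, hwC⟩, hwE'⟩ : E') = f0.ker :=
      Subgroup.eq_of_le_of_card_ge (Subgroup.zpowers_le.2 hwker) (le_of_eq (by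
        rw [hk0, Nat.card_zpowers, ← Subgroup.orderOf_coe, ← Subgroup.orderOf_coe]; exact B.order.symm))
    obtain ⟨i, hi⟩ := Subgroup.mem_zpowers_iff.1 (heq.symm ▸ (show (⟨x, hx⟩ : E') ∈ f0.ker from hx1) :
      (⟨x, hx⟩ : E') ∈ Subgroup.zpowers (⟨⟨w, hwC⟩, hwE'⟩ : E'))
    exact ⟨i, congrArg (fun e : E' => ((e : C) : G)) hi⟩
  -- its normaliser in the group
  set E := E'.map C.subtype with hE
  set M := Subgroup.normalizer (E : Set G) with hM
  have hcardE : Nat.card E = p ^ (d + 1) := by rw [hE, Subgroup.card_map_of_injective C.subtype_injective, hcardE']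
  have hEC : E ≤ C := Subgroup.map_subtype_le _
  have hwE : w ∈ E := ⟨⟨w, hwC⟩, hwE', rfl⟩
  set O := Set.range fun m : M => (m : G) * w * (m : G)⁻¹ with hO
  have hOE : O ⊆ E := by
    rintro _ ⟨m, rfl⟩
    exact (Subgroup.mem_normalizer_iff.1 m.2 w).1 hwE
  have hOval : padicValNat p (Nat.card O) = 1 := by
    have hcO := card_conj_range M w
    have hM0 : padicValNat p (Nat.card M) = d + 2 := by
      refine le_antisymm ((hle Nat.card_pos.ne' M.card_subgroup_dvd_card).trans hvG.le) (hge Nat.card_pos.ne' ?_)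
      have h := Sylow.prime_dvd_card_quotient_normalizer (p := p) (n := d + 1)
        ((padicValNat_dvd_iff_le Nat.card_pos.ne').2 hvG.ge) hcardE
      rw [Subgroup.card_eq_card_quotient_mul_card_subgroup (E.subgroupOf M),
        Nat.card_congr (Subgroup.subgroupOfEquivOfLe (Subgroup.le_normalizer : E ≤ M)).toEquiv, hcardE, pow_succ']
      exact Nat.mul_dvd_mul h dvd_rfl
    have hCv : padicValNat p (Nat.card C) ≤ d + 1 := by
      have h := (stabilizer C a).card_mul_index
      have horb : MulAction.orbit C a = {x : Ω | w • x = x} := by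
        ext x
        constructor
        · rintro ⟨g, rfl⟩
          show w • (g : G) • a = (g : G) • a
          rw [← mul_smul, ← Subgroup.mem_centralizer_singleton_iff.1 g.2, mul_smul, B.fix_a]
        · intro hx
          by_cases e : (⟨x, hx⟩ : FixW Ω w) = B.base
          · exact ⟨1, (one_smul C a).trans (congrArg Subtype.val e).symm⟩
          · obtain ⟨g, g1, -⟩ := B.trans_fix (Ne.symm e) e
            exact ⟨g, congrArg Subtype.val g1⟩
      rw [MulAction.index_stabilizer, horb, ← Nat.card_coe_set_eq] at h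
      rw [show Nat.card {x : Ω | w • x = x} = p ^ d from hR.card_fix] at h
      rw [← h, padicValNat.mul Nat.card_pos.ne' (pow_ne_zero d B.prime.ne_zero), padicValNat.prime_pow]
      have : padicValNat p (Nat.card (stabilizer C a)) ≤ 1 := by
        refine (hle Nat.card_pos.ne' ?_).trans hvS.le
        rw [← Subgroup.card_map_of_injective C.subtype_injective]
        exact Subgroup.card_dvd_of_le (by rintro _ ⟨g, hg, rfl⟩; exact hg)
      omega
    have hH : padicValNat p (Nat.card (C.subgroupOf M)) = d + 1 := by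
      refine le_antisymm ((hle Nat.card_pos.ne' ?_).trans hCv) (hge Nat.card_pos.ne' ?_)
      · rw [← Subgroup.card_map_of_injective M.subtype_injective]
        exact Subgroup.card_dvd_of_le (by rintro _ ⟨g, hg, rfl⟩; exact hg)
      · rw [← hcardE, ← Nat.card_congr (Subgroup.subgroupOfEquivOfLe (Subgroup.le_normalizer : E ≤ M)).toEquiv]
        exact Subgroup.card_dvd_of_le fun x hx => hEC hx
    have hO0 : Nat.card O ≠ 0 := fun e => by rw [e, zero_mul] at hcO; exact Nat.card_pos.ne hcO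
    have := congrArg (padicValNat p) hcO
    rw [padicValNat.mul hO0 Nat.card_pos.ne', hH, hM0] at this
    omega
  -- the fibres
  set f : G → Equiv.Perm (FixW Ω w) := fun x => if h : x ∈ C then π ⟨x, h⟩ else 1 with hf
  have hfeq : ∀ (x : G) (h : x ∈ C), f x = π ⟨x, h⟩ := fun x h => dif_pos h
  set T := (Set.toFinite O).toFinset with hT
  have hmT : ∀ x, x ∈ T ↔ x ∈ O := fun x => Set.Finite.mem_toFinset _
  have hfR : ∀ x ∈ O, f x ∈ R := fun x hx => by
    obtain ⟨y, hy, rfl⟩ := hOE hx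
    rw [Subgroup.coe_subtype, hfeq _ y.2]
    exact hEle ⟨y, hy, rfl⟩
  have hone : T.filter (fun x => f x = 1) = {w} := by
    refine Finset.eq_singleton_iff_unique_mem.2 ⟨Finset.mem_filter.2 ⟨(hmT w).2 ⟨1, by simp⟩, ?_⟩, fun x hx => ?_⟩
    · rw [hfeq w hwC]; exact MonoidHom.mem_ker.1 hwker
    obtain ⟨hxT, hx1⟩ := Finset.mem_filter.1 hx
    obtain ⟨y, hy, rfl⟩ := hOE ((hmT x).1 hxT)
    rw [Subgroup.coe_subtype] at hx1 hxT ⊢
    rw [hfeq _ y.2] at hx1
    have hyw := hkerE y hy hx1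
    obtain ⟨m, hm'⟩ := (hmT _).1 hxT
    have hm : (m : G) * w * (m : G)⁻¹ = (y : G) := hm'
    have hyT : (y : G) ∈ centT Ω a t := Subgroup.zpowers_le.2 B.mem hyw
    obtain ⟨v, hv, hve⟩ := Cfsg.Agent.S1134.result hS B.simple.two {w} (Set.singleton_subset_iff.2 B.mem) (m : G)
      (by rw [Set.image_singleton, Set.singleton_subset_iff]; exact hm ▸ hyT)
    rw [Set.image_singleton, Set.image_singleton, Set.singleton_eq_singleton_iff] at hve
    have hvw : v * w * v⁻¹ = y := hve.trans hm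
    have hI : w⁻¹ * y ∈ centI Ω a t := (mem_centI_iff B.gen B.simple (mul_mem (inv_mem B.mem) hyT)).2 (by
      let v' : twoStab Ω a t := ⟨v, (Subgroup.mem_inf.1 hv).1⟩
      let w' : twoStab Ω a t := ⟨w, (Subgroup.mem_inf.1 B.mem).1⟩
      rw [← hvw]
      refine (B.rho_eq_one_iff (d := w'⁻¹ * (v' * w' * v'⁻¹))).1 ?_
      rw [map_mul, map_mul, map_mul, map_inv, map_inv, B.rho_comm (B.rho v') (B.rho w')]
      group)
    obtain ⟨i, hi⟩ := (mem_powers_iff_mem_zpowers.2
      (mul_mem (inv_mem (Subgroup.mem_zpowers w)) hyw) : w⁻¹ * (y : G) ∈ Submonoid.powers w)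
    simp only at hi
    rw [show w ^ i = w ^ (i % p) by
      conv_lhs => rw [← Nat.mod_add_div i p, pow_add, pow_mul, B.pow_p, one_pow, mul_one]] at hi
    rcases Nat.eq_zero_or_pos (i % p) with h0 | h0
    · rw [h0, pow_zero] at hi
      exact (inv_mul_eq_one.1 hi.symm).symm
    · exact absurd (hi ▸ hI) (B.moves _ h0 (Nat.mod_lt _ B.prime.pos))
  have hfib : ∀ r ∈ R, r ≠ 1 → ∀ r' ∈ R, r' ≠ 1 →
      (T.filter (fun x => f x = r)).card ≤ (T.filter (fun x => f x = r')).card := by
    intro r hr hr1 r' hr' hr1'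
    obtain ⟨g, g1, g2⟩ := B.trans_fix (x := B.base) (y := r B.base) (z := B.base) (u := r' B.base)
      (fun e => hr1 (hR.free r hr e.symm)) (fun e => hr1' (hR.free r' hr' e.symm))
    have hgr : π g * r * (π g)⁻¹ = r' := by
      refine (inv_mul_eq_one.1 (hR.free _ (mul_mem (inv_mem hr') (hR.norm _ ⟨g, rfl⟩ r hr)) ?_)).symm
      show r'⁻¹ (π g (r ((π g)⁻¹ B.base))) = B.base
      have e : (π g)⁻¹ B.base = B.base := by
        conv_lhs => rw [← g1]
        exact (π g).symm_apply_apply _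
      rw [e, g2]
      exact r'.symm_apply_apply _
    have hgtop : g ∈ Subgroup.normalizer (E' : Set C) ⊔ P0 := by
      rw [hE', Sylow.normalizer_sup_eq_top]; exact Subgroup.mem_top g
    obtain ⟨x, hx, y, hy, rfl⟩ := Subgroup.mem_sup_of_normal_right.1 hgtop
    obtain ⟨e, he, hey⟩ := hEmap.symm ▸ (show π y ∈ R from hy)
    have hxe : x * e ∈ Subgroup.normalizer (E' : Set C) := mul_mem hx (Subgroup.le_normalizer he)
    have hπxe : π (x * e) = π (x * y) := by rw [map_mul, map_mul, hey]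
    have hmemM : ((x * e : C) : G) ∈ M := mem_normalizer_of_conj (by
      rintro _ ⟨z, hz, rfl⟩
      exact ⟨_, (Subgroup.mem_normalizer_iff.1 hxe z).1 hz, by simp⟩)
    refine Finset.card_le_card_of_injOn (fun z => ((x * e : C) : G) * z * ((x * e : C) : G)⁻¹) (fun z hz => ?_)
      (fun z _ z' _ h => mul_left_cancel (mul_right_cancel h))
    obtain ⟨hzT, hzr⟩ := Finset.mem_filter.1 hz
    obtain ⟨m, rfl⟩ := (hmT z).1 hzT
    have hzC : (m : G) * w * (m : G)⁻¹ ∈ C := hEC (hOE ⟨m, rfl⟩)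
    refine Finset.mem_filter.2 ⟨(hmT _).2 ⟨⟨_, mul_mem hmemM m.2⟩, by simp only; group⟩, ?_⟩
    rw [hfeq _ (mul_mem (mul_mem (x * e).2 hzC) (inv_mem (x * e).2))]
    rw [hfeq _ hzC] at hzr
    show π ((x * e) * ⟨_, hzC⟩ * (x * e)⁻¹) = r'
    rw [map_mul, map_mul, map_inv, hzr, hπxe, hgr]
  set RF := (Set.toFinite (R : Set (Equiv.Perm (FixW Ω w)))).toFinset with hRF
  have hmR : ∀ r, r ∈ RF ↔ r ∈ R := fun r => Set.Finite.mem_toFinset _
  have hRcard : RF.card = p ^ d := by rw [hRF, ← Set.ncard_eq_toFinset_card _, ← Nat.card_coe_set_eq]; exact hR.card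
  obtain ⟨r0, hr0, hr01⟩ : ∃ r ∈ R, r ≠ 1 := by
    by_contra! h
    have hbot : R = ⊥ := (Subgroup.eq_bot_iff_forall R).2 h
    have h1 := hR.card
    rw [hbot, Subgroup.card_bot] at h1
    exact (Nat.one_lt_pow hR.pos.ne' B.prime.one_lt).ne h1
  set j := (T.filter (fun x => f x = r0)).card with hj
  have hsum : T.card = 1 + (p ^ d - 1) * j := by
    rw [Finset.card_eq_sum_card_fiberwise (f := f) (t := RF) fun x hx => (hmR _).2 (hfR x ((hmT x).1 hx)),
      ← Finset.add_sum_erase RF _ ((hmR 1).2 (one_mem R)), hone, Finset.card_singleton,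
      Finset.sum_congr rfl (g := fun _ => j) fun r hr => ?_, Finset.sum_const,
      Finset.card_erase_of_mem ((hmR 1).2 (one_mem R)), hRcard, smul_eq_mul]
    obtain ⟨hr1, hrR⟩ := Finset.mem_erase.1 hr
    exact le_antisymm (hfib r ((hmR r).1 hrR) hr1 r0 hr0 hr01) (hfib r0 hr0 hr01 r ((hmR r).1 hrR) hr1)
  have hjp : j ≤ p := by
    rcases (T.filter (fun x => f x = r0)).eq_empty_or_nonempty with h | ⟨x0, hx0⟩
    · rw [hj, h, Finset.card_empty]; exact Nat.zero_le _
    have hW : (Set.toFinite (Subgroup.zpowers w : Set G)).toFinset.card = p := by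
      rw [← Set.ncard_eq_toFinset_card _, ← Nat.card_coe_set_eq, ← B.order]; exact Nat.card_zpowers w
    rw [hj, ← hW]
    refine Finset.card_le_card_of_injOn (fun x => x0⁻¹ * x) (fun x hx => (Set.Finite.mem_toFinset _).2 ?_)
      (fun x _ x' _ h => mul_left_cancel h)
    obtain ⟨hxT, hxr⟩ := Finset.mem_filter.1 hx
    obtain ⟨hx0T, hx0r⟩ := Finset.mem_filter.1 hx0
    obtain ⟨y, hy, rfl⟩ := hOE ((hmT x).1 hxT)
    obtain ⟨y0, hy0, rfl⟩ := hOE ((hmT x0).1 hx0T)
    rw [Subgroup.coe_subtype, hfeq _ y.2] at hxr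
    rw [Subgroup.coe_subtype, hfeq _ y0.2] at hx0r
    exact hkerE (y0⁻¹ * y) (mul_mem (inv_mem hy0) hy) (by rw [map_mul, map_inv, hx0r, hxr, inv_mul_cancel])
  have hTO : T.card = Nat.card O := by rw [hT, ← Set.ncard_eq_toFinset_card _, Nat.card_coe_set_eq]
  have hdvd : p ∣ T.card := dvd_of_one_le_padicValNat (hTO ▸ hOval.ge)
  have hj1 : j = 1 := by
    obtain ⟨c, hc⟩ := dvd_pow_self p hR.pos.ne'
    have hz : ((T.card : ℕ) : ZMod p) = 0 := (ZMod.natCast_eq_zero_iff _ _).2 hdvd
    rw [hsum, Nat.cast_add, Nat.cast_mul, Nat.cast_sub (Nat.one_le_pow _ _ B.prime.pos), hc, Nat.cast_mul,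
      ZMod.natCast_self, zero_mul, Nat.cast_one, zero_sub, neg_one_mul, ← sub_eq_add_neg, sub_eq_zero] at hz
    have h1 : (1 : ℕ) ≡ j [MOD p] := (ZMod.natCast_eq_natCast_iff _ _ _).1 (by rw [Nat.cast_one]; exact hz)
    rcases hjp.lt_or_eq with h | h
    · exact (h1.eq_of_lt_of_lt B.prime.one_lt h).symm
    · rw [h, Nat.ModEq, Nat.mod_self, Nat.mod_eq_of_lt B.prime.one_lt] at h1
      exact absurd h1 one_ne_zero
  have : T.card = p ^ d := by
    rw [hsum, hj1, mul_one]
    have := Nat.one_le_pow d p B.prime.pos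
    omega
  rw [← hTO, this, padicValNat.prime_pow] at hOval
  exact hOval

/-- An element centralising the involutions acts trivially when `Q` is commutative of two-power order. -/
theorem centI_bot {b : ℕ} (hn : Nat.card Q = 2 ^ b) (hab : ∀ x ∈ Q, ∀ y ∈ Q, x * y = y * x) :
    centI Ω a t = ⊥ := by
  have hS := B.simple.setup
  refine (Subgroup.eq_bot_iff_forall _).2 fun v hv => ?_
  obtain ⟨hvD, hvI⟩ := Subgroup.mem_inf.1 hv
  have hodd : Odd (orderOf v) := orderOf_odd_mem hS.odd_card hvD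
  have hva : v • a = a := (Subgroup.mem_inf.1 hvD).1
  suffices hcom : ∀ x ∈ Q, v * x * v⁻¹ = x by
    haveI := B.simple.faithful
    refine FaithfulSMul.eq_of_smul_eq_smul (α := Ω) fun o => ?_
    rw [one_smul]
    by_cases ho : o = a
    · rw [ho, hva]
    obtain ⟨y, hy, -⟩ := regular hS (ta_ne hS) ho
    rw [← hy, ← mul_smul, mul_inv_eq_iff_eq_mul.1 (hcom y y.2), mul_smul,
      show v • t • a = t • a from (Subgroup.mem_inf.1 hvD).2]
  have key : ∀ i : ℕ, ∀ x ∈ Q, x ^ 2 ^ i = 1 → v * x * v⁻¹ = x := by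
    intro i
    induction i with
    | zero =>
      intro x _ h1
      rw [pow_zero, pow_one] at h1
      rw [h1, mul_one, mul_inv_cancel]
    | succ i ih =>
      intro x hx h1
      have hx2 : v * (x * x) * v⁻¹ = x * x := ih (x * x) (mul_mem hx hx) (by
        rw [← pow_two, ← pow_mul, ← pow_succ']; exact h1)
      set y := x⁻¹ * (v * x * v⁻¹) with hy
      have hcQ : v * x * v⁻¹ ∈ Q := hS.conj_mem v hva x hx
      have hyQ : y ∈ Q := mul_mem (inv_mem hx) hcQ
      have hy2 : y * y = 1 := by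
        calc y * y = x⁻¹ * (v * x * v⁻¹ * x⁻¹) * (v * x * v⁻¹) := by rw [hy]; simp only [mul_assoc]
          _ = x⁻¹ * (x⁻¹ * (v * x * v⁻¹)) * (v * x * v⁻¹) := by rw [hab _ hcQ _ (inv_mem hx)]
          _ = x⁻¹ * x⁻¹ * (v * (x * x) * v⁻¹) := by group
          _ = 1 := by rw [hx2]; group
      have hvy : v * y * v⁻¹ = y := by
        by_cases hy1 : y = 1
        · rw [hy1, mul_one, mul_inv_cancel]
        exact mul_inv_eq_iff_eq_mul.2 (Subgroup.mem_centralizer_iff.1 hvI y ⟨RankOne.fix_a hS hyQ, hy1, hy2⟩).symm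
      have hj : ∀ j : ℕ, v ^ j * x * (v ^ j)⁻¹ = x * y ^ j := fun j => by
        induction j with
        | zero => simp
        | succ j ihj =>
          calc v ^ (j + 1) * x * (v ^ (j + 1))⁻¹ = v * (v ^ j * x * (v ^ j)⁻¹) * v⁻¹ := by rw [pow_succ']; group
            _ = (v * x * v⁻¹) * (v * y * v⁻¹) ^ j := by rw [ihj, conj_pow]; group
            _ = (v * x * v⁻¹) * y ^ j := by rw [hvy]
            _ = x * y ^ (j + 1) := by rw [pow_succ', ← mul_assoc x, show x * y = v * x * v⁻¹ from mul_inv_cancel_left x _]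
      have ho := hj (orderOf v)
      rw [pow_orderOf_eq_one, one_mul, inv_one, mul_one, left_eq_mul] at ho
      have hy1 : y = 1 := by
        obtain ⟨c, hc⟩ := hodd
        rwa [hc, pow_succ, pow_mul, pow_two, hy2, one_pow, one_mul] at ho
      exact (inv_mul_eq_one.1 hy1).symm
  intro x hx
  exact key b x hx (orderOf_dvd_iff_pow_eq_one.1 (hn ▸ Subgroup.orderOf_dvd_natCard Q hx))

/-- A noncommutative `Q` of two-power order. -/
theorem suzuki_cases {b : ℕ} (hn2 : Nat.card Q = 2 ^ (b * p)) (hab : NonAb Q) : b = 2 ∨ b = 3 := by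
  have hS := B.simple.setup
  haveI := B.simple.faithful
  haveI := Fact.mk Nat.prime_two
  obtain ⟨x, hx, y, hy, hxy⟩ := hab
  have hQ2 : IsPGroup 2 Q := IsPGroup.of_card hn2
  have hinv : ∀ x ∈ Q, x * x = 1 → x ∈ zGroup B.simple := fun x hx hx2 =>
    (em (x = 1)).imp id fun h => ⟨RankOne.fix_a hS hx, h, hx2⟩
  obtain ⟨S⟩ : Nonempty (Sylow 2 Q) := inferInstance
  have htop : (⊤ : Subgroup Q) = S := S.is_maximal' (hQ2.of_equiv Subgroup.topEquiv.symm) le_top
  rcases Cfsg.Agent.S1132.result hS B.simple.two S with h | h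
  · exfalso
    have hxS : (⟨x, hx⟩ : Q) ∈ (S : Subgroup Q) := htop ▸ Subgroup.mem_top _
    have hyS : (⟨y, hy⟩ : Q) ∈ (S : Subgroup Q) := htop ▸ Subgroup.mem_top _
    exact hxy (congrArg (fun e : (S : Subgroup Q) => ((e : Q) : G)) (h.is_comm.comm ⟨_, hxS⟩ ⟨_, hyS⟩))
  obtain ⟨hinvc, hcsq⟩ := Cfsg.Agent.S1137.result h
  obtain ⟨-, -, hcard, -⟩ := Cfsg.Agent.S1138.result h
  have hcS : Nat.card (S : Subgroup Q) = Nat.card Q := by rw [← htop, Subgroup.card_top]
  have hcen : Nat.card (Subgroup.center (S : Subgroup Q)) = qNum G a := by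
    rw [← card_zGroup B.simple]
    refine Nat.card_eq_of_bijective (fun z => (⟨((z.1 : Q) : G), hinv _ z.1.1.2
      (congrArg (fun e : (S : Subgroup Q) => ((e : Q) : G)) (hcsq z.1 z.2))⟩ : zGroup B.simple)) ⟨fun z z' e => ?_, ?_⟩
    · exact Subtype.ext (Subtype.ext (Subtype.ext (congrArg Subtype.val e :)))
    · rintro ⟨z, hz⟩
      refine ⟨⟨⟨⟨z, zGroup_le B.simple hz⟩, htop ▸ Subgroup.mem_top _⟩, Subgroup.mem_center_iff.2 fun g => ?_⟩, rfl⟩
      exact Subtype.ext (Subtype.ext (zGroup_central B.simple hz g.1.2).symm)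
  rw [hcen, hcS, hn2, B.qNum_two, ← pow_mul, ← pow_mul] at hcard
  exact hcard.imp
    (fun e => Nat.eq_of_mul_eq_mul_right B.prime.pos ((Nat.pow_right_injective le_rfl e).trans (mul_comm _ _)))
    (fun e => Nat.eq_of_mul_eq_mul_right B.prime.pos ((Nat.pow_right_injective le_rfl e).trans (mul_comm _ _)))

/-- The three possibilities when `p` does not divide the order of the centraliser of the involutions. -/
theorem dich_prime (hd : DegAStep.{u, v}) (hV : ¬ p ∣ Nat.card (centI Ω a t)) (hR : B.Reg R d) : Dich a t Q := by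
  have hS := B.simple.setup
  haveI := B.simple.faithful
  haveI := Fact.mk B.prime
  haveI := Fact.mk Nat.prime_two
  set n0 := Nat.card ↥(Q ⊓ Subgroup.centralizer {w}) with hn0
  have hp1 : n0 + 1 = p := by have := B.card_Q0 hR; rwa [B.d_eq_one hV hR, pow_one] at this
  have hnQ : Nat.card Q = n0 ^ p := B.card_Q
  obtain ⟨b, hb⟩ : ∃ b, n0 = 2 ^ b := by
    refine ⟨_, Nat.eq_prime_pow_of_unique_prime_dvd (p := 2) (by have := B.two_le_Q0; omega) fun {l} hl hln => ?_⟩
    obtain ⟨i, -, hi⟩ := B.prime_cong hR hl (hnQ ▸ hln.trans (dvd_pow_self n0 B.prime.ne_zero))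
    have hlt : l < 2 ^ p - 1 := by
      have h1 := Nat.le_of_dvd (by have := B.two_le_Q0; omega) hln
      have h2 : p < 2 ^ p := Nat.lt_two_pow_self
      omega
    rw [Nat.mod_eq_of_lt hlt] at hi
    exact (Nat.prime_dvd_prime_iff_eq hl Nat.prime_two).1 (
      hl.dvd_of_dvd_pow (show l ∣ 2 ^ i from hi ▸ dvd_rfl))
  have hn2 : Nat.card Q = 2 ^ (b * p) := by rw [hnQ, hb, ← pow_mul]
  have hQ2 : IsPGroup 2 Q := IsPGroup.of_card hn2
  have hinv : ∀ x ∈ Q, x * x = 1 → x ∈ zGroup B.simple := fun x hx hx2 =>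
    (em (x = 1)).imp id fun h => ⟨RankOne.fix_a hS hx, h, hx2⟩
  by_cases hab : ∀ x ∈ Q, ∀ y ∈ Q, x * y = y * x
  · rcases Nat.lt_or_ge b 2 with hb2 | hb2
    · interval_cases b
      · have := B.two_le_Q0
        rw [← hn0, hb] at this
        omega
      refine Or.inl ⟨?_, by rw [hn2, B.qNum_two, one_mul]⟩
      have hQz : zGroup B.simple = Q := Subgroup.eq_of_le_of_card_ge (zGroup_le B.simple) (by
        rw [hn2, card_zGroup B.simple, B.qNum_two, one_mul])
      obtain ⟨⟨s', r⟩, ⟨hs', hr, he⟩, -⟩ := partner hS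
      exact ⟨s', hs', r, hr, involGroup_sq hS B.simple.two (hQz.symm ▸ hr : r ∈ zGroup B.simple), he⟩
    exfalso
    have hVb := B.centI_bot hn2 hab
    have hT : centT Ω a t = Subgroup.zpowers w := by
      refine (Subgroup.eq_of_le_of_card_ge (Subgroup.zpowers_le.2 B.mem) ?_).symm
      rw [B.card_centT, hVb, Subgroup.card_bot, mul_one, Nat.card_zpowers, B.order]
    have hbp : p ≤ b * p := Nat.le_mul_of_pos_left _ (by omega)
    obtain ⟨A, e, he1, he2, heq⟩ := hd B.simple hab w (B.order.symm ▸ B.prime) hT (fun g hg hc => B.inv_free hg hc)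
      (2 ^ (b * p - p)) (by rw [hn2, B.qNum_two, ← pow_add, Nat.add_sub_cancel' hbp])
    rw [← hn0, hb] at he2
    rw [B.qNum_two] at heq
    push_cast at heq he2
    have hN : b * p - p = (b - 1) * p := by rw [Nat.sub_one_mul]
    rw [hN] at heq
    obtain ⟨e', rfl⟩ : ∃ e' : ℕ, e = (e' : ℤ) := ⟨e.toNat, (Int.toNat_of_nonneg (by omega)).symm⟩
    have he2' : e' < 2 ^ b := by exact_mod_cast he2
    obtain ⟨A', hA'⟩ : ∃ A' : ℤ, A * (A - 1) = 2 * A' := even_iff_two_dvd.1 (Int.even_mul_pred_self A)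
    rcases Nat.lt_or_ge b 3 with hb3 | hb3
    · have hb' : b = 2 := by omega
      subst hb'
      have hp5 : p = 5 := by rw [← hp1, hb]; rfl
      subst hp5
      norm_num at heq he2'
      have he1' : 1 ≤ e' := by exact_mod_cast he1
      interval_cases e'
      all_goals norm_num at heq
      all_goals
        rcases le_or_gt A (-9) with h | h
        · nlinarith
        rcases le_or_gt 10 A with h' | h'
        · nlinarith
        interval_cases A <;> norm_num at heq
    · obtain ⟨c, o, ho, rfl⟩ := Nat.exists_eq_two_pow_mul_odd (n := e') (by omega)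
      have hcb : c < b := (Nat.pow_lt_pow_iff_right (by norm_num : 1 < 2)).1
        (lt_of_le_of_lt (Nat.le_mul_of_pos_right _ ho.pos) he2')
      have hp9 : 9 ≤ p := by
        rw [← hp1, hb]
        have := Nat.pow_le_pow_right (show 1 ≤ 2 by norm_num) hb3
        omega
      obtain ⟨b', rfl⟩ : ∃ b', b = b' + 1 := ⟨b - 1, by omega⟩
      rw [Nat.add_sub_cancel] at heq
      have hcM : c < b' * p := by nlinarith
      have hoo : Odd ((o : ℤ) * (2 ^ (b' * p - c) - o)) :=
        ((Int.odd_coe_nat o).2 ho).mul (Even.sub_odd (Even.pow_of_ne_zero even_two (by omega)) ((Int.odd_coe_nat o).2 ho))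
      have hfac : A * (A - 1) * 2 ^ (b' * p) = 2 ^ (p + 2 * c) * ((o : ℤ) * (2 ^ (b' * p - c) - o)) := by
        rw [heq]
        conv_lhs => rw [show b' * p = c + (b' * p - c) by omega, pow_add (2 : ℤ) c]
        push_cast
        ring
      rw [hA', show b' * p = (p + 2 * c) + (b' * p - (p + 2 * c)) by nlinarith [Nat.sub_add_cancel (show p + 2 * c ≤ b' * p by nlinarith)]] at hfac
      rw [show 2 * A' * 2 ^ (p + 2 * c + (b' * p - (p + 2 * c))) =
        2 ^ (p + 2 * c) * (2 * (A' * 2 ^ (b' * p - (p + 2 * c)))) by ring] at hfac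
      rw [show p + 2 * c + (b' * p - (p + 2 * c)) = b' * p by
        have : p + 2 * c ≤ b' * p := by nlinarith
        omega] at hfac
      exact Int.not_even_iff_odd.2 hoo ⟨A' * 2 ^ (b' * p - (p + 2 * c)), by
        rw [← mul_left_cancel₀ (pow_ne_zero _ two_ne_zero) hfac]; ring⟩
  · push Not at hab
    have hb23 := B.suzuki_cases hn2 hab
    obtain ⟨x, hx, y, hy, hxy⟩ := hab
    rcases hb23 with rfl | rfl
    · refine Or.inr (Or.inl ⟨fun hl => ?_, by rw [hn2, B.qNum_two, ← pow_mul, mul_comm], x, hx, y, hy, hxy⟩)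
      have := B.caseL_three hR hl
      rw [hb] at hp1
      omega
    · rw [hb] at hp1
      exact absurd B.prime (hp1 ▸ by norm_num)

end SmallData

end Cfsg.Lib.BenderSuzuki
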