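import Cfsg.Agent.BenderSuzuki.Wielandt
import Mathlib.Algebra.CharP.Frobenius
import Mathlib.Algebra.Polynomial.Roots
import Mathlib.RingTheory.Ideal.Quotient.Operations

/-!
The eigenvalues of a fixed point free cyclic group on an elementary abelian group on which the permuting element
fixes a line: the prime is congruent to one of the multipliers.
-/

set_option autoImplicit false
set_option linter.unusedSectionVars false
set_option linter.style.haveILetI false

namespace Cfsg.Lib.BenderSuzuki

open Polynomial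
open scoped _root_.Classical

variable {G : Type*} [Group G] [Finite G] {X : Subgroup G} {k w : G} {p a l : ℕ}

/-- Intertwining passes to polynomials. -/
theorem intertwine {R : Type*} [Ring R] {u c c' : R} (h : u * c = c' * u) (f : ℤ[X]) :
    u * aeval c f = aeval c' f * u := by
  induction f using Polynomial.induction_on' with
  | add f g hf hg => rw [map_add, map_add, mul_add, add_mul, hf, hg]
  | monomial n r =>
    have hn : u * c ^ n = c' ^ n * u := by
      induction n with
      | zero => simp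
      | succ n ih => rw [pow_succ, ← mul_assoc, ih, mul_assoc, h, ← mul_assoc, ← pow_succ]
    rw [aeval_monomial, aeval_monomial, ← mul_assoc, ← Algebra.commutes, mul_assoc, hn, mul_assoc]

/-- The prime is a power of the multiplier modulo the order of the cyclic group. -/
theorem eigen [hl : Fact l.Prime] (hp : 0 < p) (hcomm : ∀ x ∈ X, ∀ y ∈ X, x * y = y * x)
    (hexp : ∀ x ∈ X, x ^ l = 1) (hk : k ∈ Subgroup.normalizer (X : Set G))
    (hw : w ∈ Subgroup.normalizer (X : Set G)) (hwm : w ^ p = 1) (hconj : w * k * w⁻¹ = k ^ a)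
    (hfpf : ∀ g ∈ Subgroup.zpowers k, g ≠ 1 → ∀ x ∈ X, Commute g x → x = 1)
    (hmove : ∀ d, 0 < d → d < p → ¬ Commute (w ^ d) k)
    (hone : Nat.card ↥(X ⊓ Subgroup.centralizer {w}) = l) : ∃ j < p, k ^ l = k ^ a ^ j := by
  letI : CommGroup X := { (inferInstance : Group X) with
    mul_comm := fun x y => Subtype.ext (hcomm x x.2 y y.2) }
  let c := X.normalizerMonoidHom
  let kE : AddMonoid.End (Additive X) := toEnd X (c ⟨k, hk⟩)
  let wE : AddMonoid.End (Additive X) := toEnd X (c ⟨w, hw⟩)
  have hdist := powers_distinct hconj hmove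
  have hkE : ∀ n (x : X), ((Additive.toMul ((kE ^ n) (Additive.ofMul x)) : X) : G) = k ^ n * x * (k ^ n)⁻¹ :=
    fun n x => by
      rw [← map_pow, ← map_pow]
      rfl
  have hinj : ∀ x y : ℕ, k ^ x ≠ k ^ y → Function.Injective ⇑(kE ^ x - kE ^ y) := fun x y hne =>
    (injective_iff_map_eq_zero _).2 fun z hz => by
      have h : ((Additive.toMul ((kE ^ x) (Additive.ofMul (Additive.toMul z))) : X) : G) =
          ((Additive.toMul ((kE ^ y) (Additive.ofMul (Additive.toMul z))) : X) : G) :=
        congrArg (fun v : Additive X => ((Additive.toMul v : X) : G)) (sub_eq_zero.1 hz)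
      rw [hkE, hkE] at h
      refine congrArg Additive.ofMul (Subtype.ext ?_ : Additive.toMul z = (1 : X))
      refine hfpf ((k ^ y)⁻¹ * k ^ x) (mul_mem (inv_mem (pow_mem (Subgroup.mem_zpowers k) _))
        (pow_mem (Subgroup.mem_zpowers k) _)) (fun e => hne (inv_mul_eq_one.1 e).symm) _ (Additive.toMul z).2 ?_
      refine mul_inv_eq_iff_eq_mul.1 ?_
      calc (k ^ y)⁻¹ * k ^ x * ((Additive.toMul z : X) : G) * ((k ^ y)⁻¹ * k ^ x)⁻¹
          = (k ^ y)⁻¹ * (k ^ x * ((Additive.toMul z : X) : G) * (k ^ x)⁻¹) * k ^ y := by group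
        _ = _ := by rw [h]; group
  have hwE : wE ^ p = 1 := by
    rw [← map_pow, ← map_pow]
    exact (congrArg (fun g => toEnd X (c g)) (Subtype.ext hwm : (⟨w, hw⟩ : Subgroup.normalizer (X : Set G)) ^ p = 1)).trans
      (by rw [map_one, map_one])
  have hcE : wE * kE = kE ^ a * wE := by
    rw [← map_pow, ← map_mul, ← map_mul, ← map_pow, ← map_mul, ← map_mul]
    exact congrArg (fun g => toEnd X (c g)) (Subtype.ext (mul_inv_eq_iff_eq_mul.1 hconj))
  obtain ⟨-, hgen, -⟩ := abelian_main (A := Additive X) hwE hp hcE fun i hi j hj hij x hx => by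
    have := hinj (a ^ i) (a ^ j) (hdist i hi j hj hij) (a₁ := x) (a₂ := 0)
    exact this (by rw [map_zero]; exact sub_eq_zero.2 hx)
  -- the fixed line
  set F := fixAdd wE
  have hFcard : Nat.card F = l := by
    rw [← hone]
    refine Nat.card_congr
      { toFun := fun x => ⟨((Additive.toMul (x : Additive X) : X) : G), (Additive.toMul (x : Additive X)).2, ?_⟩
        invFun := fun x => ⟨Additive.ofMul ⟨x.1, x.2.1⟩, ?_⟩
        left_inv := fun _ => rfl
        right_inv := fun _ => rfl }
    · refine Subgroup.mem_centralizer_singleton_iff.2 (mul_inv_eq_iff_eq_mul.1 ?_).symm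
      exact congrArg (fun v : Additive X => ((Additive.toMul v : X) : G)) x.2
    · refine congrArg Additive.ofMul (Subtype.ext ?_)
      show w * x.1 * w⁻¹ = x.1
      rw [← Subgroup.mem_centralizer_singleton_iff.1 x.2.2, mul_inv_cancel_right]
  obtain ⟨x0, hx0⟩ : ∃ x0 : F, x0 ≠ 0 := by
    by_contra! h
    have : Nat.card F = 1 := Nat.card_eq_one_iff_unique.2 ⟨⟨fun x y => by rw [h x, h y]⟩, ⟨0⟩⟩
    exact hl.out.ne_one (hFcard ▸ this)
  haveI : Fact (Nat.card F).Prime := ⟨hFcard ▸ hl.out⟩
  have hspan : ∀ y : F, ∃ n : ℤ, (y : Additive X) = n • (x0 : Additive X) := fun y => by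
    obtain ⟨n, hn⟩ := AddSubgroup.mem_zmultiples_iff.1 (mem_zmultiples_of_prime_card (g' := y) rfl hx0)
    exact ⟨n, by rw [← hn]; rfl⟩
  -- the polynomial
  obtain ⟨y, hy⟩ := hgen ((kE ^ p) (x0 : Additive X))
  choose n hn using fun i => hspan (y i)
  set P : ℤ[X] := Polynomial.X ^ p - ∑ i : Fin p, C (n i) * Polynomial.X ^ (i : ℕ) with hP
  have hPdeg : (∑ i : Fin p, C (n i) * Polynomial.X ^ (i : ℕ)).degree < (p : WithBot ℕ) :=
    degree_sum_fin_lt n
  have hPm : P.Monic := monic_X_pow_sub hPdeg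
  have hPnat : P.natDegree = p := by
    have h : P.degree = p := by
      rw [hP, sub_eq_add_neg, degree_add_eq_left_of_degree_lt (by rw [degree_neg, degree_X_pow]; exact hPdeg),
        degree_X_pow]
    exact natDegree_eq_of_degree_eq_some h
  have hP0 : aeval kE P (x0 : Additive X) = 0 := by
    rw [hP, map_sub, map_pow, aeval_X, map_sum]
    show (kE ^ p) (x0 : Additive X) - (∑ i : Fin p, aeval kE (C (n i) * Polynomial.X ^ (i : ℕ))) (x0 : Additive X) = 0
    rw [show (∑ i : Fin p, aeval kE (C (n i) * Polynomial.X ^ (i : ℕ))) (x0 : Additive X) =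
        ∑ i : Fin p, aeval kE (C (n i) * Polynomial.X ^ (i : ℕ)) (x0 : Additive X) from
      map_sum (AddMonoidHom.eval (x0 : Additive X) : (Additive X →+ Additive X) →+ Additive X) _ _, hy, sub_eq_zero]
    refine Finset.sum_congr rfl fun i _ => ?_
    rw [hn i, map_zsmul, map_mul, aeval_C, map_pow, aeval_X]
    rfl
  have hPk : aeval kE P = 0 := AddMonoidHom.ext fun x => by
    obtain ⟨y', hy'⟩ := hgen x
    subst hy'
    refine (map_sum (aeval kE P : Additive X →+ Additive X) _ _).trans ?_
    refine (Finset.sum_eq_zero fun i _ => ?_).trans (AddMonoidHom.zero_apply _).symm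
    obtain ⟨m, hm⟩ := hspan (y' i)
    rw [hm, map_zsmul, map_zsmul]
    show m • (aeval kE P * kE ^ (i : ℕ)) (x0 : Additive X) = 0
    rw [show aeval kE P * kE ^ (i : ℕ) = kE ^ (i : ℕ) * aeval kE P by
      rw [← aeval_X (R := ℤ) kE, ← map_pow, aeval_X, ← map_mul, ← map_mul, mul_comm]]
    show m • (kE ^ (i : ℕ)) (aeval kE P (x0 : Additive X)) = 0
    rw [hP0, map_zero, smul_zero]
  set I : Ideal ℤ[X] := RingHom.ker (aeval kE : ℤ[X] →ₐ[ℤ] AddMonoid.End (Additive X)) with hI
  have hne : I ≠ ⊤ := fun h => by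
    have h1 : (1 : ℤ[X]) ∈ I := h ▸ trivial
    rw [hI, RingHom.mem_ker, map_one] at h1
    exact hx0 (Subtype.ext (DFunLike.congr_fun h1 (x0 : Additive X)))
  obtain ⟨J, hJ, hIJ⟩ := Ideal.exists_le_maximal I hne
  letI : Field (ℤ[X] ⧸ J) := Ideal.Quotient.field J
  set lam : ℤ[X] ⧸ J := Ideal.Quotient.mk J Polynomial.X
  have hzero : ∀ f : ℤ[X], aeval kE f = 0 → Ideal.Quotient.mk J f = 0 := fun f hf =>
    Ideal.Quotient.eq_zero_iff_mem.2 (hIJ (RingHom.mem_ker.2 hf))
  haveI : CharP (ℤ[X] ⧸ J) l := (CharP.charP_iff_prime_eq_zero hl.out).2 (by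
    rw [← map_natCast (Ideal.Quotient.mk J)]
    refine hzero _ (AddMonoidHom.ext fun x => ?_)
    rw [map_natCast]
    show l • x = (0 : Additive X)
    exact congrArg Additive.ofMul (Subtype.ext (hexp _ (Additive.toMul x).2) : (Additive.toMul x) ^ l = (1 : X)))
  have hroot : ∀ j, aeval (lam ^ a ^ j) P = 0 := by
    intro j
    have h1 : aeval kE (P.comp (Polynomial.X ^ a ^ j)) = 0 := by
      rw [aeval_comp, map_pow, aeval_X]
      have hj : wE ^ j * kE = kE ^ a ^ j * wE ^ j := by
        have hcj : ∀ i, wE * kE ^ i = kE ^ (a * i) * wE := fun i => by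
          induction i with
          | zero => simp
          | succ i ih => rw [pow_succ, ← mul_assoc, ih, mul_assoc, hcE, ← mul_assoc, ← pow_add, Nat.mul_succ]
        induction j with
        | zero => simp
        | succ j ih => rw [pow_succ', mul_assoc, ih, ← mul_assoc, hcj, mul_assoc, ← pow_succ', ← pow_succ']
      have h := intertwine hj P
      rw [hPk, mul_zero] at h
      have hu : IsUnit (wE ^ j) := ((isUnit_pow_iff hp.ne').1 (hwE ▸ isUnit_one)).pow j
      exact (hu.mul_left_eq_zero).1 h.symm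
    rw [← map_pow, ← aeval_X_left_apply (Polynomial.X ^ a ^ j)]
    have h2 : aeval (Ideal.Quotient.mkₐ ℤ J (Polynomial.X ^ a ^ j)) P =
        Ideal.Quotient.mkₐ ℤ J (aeval (Polynomial.X ^ a ^ j : ℤ[X]) P) := aeval_algHom_apply _ _ _
    rw [aeval_X_left_apply]
    refine h2.trans ?_
    rw [← comp_eq_aeval]
    exact hzero _ h1
  have hlroot : aeval (lam ^ l) P = 0 := by
    have h := aeval_algHom_apply ((frobenius (ℤ[X] ⧸ J) l).toIntAlgHom) lam P
    have h0 : aeval lam P = 0 := by simpa using hroot 0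
    rw [h0, map_zero] at h
    exact h
  have hpowinj : ∀ x y : ℕ, lam ^ x = lam ^ y → k ^ x = k ^ y := fun x y he => by
    by_contra hxy
    haveI : Finite (AddMonoid.End (Additive X)) := Finite.of_injective _ DFunLike.coe_injective
    have hbij := Finite.injective_iff_bijective.1 (hinj x y hxy)
    have hcancel : Function.Injective fun v : AddMonoid.End (Additive X) => (kE ^ x - kE ^ y) * v :=
      fun v v' h => AddMonoidHom.ext fun z => hbij.1 (DFunLike.congr_fun h z)
    obtain ⟨v, hv⟩ := (Finite.injective_iff_bijective.1 hcancel).2 1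
    have hu : IsUnit (kE ^ x - kE ^ y) := ⟨⟨_, v, hv, mul_eq_one_comm.1 hv⟩, rfl⟩
    obtain ⟨u, hu⟩ := hu
    have hN := pow_orderOf_eq_one u
    have hN0 : 0 < orderOf u := orderOf_pos u
    have h0 : Ideal.Quotient.mk J ((Polynomial.X ^ x - Polynomial.X ^ y) ^ orderOf u - 1) = 0 := hzero _ (by
      rw [map_sub, map_pow, map_sub, map_pow, map_pow, aeval_X, map_one, ← hu, ← Units.val_pow_eq_pow_val, hN,
        Units.val_one, sub_self])
    rw [map_sub, map_pow, map_sub, map_pow, map_pow, map_one, sub_eq_zero] at h0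
    rw [show Ideal.Quotient.mk J Polynomial.X = lam from rfl, he, sub_self, zero_pow hN0.ne'] at h0
    exact zero_ne_one h0
  set S : Finset (ℤ[X] ⧸ J) := (Finset.range p).image fun j => lam ^ a ^ j with hS
  have hScard : S.card = p := by
    rw [hS, Finset.card_image_of_injOn, Finset.card_range]
    intro i hi j hj hij
    by_contra hne'
    exact hdist i (Finset.mem_range.1 hi) j (Finset.mem_range.1 hj) hne' (hpowinj _ _ hij)
  suffices hmem : lam ^ l ∈ S by
    obtain ⟨j, hj, e⟩ := Finset.mem_image.1 hmem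
    exact ⟨j, Finset.mem_range.1 hj, (hpowinj _ _ e).symm⟩
  by_contra hnot
  set P' := P.map (Int.castRingHom (ℤ[X] ⧸ J)) with hP'
  have hP'0 : P' ≠ 0 := (hPm.map _).ne_zero
  have hle : (insert (lam ^ l) S).card ≤ P'.natDegree := by
    refine card_le_degree_of_subset_roots fun z hz => ?_
    rw [mem_roots hP'0, IsRoot, hP', eval_map]
    have hz' : z = lam ^ l ∨ z ∈ S := Finset.mem_insert.1 hz
    rcases hz' with rfl | hz'
    · exact hlroot
    · obtain ⟨j, -, rfl⟩ := Finset.mem_image.1 hz'
      exact hroot j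
  rw [Finset.card_insert_of_notMem hnot, hScard, hP', hPm.natDegree_map, hPnat] at hle
  omega

end Cfsg.Lib.BenderSuzuki
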