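import Cfsg.Agent.BenderSuzuki.AlphaAction
import Cfsg.Agent.BenderSuzuki.Eigen
import Mathlib.Tactic.Abel

/-!
Consequences of the regular normal subgroup: the odd primes of `|Q|`, and the case of a partner of order two.
-/

set_option autoImplicit false
set_option linter.unusedSectionVars false
set_option linter.style.haveILetI false

namespace Cfsg.Lib.BenderSuzuki

open MulAction Cfsg.Lib.RankOne
open scoped _root_.Classical

universe u v

/-- The powers of a fixed point free endomorphism of finite order sum to zero. -/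
theorem sum_pow_fpf {A : Type*} [AddCommGroup A] {g : AddMonoid.End A} {l : ℕ} (hl : g ^ l = 1)
    (hfpf : ∀ x, g x = x → x = 0) (x : A) : ∑ i ∈ Finset.range l, (g ^ i) x = 0 := by
  refine hfpf _ ?_
  have h1 : ∑ i ∈ Finset.range l, (g ^ (i + 1)) x + (g ^ 0) x = ∑ i ∈ Finset.range l, (g ^ i) x + (g ^ l) x := by
    rw [← Finset.sum_range_succ' (fun i => (g ^ i) x), Finset.sum_range_succ]
  rw [hl, pow_zero] at h1
  rw [map_sum]
  exact (Finset.sum_congr rfl fun i _ => by rw [pow_succ']; rfl).trans (add_right_cancel h1)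

/-- Two commuting endomorphisms spanning a noncyclic group of order `l ^ 2` are not all fixed point free. -/
theorem two_fpf {A : Type*} [AddCommGroup A] {g h : AddMonoid.End A} {l p : ℕ} (hgh : Commute g h)
    (hg : g ^ l = 1) (hh : h ^ l = 1) (hcop : Nat.Coprime l p) (hp : ∀ x : A, p • x = 0) (hl : 0 < l)
    (hg' : ∀ i, 0 < i → i < l → ∀ x, (g ^ i) x = x → x = 0)
    (hgh' : ∀ j < l, ∀ x, (g ^ j * h) x = x → x = 0) (x : A) : x = 0 := by
  have h1 : ∀ j < l, ∑ i ∈ Finset.range l, ((g ^ j * h) ^ i) x = 0 := fun j hj => by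
    refine sum_pow_fpf ?_ (hgh' j hj) x
    rw [(hgh.pow_left j).mul_pow, ← pow_mul, mul_comm, pow_mul, hg, one_pow, one_mul, hh]
  have h2 : ∀ i < l, ∑ j ∈ Finset.range l, ((g ^ j * h) ^ i) x = if i = 0 then l • x else 0 := fun i hi => by
    by_cases h0 : i = 0
    · simp [h0]
    · rw [if_neg h0]
      have h3 := sum_pow_fpf (g := g ^ i) (by rw [← pow_mul, mul_comm, pow_mul, hg, one_pow])
        (hg' i (Nat.pos_of_ne_zero h0) hi) ((h ^ i) x)
      refine Eq.trans (Finset.sum_congr rfl fun j _ => ?_) h3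
      rw [(hgh.pow_left j).mul_pow, ← pow_mul, ← pow_mul, mul_comm i j]
      rfl
  have h4 : l • x = 0 := by
    rw [← Finset.sum_eq_zero (fun j hj => h1 j (Finset.mem_range.1 hj)), Finset.sum_comm,
      Finset.sum_congr rfl fun i hi => h2 i (Finset.mem_range.1 hi), Finset.sum_ite_eq' (Finset.range l) 0 fun _ => l • x,
      if_pos (Finset.mem_range.2 hl)]
  have h5 : addOrderOf x ∣ Nat.gcd l p := Nat.dvd_gcd (addOrderOf_dvd_of_nsmul_eq_zero h4) (addOrderOf_dvd_of_nsmul_eq_zero (hp x))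
  rw [hcop] at h5
  exact AddMonoid.addOrderOf_eq_one_iff.1 (Nat.dvd_one.1 h5)

variable {G : Type u} {Ω : Type v} [Group G] [Finite G] [MulAction G Ω] {a : Ω} {t : G} {Q : Subgroup G}

namespace SmallData

open Alpha

variable {k w s : G} {p : ℕ} (B : SmallData G Ω a t Q k w s p) {R : Subgroup (Equiv.Perm (FixW Ω w))} {d : ℕ}

include B

theorem card_Q0 (hR : B.Reg R d) : Nat.card ↥(Q ⊓ Subgroup.centralizer {w}) + 1 = p ^ d := by
  rw [← B.card_fix, hR.card_fix]

theorem not_dvd_Q : ¬ p ∣ Nat.card Q := fun h => by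
  have h1 := B.p_dvd_fix
  rw [B.card_fix] at h1
  rw [B.card_Q] at h
  exact B.prime.not_dvd_one ((Nat.dvd_add_right (B.prime.dvd_of_dvd_pow h)).1 h1)

theorem not_dvd_invK : ¬ p ∣ Nat.card (Subgroup.zpowers k) := fun h => by
  rw [B.card_invK] at h
  haveI := Fact.mk B.prime
  have e : ((2 ^ p - 1 : ℕ) : ZMod p) = 0 := (ZMod.natCast_eq_zero_iff _ _).2 h
  rw [Nat.cast_sub Nat.one_le_two_pow, Nat.cast_pow, ZMod.pow_card] at e
  norm_num at e

/-- An element of `Q` centralising `w` moves every other fixed point. -/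
theorem free_Q0 (hR : B.Reg R d) {y : G} (hy : y ∈ Q ⊓ Subgroup.centralizer {w}) (hy1 : y ≠ 1) {r : Equiv.Perm (FixW Ω w)}
    (hr : r ∈ R) (hc : Commute (actW Ω w ⟨y, hy.2⟩) r) : r = 1 := by
  refine hR.free r hr (Subtype.ext (fix_only B.simple.setup hy.1 hy1 ?_))
  have hb : actW Ω w ⟨y, hy.2⟩ B.base = B.base := Subtype.ext (RankOne.fix_a B.simple.setup hy.1)
  have h := congrArg (fun e : Equiv.Perm (FixW Ω w) => e B.base) hc.eq
  simp only [Equiv.Perm.coe_mul, Function.comp_apply] at h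
  rw [hb] at h
  exact congrArg Subtype.val h

/-- A partner of order two forces `p = 3`. -/
theorem caseL_three (hR : B.Reg R d) (hl : CaseL a t Q) : p = 3 := by
  have hS := B.simple.setup
  obtain ⟨s', hs', r, hrQ, hr2, he⟩ := hl
  obtain ⟨pr, -, hpu⟩ := partner hS
  have h1 := hpu (s', r) ⟨hs', hrQ, he⟩
  have hwt := centT_comm B.mem
  have h2 := hpu (w * s' * w⁻¹, w * r * w⁻¹) ⟨conj_invol hS B.fix_a hs', hS.conj_mem w B.fix_a r hrQ, by
    calc t * (w * s' * w⁻¹) * t = (t * w) * s' * (w⁻¹ * t) := by simp only [mul_assoc]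
      _ = (w * t) * s' * (t * w⁻¹) := by rw [hwt.eq, hwt.inv_left.eq]
      _ = w * (t * s' * t) * w⁻¹ := by simp only [mul_assoc]
      _ = w * r⁻¹ * w⁻¹ * (w * t * w⁻¹) * (w * r * w⁻¹) := by rw [he]; group
      _ = _ := by rw [hwt.eq, mul_inv_cancel_right]; group⟩
  have h3 := h2.trans h1.symm
  have hws : s' = s := B.s_only s' hs' (mul_inv_eq_iff_eq_mul.1 (congrArg Prod.fst h3))
  rw [hws] at he
  have hr1 : r ≠ 1 := fun e => by
    rw [e, inv_one, one_mul, mul_one] at he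
    refine hS.not_mem ?_
    have hst : s = t := by
      calc s = (t * t) * s * (t * t) := by rw [hS.mul_self, one_mul, mul_one]
        _ = t * (t * s * t) * t := by simp only [mul_assoc]
        _ = t := by rw [he, hS.mul_self, one_mul]
    exact hst ▸ B.s_mem.1
  have hrs : r = s := B.s_only r ⟨hS.le hrQ, hr1, hr2⟩ (mul_inv_eq_iff_eq_mul.1 (congrArg Prod.snd h3))
  rw [hrs, inv_of_sq B.s_mem.2.2] at he
  have hcube : (s * t) ^ 3 = 1 := by
    calc (s * t) ^ 3 = s * (t * s * t) * (s * t) := by rw [pow_three]; simp only [mul_assoc]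
      _ = s * s * t * (s * s) * t := by rw [he]; simp only [mul_assoc]
      _ = 1 := by rw [B.s_mem.2.2, one_mul, mul_one, hS.mul_self]
  by_contra hp3
  set e := actW Ω w ⟨s, B.s_cent⟩ * actW Ω w ⟨t, B.t_cent⟩ with he'
  have he3 : e ^ 3 = 1 := by
    rw [he', ← map_mul, ← map_pow]
    exact (congrArg (actW Ω w) (Subtype.ext hcube : ((⟨s, B.s_cent⟩ : Subgroup.centralizer ({w} : Set G)) * ⟨t, B.t_cent⟩) ^ 3 = 1)).trans
      (map_one _)
  have hcop : Nat.Coprime 3 p := (Nat.coprime_primes Nat.prime_three B.prime).2 (Ne.symm hp3)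
  have he1 : e = 1 := by
    have h := pow_gcd_eq_one.2 ⟨he3, hR.pow_p e hR.st_mem⟩
    rwa [hcop, pow_one] at h
  have h := congrArg (fun g : Equiv.Perm (FixW Ω w) => ((g ⟨t • a, B.fix_ta⟩ : FixW Ω w) : Ω)) he1
  simp only [he', Equiv.Perm.coe_mul, Function.comp_apply, Equiv.Perm.coe_one, id_eq, actW_apply] at h
  rw [t_ta hS, B.s_fix] at h
  exact ta_ne hS h.symm

/-- The elements of order dividing `l` in the centre of `Q`. -/
theorem exists_char_sub {l : ℕ} (hl : l.Prime) (hd : l ∣ Nat.card Q) :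
    ∃ X : Subgroup G, X ≤ Q ∧ X ≠ ⊥ ∧ (∀ g, g • a = a → g ∈ Subgroup.normalizer (X : Set G)) ∧
      (∀ x ∈ X, ∀ y ∈ X, x * y = y * x) ∧ (∀ x ∈ X, x ^ l = 1) := by
  haveI := Fact.mk hl
  let X : Subgroup G :=
    { carrier := {x | x ∈ Q ∧ (∀ y ∈ Q, x * y = y * x) ∧ x ^ l = 1}
      one_mem' := ⟨one_mem Q, fun y _ => by rw [one_mul, mul_one], one_pow l⟩
      mul_mem' := fun {x y} hx hy => ⟨mul_mem hx.1 hy.1, fun z hz => by
        rw [mul_assoc, hy.2.1 z hz, ← mul_assoc, hx.2.1 z hz, mul_assoc], by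
        rw [Commute.mul_pow (hx.2.1 y hy.1), hx.2.2, hy.2.2, one_mul]⟩
      inv_mem' := fun {x} hx => ⟨inv_mem hx.1, fun z hz => (Commute.inv_left (hx.2.1 z hz)).eq, by
        rw [inv_pow, hx.2.2, inv_one]⟩ }
  refine ⟨X, fun x hx => hx.1, ?_, fun g hg => mem_normalizer_of_conj fun x hx => ?_,
    fun x hx y hy => hx.2.1 y hy.1, fun x hx => hx.2.2⟩
  · haveI := nilpotent_Q B.simple.setup B.simple.two
    obtain ⟨P⟩ : Nonempty (Sylow l Q) := inferInstance
    have hPn : (P : Subgroup Q).Normal := by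
      have h := ((Group.isNilpotent_of_finite_tfae (G := Q)).out 0 3).1 ‹_›
      exact h l inferInstance P
    have hne : (P : Subgroup Q) ≠ ⊥ := fun h => by
      have h' := P.dvd_card_of_dvd_card hd
      rw [h, Subgroup.card_bot] at h'
      exact hl.not_dvd_one h'
    have h := Cfsg.Lib.Coprime.inf_center_ne_bot (P : Subgroup Q) hne
    haveI : Nontrivial ↥((P : Subgroup Q) ⊓ Subgroup.center Q) := (Subgroup.nontrivial_iff_ne_bot _).2 h
    obtain ⟨e, he, hc⟩ := (P.isPGroup'.to_le inf_le_left : IsPGroup l ↥((P : Subgroup Q) ⊓ Subgroup.center Q)).nontrivial_iff_card.1 ‹_›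
    obtain ⟨z, hz⟩ := exists_prime_orderOf_dvd_card' (G := ↥((P : Subgroup Q) ⊓ Subgroup.center Q)) l
      (by rw [hc]; exact dvd_pow_self l he.ne')
    intro hX
    have hzX : ((z : Q) : G) ∈ X := ⟨(z : Q).2, fun y hy =>
      (congrArg Subtype.val (Subgroup.mem_center_iff.1 (Subgroup.mem_inf.1 z.2).2 ⟨y, hy⟩)).symm, by
      have h' := pow_orderOf_eq_one z
      rw [hz] at h'
      exact congrArg (fun e : ↥((P : Subgroup Q) ⊓ Subgroup.center Q) => ((e : Q) : G)) h'⟩
    rw [hX, Subgroup.mem_bot] at hzX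
    have : z = 1 := Subtype.ext (Subtype.ext hzX)
    rw [this, orderOf_one] at hz
    exact hl.ne_one hz.symm
  · refine ⟨B.simple.setup.conj_mem g hg x hx.1, fun y hy => ?_, by rw [conj_pow, hx.2.2, mul_one, mul_inv_cancel]⟩
    have hy' : g⁻¹ * y * g ∈ Q := by
      have := B.simple.setup.conj_mem g⁻¹ (inv_mem (show g ∈ stabilizer G a from hg)) y hy
      rwa [inv_inv] at this
    calc g * x * g⁻¹ * y = g * (x * (g⁻¹ * y * g)) * g⁻¹ := by group
      _ = g * (g⁻¹ * y * g * x) * g⁻¹ := by rw [hx.2.1 _ hy']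
      _ = _ := by group

/-- The fixed points on such a subgroup form a group of order `l`. -/
theorem card_cent_X (hR : B.Reg R d) {l : ℕ} (hl : l.Prime) {X : Subgroup G} (hXQ : X ≤ Q) (hX : X ≠ ⊥)
    (hn : ∀ g, g • a = a → g ∈ Subgroup.normalizer (X : Set G)) (hcomm : ∀ x ∈ X, ∀ y ∈ X, x * y = y * x)
    (hexp : ∀ x ∈ X, x ^ l = 1) : Nat.card ↥(X ⊓ Subgroup.centralizer {w}) = l := by
  haveI := Fact.mk hl
  set A := X ⊓ Subgroup.centralizer {w} with hA
  have hcard := B.card_pow hXQ (hn k B.gen.fix_a) (hn w B.fix_a)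
  haveI : Nontrivial A := by
    rw [← Finite.one_lt_card_iff_nontrivial]
    rcases Nat.lt_or_ge 1 (Nat.card A) with h | h
    · exact h
    · have h1 : Nat.card A = 1 := le_antisymm h Nat.card_pos
      rw [h1, one_pow] at hcard
      exact absurd (Subgroup.card_eq_one.1 hcard) hX
  obtain ⟨⟨x, hx⟩, hx1⟩ := exists_ne (1 : A)
  have hx1' : x ≠ 1 := fun e => hx1 (Subtype.ext e)
  have hxl : orderOf x = l := orderOf_eq_prime (hexp x hx.1) hx1'
  suffices h : A = Subgroup.zpowers x by rw [h, Nat.card_zpowers, hxl]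
  refine le_antisymm (fun y hy => ?_) (Subgroup.zpowers_le.2 hx)
  by_contra hyx
  have hy1 : y ≠ 1 := fun e => hyx (e ▸ one_mem _)
  -- both act on the regular subgroup
  haveI := finite_pts B.simple.setup
  letI : CommGroup R := { (inferInstance : Group R) with
    mul_comm := fun r r' => Subtype.ext (hR.comm r r.2 r' r'.2) }
  let c : (actW Ω w).range →* MulAut R := R.normalizerMonoidHom.comp (Subgroup.inclusion fun h hh =>
    mem_normalizer_of_conj (H := R) (g := h) fun r hr => hR.norm h hh r hr)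
  let f : A →* AddMonoid.End (Additive R) :=
    ((toEnd R).comp c).comp ((actW Ω w).rangeRestrict.comp (Subgroup.inclusion inf_le_right))
  have hfpf : ∀ z : A, z ≠ 1 → ∀ r, f z r = r → r = 0 := by
    intro z hz r hr
    have hr' : actW Ω w ⟨(z : G), z.2.2⟩ * (Additive.toMul r : R) * (actW Ω w ⟨(z : G), z.2.2⟩)⁻¹ =
        ((Additive.toMul r : R) : Equiv.Perm (FixW Ω w)) :=
      congrArg (fun e : Additive R => ((Additive.toMul e : R) : Equiv.Perm (FixW Ω w))) hr
    have := B.free_Q0 hR ⟨hXQ z.2.1, z.2.2⟩ (fun e => hz (Subtype.ext e)) (Additive.toMul r).2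
      (mul_inv_eq_iff_eq_mul.1 hr')
    exact congrArg Additive.ofMul (Subtype.ext this : Additive.toMul r = (1 : R))
  have hlp : Nat.Coprime l p := (Nat.coprime_primes hl B.prime).2 fun e => B.not_dvd_Q (e ▸ by
    rw [← hxl]; exact Subgroup.orderOf_dvd_natCard Q (hXQ hx.1))
  have hzero : ∀ r : Additive R, r = 0 := two_fpf (g := f ⟨x, hx⟩) (h := f ⟨y, hy⟩)
    (by show f ⟨x, hx⟩ * f ⟨y, hy⟩ = f ⟨y, hy⟩ * f ⟨x, hx⟩
        rw [← map_mul, ← map_mul]; exact congrArg f (Subtype.ext (hcomm x hx.1 y hy.1)))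
    (by rw [← map_pow]; exact (congrArg f (Subtype.ext (hexp x hx.1))).trans (map_one f))
    (by rw [← map_pow]; exact (congrArg f (Subtype.ext (hexp y hy.1))).trans (map_one f))
    hlp (fun r => congrArg Additive.ofMul (Subtype.ext (hR.pow_p _ (Additive.toMul r).2) : (Additive.toMul r) ^ p = (1 : R)))
    hl.pos
    (fun i hi hil r hr => by
      rw [← map_pow] at hr
      exact hfpf _ (fun e => (Nat.le_of_dvd hi (hxl ▸ orderOf_dvd_of_pow_eq_one (congrArg Subtype.val e : x ^ i = 1))).not_gt hil) r hr)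
    (fun j _ r hr => by
      rw [← map_pow, ← map_mul] at hr
      refine hfpf _ (fun e => hyx ?_) r hr
      have e' : x ^ j * y = 1 := congrArg Subtype.val e
      rw [eq_inv_of_mul_eq_one_right e']
      exact inv_mem (pow_mem (Subgroup.mem_zpowers x) j))
  obtain ⟨r, hr, hrb⟩ := hR.trans ⟨t • a, B.fix_ta⟩
  have h := congrArg (fun e : Additive R => ((Additive.toMul e : R) : Equiv.Perm (FixW Ω w))) (hzero (Additive.ofMul ⟨r, hr⟩))
  simp only [toMul_ofMul, toMul_zero, OneMemClass.coe_one] at h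
  rw [h] at hrb
  exact ta_ne B.simple.setup (congrArg Subtype.val hrb).symm

/-- The odd primes dividing `|Q|` are powers of two modulo `2 ^ p - 1`. -/
theorem prime_cong (hR : B.Reg R d) {l : ℕ} (hl : l.Prime) (hd : l ∣ Nat.card Q) :
    ∃ i < p, l % (2 ^ p - 1) = 2 ^ i := by
  haveI := Fact.mk hl
  haveI := Fact.mk B.prime
  haveI := Fact.mk Nat.prime_two
  obtain ⟨e, he⟩ := exists_mult B.gen (Subgroup.mem_inf.1 B.mem).1
  have hmove : ∀ d, 0 < d → d < p → ¬ Commute (w ^ d) k := fun d hd0 hdp hc =>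
    B.moves d hd0 hdp ((mem_centI_iff B.gen B.simple (pow_mem B.mem d)).2 hc)
  have hk1 : orderOf k = 2 ^ p - 1 := by rw [← Nat.card_zpowers, B.card_invK]
  have h8 : 8 ≤ 2 ^ p := B.qNum_two ▸ B.eight_le
  obtain ⟨j0, hj0, hk2⟩ := eigen (l := 2) B.prime.pos
    (fun x hx y hy => zGroup_central B.simple hx (zGroup_le B.simple hy))
    (fun x hx => by rw [pow_two]; exact involGroup_sq B.simple.setup B.simple.two hx)
    (zGroup_normalizer B.simple B.gen.fix_a) (zGroup_normalizer B.simple B.fix_a) B.pow_p he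
    (B.gen.fpf B.simple (zGroup_le B.simple)) hmove B.card_zw
  obtain ⟨X, hXQ, hX, hn, hcomm, hexp⟩ := B.exists_char_sub hl hd
  obtain ⟨j, hj, hkl⟩ := eigen B.prime.pos hcomm hexp (hn k B.gen.fix_a) (hn w B.fix_a) B.pow_p he
    (B.gen.fpf B.simple hXQ) hmove (B.card_cent_X hR hl hXQ hX hn hcomm hexp)
  have hper : ∀ i, k ^ e ^ i = k ^ e ^ (i % p) := fun i => by
    rw [← conj_pow_of_conj he i, ← conj_pow_of_conj he (i % p)]
    rw [show w ^ i = w ^ (i % p) by
      conv_lhs => rw [← Nat.mod_add_div i p, pow_add, pow_mul, B.pow_p, one_pow, mul_one]]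
  have hiter : ∀ i, k ^ 2 ^ i = k ^ e ^ (j0 * i) := fun i => by
    induction i with
    | zero => simp
    | succ i ih => rw [pow_succ, pow_mul, ih, ← pow_mul, mul_comm (e ^ (j0 * i)) 2, pow_mul, hk2, ← pow_mul, ← pow_add,
        Nat.mul_succ, add_comm]
  have hj00 : (j0 : ZMod p) ≠ 0 := fun h => by
    have h' : j0 = 0 := by
      have := Nat.eq_zero_of_dvd_of_lt ((ZMod.natCast_eq_zero_iff j0 p).1 h) hj0
      exact this
    rw [h', pow_zero, pow_one] at hk2
    have := Nat.le_of_dvd one_pos (orderOf_dvd_of_pow_eq_one (show k ^ 1 = 1 by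
      rw [pow_one]; rw [pow_two] at hk2; exact mul_eq_left.1 hk2))
    omega
  set i := ((j : ZMod p) / (j0 : ZMod p)).val with hi
  have hmod : (j0 * i) % p = j := by
    have h : ((j0 * i : ℕ) : ZMod p) = (j : ZMod p) := by
      rw [Nat.cast_mul, hi, ZMod.natCast_zmod_val, mul_div_cancel₀ _ hj00]
    have := congrArg ZMod.val h
    rwa [ZMod.val_natCast, ZMod.val_natCast, Nat.mod_eq_of_lt hj] at this
  refine ⟨i, ZMod.val_lt _, ?_⟩
  have hkk : k ^ l = k ^ 2 ^ i := by rw [hkl, hiter, hper (j0 * i), hmod]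
  have h := pow_eq_pow_iff_modEq.1 hkk
  rw [hk1] at h
  have hlt : 2 ^ i < 2 ^ p - 1 := by
    have h2 : 2 * 2 ^ i ≤ 2 ^ p := by
      rw [← pow_succ']; exact Nat.pow_le_pow_right (by norm_num) (ZMod.val_lt _)
    omega
  exact (show l % (2 ^ p - 1) = 2 ^ i % (2 ^ p - 1) from h).trans (Nat.mod_eq_of_lt hlt)

end SmallData

end Cfsg.Lib.BenderSuzuki
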