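import Cfsg.Agent.BenderSuzuki.AlphaLarge

/-!
An element of prime order `p` outside the centraliser of the involutions centralising only one of them:
`q = 2 ^ p` and the shape of `C_D(t)`.
-/

set_option autoImplicit false
set_option linter.unusedSectionVars false
set_option linter.style.haveILetI false

namespace Cfsg.Lib.BenderSuzuki

open MulAction Cfsg.Lib.RankOne
open scoped _root_.Classical

universe u v

variable {G : Type u} {Ω : Type v} [Group G] [Finite G] [MulAction G Ω] {a : Ω} {t : G} {Q : Subgroup G}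

/-- The situation where exactly one involution `s` fixing `a` is centralised. -/
structure SmallData (G : Type u) (Ω : Type v) [Group G] [Finite G] [MulAction G Ω] (a : Ω) (t : G) (Q : Subgroup G)
    (k w s : G) (p : ℕ) : Prop extends WData G Ω a t Q k w p where
  s_mem : s ∈ invl G a
  s_comm : ∀ x ∈ centT Ω a t, Commute x s
  s_only : ∀ z ∈ invl G a, Commute w z → z = s

namespace SmallData

open Alpha

variable {k w s : G} {p : ℕ} (B : SmallData G Ω a t Q k w s p)

include B

theorem card_zw : Nat.card ↥(zGroup B.simple ⊓ Subgroup.centralizer {w}) = 2 := by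
  rw [card_cent_zGroup B.simple, Nat.card_eq_one_iff_unique.2 ⟨⟨fun x y => Subtype.ext ((B.s_only _ x.2.1 x.2.2).trans
    (B.s_only _ y.2.1 y.2.2).symm)⟩, ⟨⟨s, B.s_mem, B.s_comm w B.mem⟩⟩⟩]

theorem qNum_two : qNum G a = 2 ^ p := by rw [B.qNum_eq, B.card_zw]

theorem p_odd : Odd p := by
  rw [← B.order]
  exact orderOf_odd_mem B.simple.setup.odd_card (Subgroup.mem_inf.1 B.mem).1

theorem three_le : 3 ≤ p := by
  have := B.prime.two_le
  obtain ⟨j, hj⟩ := B.p_odd
  omega

theorem eight_le : 8 ≤ qNum G a := by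
  rw [B.qNum_two]
  calc 8 = 2 ^ 3 := rfl
    _ ≤ _ := Nat.pow_le_pow_right (by norm_num) B.three_le

theorem card_invK : Nat.card (Subgroup.zpowers k) = 2 ^ p - 1 := by
  have h := swap_card B.simple.setup
  rw [← B.qNum_two, qNum, Nat.add_sub_cancel, ← h]
  exact Nat.card_congr (Equiv.subtypeEquivRight fun g => (B.gen.mem_iff g).symm)

/-- Only the trivial inverted element commutes with `w`. -/
theorem inv_free {g : G} (hg : g ∈ invK Ω a t) (hc : Commute g w) : g = 1 := by
  have hz : g⁻¹ * s * g ∈ invl G a := by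
    have := conj_invol B.simple.setup (x := g⁻¹)
      (inv_smul_eq_iff.2 (Subgroup.mem_inf.1 hg.1).1.symm) B.s_mem
    rwa [inv_inv] at this
  have he : g⁻¹ * s * g = s := B.s_only _ hz
    ((hc.symm.inv_right.mul_right (B.s_comm w B.mem)).mul_right hc.symm)
  have h1 : (1 : G) ∈ invK Ω a t := ⟨one_mem _, by simp⟩
  exact conj_inj B.simple.setup B.s_mem hg h1 (by rw [he]; simp)

/-- The two-point stabiliser meets the centraliser of `w` in `C_D(t)`. -/
theorem centD_le {d : G} (hd : d ∈ twoStab Ω a t) (hc : Commute d w) : d ∈ centT Ω a t := by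
  obtain ⟨⟨x, g⟩, ⟨hx, hg, e⟩, huniq⟩ := factor B.simple.setup.mul_self B.simple.setup.odd_card
    (fun y hy => conj_D B.simple.setup hy) hd
  simp only at hx hg e
  have hwD := (Subgroup.mem_inf.1 B.mem).1
  have hwg : w * g * w⁻¹ ∈ invK Ω a t := by
    refine (B.gen.mem_iff _).2 ?_
    obtain ⟨i, rfl⟩ := Subgroup.mem_zpowers_iff.1 ((B.gen.mem_iff g).1 hg)
    rw [← conj_zpow]
    exact zpow_mem (B.gen.norm w hwD) i
  have h := huniq (w * x * w⁻¹, w * g * w⁻¹) ⟨mul_mem (mul_mem B.mem hx) (inv_mem B.mem), hwg, by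
    show d = w * x * w⁻¹ * (w * g * w⁻¹)
    calc d = d * w * w⁻¹ := by group
      _ = w * d * w⁻¹ := by rw [hc.eq]
      _ = _ := by rw [e]; group⟩
  have hgw : Commute g w := (mul_inv_eq_iff_eq_mul.1 (congrArg Prod.snd h)).symm
  rw [e, B.inv_free hg hgw, mul_one]
  exact hx

/-- A multiplier outside the centraliser of the involutions has order `p` modulo it. -/
theorem pow_p_mem {x : G} (hx : x ∈ centT Ω a t) : x ^ p ∈ centI Ω a t := by
  by_cases hxI : x ∈ centI Ω a t
  · exact pow_mem hxI p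
  have hex : ∃ d, 0 < d ∧ x ^ d ∈ centI Ω a t := ⟨orderOf x, orderOf_pos x, by rw [pow_orderOf_eq_one]; exact one_mem _⟩
  set m := Nat.find hex with hm
  obtain ⟨hm0, hmI⟩ := Nat.find_spec hex
  have hxa := centT_fix hx
  have hq := Alpha.card_fix_pow B.gen B.simple (zGroup_le B.simple) (zGroup_normalizer B.simple B.gen.fix_a) hx
    (zGroup_normalizer B.simple hxa) hm0 (fun y hy => by
      rcases hy with rfl | hy
      · exact Commute.one_right _
      · exact (Subgroup.mem_centralizer_iff.1 (Subgroup.mem_inf.1 hmI).2 y hy).symm)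
    fun d hd hdm hdI => Nat.find_min hex hdm ⟨hd, hdI⟩
  rw [card_zGroup B.simple, B.qNum_two] at hq
  obtain ⟨e, he⟩ := cent_zGroup_pow_two B.simple (Subgroup.centralizer {x})
  have h2 := two_le_cent_zGroup B.simple hx
  rw [he] at hq h2
  rw [← pow_mul] at hq
  have hpe : p = e * m := Nat.pow_right_injective le_rfl hq
  have hm1 : m ≠ 1 := fun h1 => hxI (by rw [← pow_one x, ← h1]; exact hmI)
  have : m = p := ((Nat.dvd_prime B.prime).1 ⟨e, by rw [hpe, mul_comm]⟩).resolve_left hm1
  rw [← this]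
  exact hmI

/-- The action on the inverted elements. -/
noncomputable def rho : twoStab Ω a t →* MulAut (Subgroup.zpowers k) :=
  (Subgroup.zpowers k).normalizerMonoidHom.comp (Subgroup.inclusion fun d hd =>
    mem_normalizer_of_conj (H := Subgroup.zpowers k) (g := d) (by
      intro x hx
      obtain ⟨i, rfl⟩ := Subgroup.mem_zpowers_iff.1 hx
      rw [← conj_zpow]
      exact zpow_mem (B.gen.norm d hd) i))

theorem rho_comm (e f : MulAut (Subgroup.zpowers k)) : e * f = f * e :=
  (IsCyclic.mulAutMulEquiv (Subgroup.zpowers k)).injective (by rw [map_mul, map_mul, mul_comm])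

theorem rho_eq_one_iff {d : twoStab Ω a t} : B.rho d = 1 ↔ Commute (d : G) k := by
  constructor
  · intro h
    have h1 := congrArg (fun e : MulAut (Subgroup.zpowers k) =>
      ((e ⟨k, Subgroup.mem_zpowers k⟩ : Subgroup.zpowers k) : G)) h
    exact mul_inv_eq_iff_eq_mul.1 (h1 : (d : G) * k * (d : G)⁻¹ = k)
  · intro h
    refine MulEquiv.ext fun x => Subtype.ext ?_
    show (d : G) * (x : G) * (d : G)⁻¹ = (x : G)
    obtain ⟨i, hi⟩ := Subgroup.mem_zpowers_iff.1 x.2
    rw [← hi, (h.zpow_right i).eq, mul_inv_cancel_right]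

theorem card_centT : Nat.card (centT Ω a t) = p * Nat.card (centI Ω a t) := by
  obtain ⟨v, hv, hsup⟩ := centralizer_quotient_cyclic B.simple.setup B.simple.two
  let f : centT Ω a t →* MulAut (Subgroup.zpowers k) := B.rho.comp (Subgroup.inclusion inf_le_left)
  have hker : f.ker = (centI Ω a t).subgroupOf (centT Ω a t) := by
    ext x
    rw [MonoidHom.mem_ker, Subgroup.mem_subgroupOf, mem_centI_iff B.gen B.simple x.2]
    exact B.rho_eq_one_iff
  have hrange : f.range = Subgroup.zpowers (f ⟨v, hv⟩) := by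
    refine le_antisymm ?_ (Subgroup.zpowers_le.2 ⟨_, rfl⟩)
    rintro _ ⟨x, rfl⟩
    have hx : (x : G) ∈ (twoStab Ω a t ⊓ Subgroup.centralizer {t} ⊓
        Subgroup.centralizer (Cfsg.invertedBy (twoStab Ω a t) t)) ⊔ Subgroup.closure {v} := by rw [hsup]; exact x.2
    suffices h : twoStab Ω a t ⊓ Subgroup.centralizer {t} ⊓
        Subgroup.centralizer (Cfsg.invertedBy (twoStab Ω a t) t) ⊔ Subgroup.closure {v} ≤
        ((Subgroup.zpowers (f ⟨v, hv⟩)).comap f).map (centT Ω a t).subtype by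
      obtain ⟨y, hy, e⟩ := h hx
      rw [← Subtype.ext e]; exact hy
    refine sup_le (fun y hy => ?_) ((Subgroup.closure_le _).2 (Set.singleton_subset_iff.2
      ⟨⟨v, hv⟩, Subgroup.mem_zpowers _, rfl⟩))
    have hyT : y ∈ centT Ω a t := (Subgroup.mem_inf.1 hy).1
    have h1 : f ⟨y, hyT⟩ = 1 := MonoidHom.mem_ker.1 (hker ▸ (Subgroup.mem_subgroupOf.2
      ((cent_all B.simple.setup).le hy) : (⟨y, hyT⟩ : centT Ω a t) ∈ (centI Ω a t).subgroupOf (centT Ω a t)))
    exact ⟨⟨y, hyT⟩, by rw [SetLike.mem_coe, Subgroup.mem_comap, h1]; exact one_mem _, rfl⟩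
  have hp' : f ⟨v, hv⟩ ^ p = 1 := by
    rw [← map_pow, ← MonoidHom.mem_ker, hker, Subgroup.mem_subgroupOf]
    exact B.pow_p_mem hv
  have hne : f ⟨v, hv⟩ ≠ 1 := fun h1 => B.not_mem (by
    have hw : f ⟨w, B.mem⟩ ∈ f.range := ⟨_, rfl⟩
    rw [hrange, h1, Subgroup.zpowers_one_eq_bot, Subgroup.mem_bot, ← MonoidHom.mem_ker, hker,
      Subgroup.mem_subgroupOf] at hw
    exact hw)
  haveI := Fact.mk B.prime
  have h := f.ker.card_mul_index
  rw [Subgroup.index_ker, hrange, Nat.card_zpowers, orderOf_eq_prime hp' hne, hker,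
    Nat.card_congr (Subgroup.subgroupOfEquivOfLe (centI_le B.simple)).toEquiv] at h
  rw [← h, mul_comm]

/-- The transfer of `w` to the automorphisms of the inverted elements: `p` divides `n + 1`. -/
theorem p_dvd (hyw : ∃ y ∈ Q, y ≠ 1 ∧ Commute y w) : p ∣ Nat.card Q + 1 := by
  haveI := finite_pts B.simple.setup
  have hS := B.simple.setup
  have hproj : ∀ g : stabilizer G a, ∃ d : twoStab Ω a t, (g : G) * (d : G)⁻¹ ∈ Q := fun g => by
    obtain ⟨q, hq, d, hd, e⟩ := qd hS g.2
    exact ⟨⟨d, hd⟩, by rw [e, mul_inv_cancel_right]; exact hq⟩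
  choose π hπ using hproj
  have hπu : ∀ (g : stabilizer G a) (d : twoStab Ω a t), (g : G) * (d : G)⁻¹ ∈ Q → π g = d := fun g d hd => by
    have h : (d : G) * (π g : G)⁻¹ ∈ Q ⊓ stabilizer G (t • a) := by
      refine ⟨?_, (stabilizer G (t • a)).mul_mem (Subgroup.mem_inf.1 d.2).2
        ((stabilizer G (t • a)).inv_mem (Subgroup.mem_inf.1 (π g).2).2)⟩
      have := Q.mul_mem (Q.inv_mem hd) (hπ g)
      rwa [show ((g : G) * (d : G)⁻¹)⁻¹ * ((g : G) * (π g : G)⁻¹) = (d : G) * (π g : G)⁻¹ by group] at this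
    rw [hS.inf_eq_bot, Subgroup.mem_bot, mul_inv_eq_one] at h
    exact (Subtype.ext h).symm
  letI : CommGroup (MulAut (Subgroup.zpowers k)) :=
    { (inferInstance : Group (MulAut (Subgroup.zpowers k))) with mul_comm := B.rho_comm }
  let ψ : stabilizer G a →* MulAut (Subgroup.zpowers k) := MonoidHom.mk' (fun g => B.rho (π g)) fun g h => by
    rw [← map_mul]
    refine congrArg B.rho (hπu _ _ ?_)
    have hgQ := hS.conj_mem (π g) (Subgroup.mem_inf.1 (π g).2).1 _ (hπ h)
    have := Q.mul_mem (hπ g) hgQ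
    convert this using 1
    simp only [Subgroup.coe_mul]
    group
  have hwS : w ∈ stabilizer G a := B.fix_a
  have hψw : ψ ⟨w, hwS⟩ ≠ 1 := fun h => B.not_mem ((mem_centI_iff B.gen B.simple B.mem).2 (by
    have e : π ⟨w, hwS⟩ = ⟨w, (Subgroup.mem_inf.1 B.mem).1⟩ := hπu _ _ (by
      show w * w⁻¹ ∈ Q
      rw [mul_inv_cancel]; exact one_mem Q)
    have h' : B.rho (π ⟨w, hwS⟩) = 1 := h
    rw [e] at h'
    exact B.rho_eq_one_iff.1 h'))
  haveI := B.simple.simple
  have hnab : ¬ ∀ x y : G, x * y = y * x := fun hab => by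
    obtain ⟨y, hy, hy1, -⟩ := hyw
    refine ta_ne hS ?_
    exact fix_only hS hy hy1 (show y • t • a = t • a by rw [← mul_smul, hab, mul_smul, fix_a hS hy])
  -- the transfer is trivial
  let T := MonoidHom.transfer ψ
  have hT : T w = 1 := by
    rcases T.normal_ker.eq_bot_or_eq_top with h | h
    · exact absurd (fun x y : G => (MonoidHom.ker_eq_bot_iff T).1 h (by rw [map_mul, map_mul, mul_comm])) hnab
    · exact MonoidHom.mem_ker.1 (h ▸ trivial : w ∈ T.ker)
  letI := Fintype.ofFinite (Quotient (orbitRel (Subgroup.zpowers w) (G ⧸ stabilizer G a)))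
  rw [MonoidHom.transfer_eq_prod_quotient_orbitRel_zpowers_quot] at hT
  have hper : ∀ q : G ⧸ stabilizer G a, Function.minimalPeriod (w • ·) q = 1 ∨
      Function.minimalPeriod (w • ·) q = p := fun q =>
    (Nat.dvd_prime B.prime).1 (Function.IsPeriodicPt.minimalPeriod_dvd (by
      show (fun z => w • z)^[p] q = q
      rw [smul_iterate, B.pow_p]
      exact one_smul G q))
  have hterm : ∀ q : Quotient (orbitRel (Subgroup.zpowers w) (G ⧸ stabilizer G a)),
      ψ ⟨q.out.out⁻¹ * w ^ Function.minimalPeriod (w • ·) q.out * q.out.out,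
        QuotientGroup.out_conj_pow_minimalPeriod_mem (stabilizer G a) w q.out⟩ =
      ψ ⟨w, hwS⟩ ^ (if Function.minimalPeriod (w • ·) q.out = 1 then 1 else 0) := by
    intro q
    set g := q.out.out with hg
    have hmem := QuotientGroup.out_conj_pow_minimalPeriod_mem (stabilizer G a) w q.out
    rw [← hg] at hmem
    rcases hper q.out with h1 | h1
    · rw [if_pos h1, pow_one]
      rw [h1, pow_one] at hmem
      have hfix : (g⁻¹ * w * g) • a = a := hmem
      have hwga : w • g • a = g • a := by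
        rwa [mul_smul, mul_smul, inv_smul_eq_iff] at hfix
      obtain ⟨y, hy, hy1, hyw'⟩ := hyw
      have hX : ({w} : Set G) ⊆ (twoStab Ω a t : Set G) := Set.singleton_subset_iff.2 (Subgroup.mem_inf.1 B.mem).1
      have fa : FixX Ω {w} a := fun x hx => by rw [Set.mem_singleton_iff.1 hx]; exact B.fix_a
      have fta : FixX Ω {w} (t • a) := fun x hx => by
        rw [Set.mem_singleton_iff.1 hx]; exact (Subgroup.mem_inf.1 (Subgroup.mem_inf.1 B.mem).1).2
      have fy : FixX Ω {w} (y • t • a) := fun x hx => by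
        rw [Set.mem_singleton_iff.1 hx, ← mul_smul, ← hyw'.eq, mul_smul, fta w rfl]
      have fg : FixX Ω {w} (g • a) := fun x hx => by rw [Set.mem_singleton_iff.1 hx]; exact hwga
      have hya : y • t • a ≠ a := fun h => ta_ne hS (MulAction.injective y (h.trans (fix_a hS hy).symm))
      have hyt : y • t • a ≠ t • a := fun h => ta_ne hS (fix_only hS hy hy1 h)
      have h3 : ∃ b c d : Ω, b ≠ c ∧ b ≠ d ∧ c ≠ d ∧ FixX Ω {w} b ∧ FixX Ω {w} c ∧ FixX Ω {w} d :=
        ⟨a, t • a, y • t • a, (ta_ne hS).symm, hya.symm, hyt.symm, fa, fta, fy⟩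
      obtain ⟨c, hc, hca⟩ : ∃ c ∈ Subgroup.centralizer {w}, c • a = g • a := by
        rcases eq_or_ne (g • a) (t • a) with he | he
        · obtain ⟨c, hc, h1', -⟩ := fix_two_trans hS hX h3 fa fta fg fa (ta_ne hS).symm (by rw [he]; exact ta_ne hS)
          exact ⟨c, hc, h1'⟩
        · obtain ⟨c, hc, h1', -⟩ := fix_two_trans hS hX h3 fa fta fg fta (ta_ne hS).symm he
          exact ⟨c, hc, h1'⟩
      have hh : c⁻¹ * g ∈ stabilizer G a := by
        show (c⁻¹ * g) • a = a
        rw [mul_smul, ← hca, inv_smul_smul]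
      have e : (⟨g⁻¹ * w ^ Function.minimalPeriod (w • ·) q.out * g, by rw [h1, pow_one]; exact hmem⟩ :
          stabilizer G a) = (⟨_, hh⟩ : stabilizer G a)⁻¹ * ⟨w, hwS⟩ * ⟨_, hh⟩ := Subtype.ext (by
        show g⁻¹ * w ^ Function.minimalPeriod (w • ·) q.out * g = (c⁻¹ * g)⁻¹ * w * (c⁻¹ * g)
        rw [h1, pow_one, show (c⁻¹ * g)⁻¹ * w * (c⁻¹ * g) = g⁻¹ * (c * w * c⁻¹) * g by group,
          Subgroup.mem_centralizer_singleton_iff.1 hc, mul_inv_cancel_right])
      rw [e, map_mul, map_mul, map_inv, mul_comm, ← mul_assoc, mul_inv_cancel, one_mul]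
    · rw [if_neg (by rw [h1]; exact B.prime.ne_one), pow_zero]
      exact (congrArg ψ (Subtype.ext (by
        show g⁻¹ * w ^ Function.minimalPeriod (w • ·) q.out * g = 1
        rw [h1, B.pow_p, mul_one, inv_mul_cancel]))).trans (map_one ψ)
  rw [Finset.prod_congr rfl fun q _ => hterm q, Finset.prod_pow_eq_pow_sum] at hT
  have hdvd := orderOf_dvd_of_pow_eq_one hT
  rw [orderOf_eq_prime (hp := ⟨B.prime⟩) (by
    rw [← map_pow]
    exact (congrArg ψ (Subtype.ext B.pow_p)).trans (map_one ψ)) hψw] at hdvd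
  haveI : IsPretransitive G Ω := ⟨trans₁ hS⟩
  have hidx := Subgroup.index_eq_sum_minimalPeriod (stabilizer G a) w
  rw [MulAction.index_stabilizer_of_transitive, card_pts hS] at hidx
  rw [hidx]
  obtain ⟨j, hj⟩ := hdvd
  have hsplit : ∀ q : Quotient (orbitRel (Subgroup.zpowers w) (G ⧸ stabilizer G a)),
      Function.minimalPeriod (w • ·) q.out = (if Function.minimalPeriod (w • ·) q.out = 1 then 1 else 0) +
        p * (if Function.minimalPeriod (w • ·) q.out = 1 then 0 else 1) := fun q => by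
    rcases hper q.out with h1 | h1
    · simp [h1]
    · rw [if_neg (by rw [h1]; exact B.prime.ne_one), if_neg (by rw [h1]; exact B.prime.ne_one), h1, zero_add, mul_one]
  rw [Finset.sum_congr rfl fun q _ => hsplit q, Finset.sum_add_distrib, ← Finset.mul_sum, hj]
  exact dvd_add (dvd_mul_right _ _) (dvd_mul_right _ _)

end SmallData

end Cfsg.Lib.BenderSuzuki
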