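import Cfsg.Agent.BenderSuzuki.Defs

/-!
The steps of the classification of rank one groups in characteristic two, as propositions.
-/

set_option autoImplicit false

namespace Cfsg.Lib.BenderSuzuki

open MulAction Cfsg.Lib.RankOne

universe u v

/-- Passing to the simple group generated by the involutions. -/
def ReduceStep : Prop :=
  ∀ {G : Type u} {Ω : Type v} [Group G] [Finite G] [MulAction G Ω] [FaithfulSMul G Ω] {a : Ω} {t : G}
    {Q : Subgroup G}, Cfsg.IsRankOneSetup G Ω a t Q →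
    (∃ x y : G, x ≠ 1 ∧ y ≠ 1 ∧ x ≠ y ∧ x * x = 1 ∧ y * y = 1 ∧ x * y = y * x) →
    ∃ (L : Subgroup G) (ht : t ∈ L), L.Normal ∧ Odd L.index ∧ Q ≤ L ∧
      Simple L Ω a ⟨t, ht⟩ (Q.subgroupOf L)

/-- The centraliser of a nontrivial element of `C_D(t)` with at least three involutions in `G_a`. -/
def CentStep : Prop :=
  ∀ {G : Type u} {Ω : Type v} [Group G] [Finite G] [MulAction G Ω] {a : Ω} {t : G} {Q : Subgroup G},
    Simple G Ω a t Q → IH.{u, v} (Nat.card G) → ∀ x ∈ centT Ω a t, x ≠ 1 → ∀ q₀ : ℕ,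
    Nat.card {z // z ∈ invl G a ∧ Commute x z} + 1 = q₀ → 4 ≤ q₀ →
    (CaseL a t Q → Nat.card ↥(Q ⊓ Subgroup.centralizer {x}) = q₀ ∨
      (Nat.card ↥(Q ⊓ Subgroup.centralizer {x}) = q₀ ^ 3 ∧ NonAb (Q ⊓ Subgroup.centralizer {x}) ∧
        (∀ y ∈ Q ⊓ Subgroup.centralizer {x}, y * y ≠ 1 → ∀ z ∈ invl G a, Commute x z →
          ∃ y' ∈ Q ⊓ Subgroup.centralizer {x}, y * y' * y⁻¹ * y'⁻¹ = z) ∧
        ∃ d ∈ centT Ω a t, Commute d x ∧ (∀ z ∈ invl G a, Commute x z → Commute d z) ∧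
          ∃ y ∈ Q ⊓ Subgroup.centralizer {x}, ¬ Commute d y)) ∧
    (¬ CaseL a t Q → Nat.card ↥(Q ⊓ Subgroup.centralizer {x}) = q₀ ^ 2 ∧
      NonAb (Q ⊓ Subgroup.centralizer {x}))

/-- The degree equation for a nonlinear exceptional character when `D` acts without fixed points on the
odd part of `Q`. -/
def DegBStep : Prop :=
  ∀ {G : Type u} {Ω : Type v} [Group G] [Finite G] [MulAction G Ω] {a : Ω} {t : G} {Q : Subgroup G},
    Simple G Ω a t Q → centT Ω a t ≠ ⊥ →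
    (∀ d ∈ twoStab Ω a t, d ≠ 1 → ∀ x ∈ Q, Odd (orderOf x) → Commute d x → x = 1) →
    (∀ x ∈ Q, ∀ j : ℕ, x ^ 2 ^ j = 1 → x * x * (x * x) = 1) →
    ∀ g o : ℕ, (∃ j : ℕ, g = 2 ^ j) → Odd o → Nat.card Q = qNum G a * g * o →
    ∃ c P T : ℤ, 1 ≤ c ∧ c ≤ g ∧ ((qNum G a : ℤ) - 1 ∣ c - 1) ∧ 0 ≤ P ∧ P ≤ g ∧ 0 ≤ T ∧ T ≤ (o : ℤ) - 1 ∧
      ((Nat.card (twoStab Ω a t) : ℤ) ∣ T) ∧ ((Nat.card (twoStab Ω a t) : ℤ) ∣ (o : ℤ) - 1) ∧
      P + g * T ≠ 0 ∧ P + g * T ≠ g * o ∧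
      (c - P) * (c - P - 1) * (g * o) = (qNum G a : ℤ) * (P + g * T) * (g * o - (P + g * T)) ∧
      ((∀ d ∈ twoStab Ω a t, d ≠ 1 → ∀ x ∈ Q, ∀ j : ℕ, x ^ 2 ^ j = 1 →
          d * x * d⁻¹ * x⁻¹ * (d * x * d⁻¹ * x⁻¹) = 1 → x * x = 1) → c = 1 ∨ c = g) ∧
      ((∀ x ∈ Q, ∀ j : ℕ, x ^ 2 ^ j = 1 → x * x ≠ 1 → ∀ z ∈ invl G a, ∃ y ∈ Q, x * y * x⁻¹ * y⁻¹ = z) →
        g = qNum G a ^ 2 → (qNum G a : ℤ) ∣ P)

/-- The degree equation when `Q` is commutative and `C_D(t)` has prime order and acts fixed point freely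
on the inverted elements. -/
def DegAStep : Prop :=
  ∀ {G : Type u} {Ω : Type v} [Group G] [Finite G] [MulAction G Ω] {a : Ω} {t : G} {Q : Subgroup G},
    Simple G Ω a t Q → (∀ x ∈ Q, ∀ y ∈ Q, x * y = y * x) → ∀ w : G, (orderOf w).Prime →
    centT Ω a t = Subgroup.zpowers w → (∀ k ∈ invK Ω a t, Commute k w → k = 1) →
    ∀ m : ℕ, Nat.card Q = qNum G a * m →
    ∃ A e : ℤ, 1 ≤ e ∧ e < Nat.card ↥(Q ⊓ Subgroup.centralizer {w}) ∧
      A * (A - 1) * m = (qNum G a : ℤ) * e * (m - e)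

/-- An element of prime order of `C_D(t)` outside the centraliser of the involutions. -/
def AlphaStep : Prop :=
  ∀ {G : Type u} {Ω : Type v} [Group G] [Finite G] [MulAction G Ω] {a : Ω} {t : G} {Q : Subgroup G},
    Simple G Ω a t Q → IH.{u, v} (Nat.card G) → ∀ w ∈ centT Ω a t, (orderOf w).Prime → w ∉ centI Ω a t →
    Dich a t Q

/-- No such element, and a nontrivial centraliser of the involutions. -/
def BetaStep : Prop :=
  ∀ {G : Type u} {Ω : Type v} [Group G] [Finite G] [MulAction G Ω] {a : Ω} {t : G} {Q : Subgroup G},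
    Simple G Ω a t Q → IH.{u, v} (Nat.card G) →
    (∀ w ∈ centT Ω a t, (orderOf w).Prime → w ∈ centI Ω a t) → centI Ω a t ≠ ⊥ → Dich a t Q

/-- The case of a Zassenhaus group. -/
def GammaStep : Prop :=
  ∀ {G : Type u} {Ω : Type v} [Group G] [Finite G] [MulAction G Ω] {a : Ω} {t : G} {Q : Subgroup G},
    Simple G Ω a t Q → centT Ω a t = ⊥ → Dich a t Q

/-- `|Q| = q`. -/
def LinearStep : Prop :=
  ∀ {G : Type u} {Ω : Type v} [Group G] [Finite G] [MulAction G Ω] {a : Ω} {t : G} {Q : Subgroup G},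
    Simple G Ω a t Q → CaseL a t Q → Nat.card Q = qNum G a → Ident G

/-- `|Q| = q ^ 2`. -/
def SuzukiStep : Prop :=
  ∀ {G : Type u} {Ω : Type v} [Group G] [Finite G] [MulAction G Ω] {a : Ω} {t : G} {Q : Subgroup G},
    Simple G Ω a t Q → ¬ CaseL a t Q → Nat.card Q = qNum G a ^ 2 → NonAb Q → Ident G

/-- `|Q| = q ^ 3`. -/
def UnitaryStep : Prop :=
  ∀ {G : Type u} {Ω : Type v} [Group G] [Finite G] [MulAction G Ω] {a : Ω} {t : G} {Q : Subgroup G},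
    Simple G Ω a t Q → IH.{u, v} (Nat.card G) → CaseL a t Q → Nat.card Q = qNum G a ^ 3 → NonAb Q →
    centI Ω a t ≠ ⊥ → Nondeg a Q ∧ Ident G

end Cfsg.Lib.BenderSuzuki
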