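import Cfsg.Agent.BenderSuzuki.RootGroup
import Cfsg.Agent.BenderSuzuki.Steps
import Cfsg.Agent.S1132
import Cfsg.Agent.S1137
import Cfsg.Agent.S1138

/-!
The centraliser of the involutions: its action on `Q` and the possible Sylow `2`-subgroups of `Q`.
-/

set_option autoImplicit false
set_option linter.style.haveILetI false

namespace Cfsg.Lib.BenderSuzuki

open MulAction Cfsg.Lib.RankOne

universe u v

theorem conj_iterate {M : Type*} [Group M] {w x y : M} (hc : Commute w x) (h : w * y * w⁻¹ = x * y) (i : ℕ) :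
    w ^ i * y * (w ^ i)⁻¹ = x ^ i * y := by
  induction i with
  | zero => simp
  | succ i ih =>
    calc w ^ (i + 1) * y * (w ^ (i + 1))⁻¹ = w ^ i * (w * y * w⁻¹) * (w ^ i)⁻¹ := by rw [pow_succ]; group
      _ = w ^ i * (x * y) * (w ^ i)⁻¹ := by rw [h]
      _ = (w ^ i * x) * (w ^ i)⁻¹ * (w ^ i * y * (w ^ i)⁻¹) := by group
      _ = x * (x ^ i * y) := by rw [(hc.pow_left i).eq, mul_inv_cancel_right, ih]
      _ = _ := by rw [pow_succ']; group

/-- An element of odd order moving `y` by a `2`-element which it centralises does not move it. -/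
theorem eq_one_of_conj {M : Type*} [Group M] {w x y : M} (hw : Odd (orderOf w)) (hc : Commute w x)
    (h : w * y * w⁻¹ = x * y) {j : ℕ} (hx : x ^ 2 ^ j = 1) : x = 1 := by
  have h1 := conj_iterate hc h (orderOf w)
  rw [pow_orderOf_eq_one, inv_one, mul_one, one_mul, eq_comm, mul_eq_right] at h1
  have h2 := pow_gcd_eq_one.2 ⟨hx, h1⟩
  rwa [(Nat.coprime_two_left.2 hw).pow_left j, pow_one] at h2

variable {G : Type u} {Ω : Type v} [Group G] [Finite G] [MulAction G Ω] {a : Ω} {t : G} {Q : Subgroup G}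

theorem centI_le_centT (hS : Cfsg.IsRankOneSetup G Ω a t Q) : centI Ω a t ≤ centT Ω a t :=
  (cent_all hS).symm.le.trans inf_le_left

theorem centI_commute_invK (hS : Cfsg.IsRankOneSetup G Ω a t Q) {w k : G} (hw : w ∈ centI Ω a t)
    (hk : k ∈ invK Ω a t) : Commute k w :=
  Subgroup.mem_centralizer_iff.1 (Subgroup.mem_inf.1 ((cent_all hS).symm.le hw)).2 k hk

omit [Finite G] in
theorem centI_commute {w z : G} (hw : w ∈ centI Ω a t) (hz : z ∈ invl G a) : Commute w z :=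
  (Subgroup.mem_centralizer_iff.1 (Subgroup.mem_inf.1 hw).2 z hz).symm

theorem centI_commute_zGroup (hs : Simple G Ω a t Q) {w z : G} (hw : w ∈ centI Ω a t) (hz : z ∈ zGroup hs) :
    Commute w z := by
  rcases (mem_zGroup hs).1 hz with rfl | h
  · exact Commute.one_right w
  · exact centI_commute hw h

theorem zGroup_le_cent (hs : Simple G Ω a t Q) {w : G} (hw : w ∈ centI Ω a t) :
    zGroup hs ≤ Q ⊓ Subgroup.centralizer {w} := fun _ hz => Subgroup.mem_inf.2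
  ⟨zGroup_le hs hz, Subgroup.mem_centralizer_singleton_iff.2 (centI_commute_zGroup hs hw hz).symm.eq⟩

theorem centI_conj (hS : Cfsg.IsRankOneSetup G Ω a t Q) {d w : G} (hd : d ∈ twoStab Ω a t)
    (hw : w ∈ centI Ω a t) : d * w * d⁻¹ ∈ centI Ω a t := by
  refine Subgroup.mem_inf.2 ⟨mul_mem (mul_mem hd (Subgroup.mem_inf.1 hw).1) (inv_mem hd),
    Subgroup.mem_centralizer_iff.2 fun z hz => ?_⟩
  have h := conj_invol hS (x := d⁻¹) (inv_smul_eq_iff.2 (Subgroup.mem_inf.1 hd).1.symm) hz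
  rw [inv_inv] at h
  calc z * (d * w * d⁻¹) = d * (d⁻¹ * z * d * w) * d⁻¹ := by group
    _ = d * (w * (d⁻¹ * z * d)) * d⁻¹ := by rw [(centI_commute hw h).eq]
    _ = _ := by group

/-- If the elements of prime order of `C_D(t)` centralise the involutions, then an element of `D` fixing a
nontrivial element of `Q` has a nontrivial power centralising the involutions. -/
theorem exists_centI_of_commute (hs : Simple G Ω a t Q)
    (hW : ∀ w ∈ centT Ω a t, (orderOf w).Prime → w ∈ centI Ω a t) {d y : G} (hd : d ∈ twoStab Ω a t)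
    (hd1 : d ≠ 1) (hy : y ∈ Q) (hy1 : y ≠ 1) (hc : Commute d y) :
    ∃ w ∈ centI Ω a t, w ≠ 1 ∧ Commute w y := by
  have hS := hs.setup
  obtain ⟨p, hp, hpd⟩ := Nat.exists_prime_and_dvd (n := orderOf d) (fun h => hd1 (orderOf_eq_one_iff.1 h))
  set x := d ^ (orderOf d / p) with hxdef
  have hox : orderOf x = p := orderOf_pow_orderOf_div (orderOf_pos d).ne' hpd
  have hxD : x ∈ twoStab Ω a t := Subgroup.pow_mem _ hd _
  have hx1 : x ≠ 1 := fun h => hp.ne_one (by rw [← hox, h, orderOf_one])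
  have hxy : Commute x y := hc.pow_left _
  obtain ⟨C, hC, -, hCn⟩ := inverted_subgroup hS hs.two
  obtain ⟨⟨w, k⟩, ⟨hw, hk, e⟩, -⟩ := factor hS.mul_self hS.odd_card (fun x hx => conj_D hS hx) hxD
  simp only at hw hk e
  have hw' : w ∈ centT Ω a t := hw
  have hkC : k ∈ C := (Set.ext_iff.1 hC k).2 hk
  have hmeet : ∀ g, g ∈ centT Ω a t → g ∈ C → g = 1 := by
    intro g hg hgC
    obtain ⟨hgD, hgi⟩ := (Set.ext_iff.1 hC g).1 hgC
    rw [← Subgroup.mem_centralizer_singleton_iff.1 (Subgroup.mem_inf.1 hg).2, mul_inv_cancel_right] at hgi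
    exact eq_one_of_odd_inv (orderOf_odd_mem hS.odd_card hgD) hgi.symm
  have hpow : ∀ i, ∃ c ∈ C, x ^ i = w ^ i * c := by
    intro i
    induction i with
    | zero => exact ⟨1, one_mem _, by simp⟩
    | succ i ih =>
      obtain ⟨c, hc, hi⟩ := ih
      refine ⟨w⁻¹ * c * w * k, mul_mem ?_ hkC, by rw [pow_succ, hi, e, pow_succ]; group⟩
      have := hCn w⁻¹ (inv_mem (Subgroup.mem_inf.1 hw').1) c hc
      rwa [inv_inv] at this
  have hwp : w ^ p = 1 := by
    obtain ⟨c, hc, hpc⟩ := hpow p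
    rw [← hox, pow_orderOf_eq_one, hox] at hpc
    refine hmeet _ (Subgroup.pow_mem _ hw' _) ?_
    rw [eq_inv_of_mul_eq_one_left hpc.symm]
    exact inv_mem hc
  have hwI : w ∈ centI Ω a t := by
    rcases eq_or_ne w 1 with rfl | h1
    · exact one_mem _
    · have := Fact.mk hp
      exact hW w hw' ((orderOf_eq_prime hwp h1).symm ▸ hp)
  rcases eq_or_ne k 1 with rfl | hk1
  · rw [mul_one] at e
    exact ⟨w, hwI, e ▸ hx1, e ▸ hxy⟩
  exfalso
  have hX : ({x} : Set G) ⊆ (twoStab Ω a t : Set G) := Set.singleton_subset_iff.2 hxD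
  have h3 : ∃ b c d : Ω, b ≠ c ∧ b ≠ d ∧ c ≠ d ∧ FixX Ω {x} b ∧ FixX Ω {x} c ∧ FixX Ω {x} d := by
    refine ⟨a, t • a, y • t • a, (ta_ne hS).symm,
      fun h => ta_ne hS (MulAction.injective y (h.symm.trans (fix_a hS hy).symm)), fun h => hy1 ?_, ?_, ?_, ?_⟩
    · obtain ⟨r, -, hr⟩ := regular hS (ta_ne hS) (ta_ne hS)
      exact congrArg Subtype.val ((hr ⟨y, hy⟩ h.symm).trans (hr 1 (one_smul _ _)).symm)
    all_goals
      intro z hz
      rw [Set.mem_singleton_iff.1 hz]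
    · exact (Subgroup.mem_inf.1 hxD).1
    · exact (Subgroup.mem_inf.1 hxD).2
    · rw [← mul_smul, hxy.eq, mul_smul, show x • t • a = t • a from (Subgroup.mem_inf.1 hxD).2]
  obtain ⟨g, hg, hgx⟩ := conj_into_t hS hX h3
  have hwg : g * w * g⁻¹ ∈ centT Ω a t := centI_le_centT hS (centI_conj hS hg hwI)
  have hkg : g * k * g⁻¹ ∈ C := hCn g hg k hkC
  have hxg : g * x * g⁻¹ ∈ centT Ω a t := Subgroup.mem_inf.2
    ⟨mul_mem (mul_mem hg hxD) (inv_mem hg), Subgroup.mem_centralizer_singleton_iff.2 (hgx x rfl)⟩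
  have hkg' : g * k * g⁻¹ ∈ centT Ω a t := by
    rw [show g * k * g⁻¹ = (g * w * g⁻¹)⁻¹ * (g * x * g⁻¹) by rw [e]; group]
    exact mul_mem (inv_mem hwg) hxg
  exact hk1 (by simpa using hmeet _ hkg' hkg)

/-- The Sylow `2`-subgroup of `Q`. -/
structure SylData (hs : Simple G Ω a t Q) (S : Subgroup G) (o : ℕ) : Prop where
  le : S ≤ Q
  mem_of_pow : ∀ x ∈ Q, ∀ j : ℕ, x ^ 2 ^ j = 1 → x ∈ S
  exists_pow : ∀ x ∈ S, ∃ j : ℕ, x ^ 2 ^ j = 1
  card : Nat.card Q = Nat.card S * o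
  odd : Odd o
  shape : (∀ x ∈ S, ∀ y ∈ S, x * y = y * x) ∨
    ((∀ x ∈ S, x * x ∈ zGroup hs) ∧ (∀ x ∈ S, ∀ y ∈ S, x⁻¹ * y⁻¹ * x * y ∈ zGroup hs) ∧ NonAb S ∧
      (Nat.card S = qNum G a ^ 2 ∨ Nat.card S = qNum G a ^ 3))

theorem exists_sylData (hs : Simple G Ω a t Q) : ∃ S o, SylData hs S o := by
  classical
  have hS := hs.setup
  haveI := Fact.mk Nat.prime_two
  haveI := nilpotent_Q hS hs.two
  haveI := hs.faithful
  obtain ⟨P⟩ : Nonempty (Sylow 2 Q) := inferInstance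
  haveI hPn : (P : Subgroup Q).Normal := by
    have h := ((Group.isNilpotent_of_finite_tfae (G := Q)).out 0 3).1 ‹_›
    exact h 2 inferInstance P
  haveI := Sylow.unique_of_normal P hPn
  have hmem : ∀ x : Q, ∀ j : ℕ, (x : G) ^ 2 ^ j = 1 → x ∈ (P : Subgroup Q) := by
    intro x j hj
    have hp : IsPGroup 2 (Subgroup.zpowers x) := by
      intro y
      obtain ⟨i, hi⟩ := Subgroup.mem_zpowers_iff.1 y.2
      refine ⟨j, Subtype.ext ?_⟩
      have hxj : x ^ 2 ^ j = 1 := Subtype.ext (by rw [SubgroupClass.coe_pow, hj]; rfl)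
      rw [SubgroupClass.coe_pow, ← hi, ← zpow_natCast, ← zpow_mul, mul_comm, zpow_mul, zpow_natCast, hxj, one_zpow]
      rfl
    obtain ⟨R, hR⟩ := hp.exists_le_sylow
    rw [Subsingleton.elim R P] at hR
    exact hR (Subgroup.mem_zpowers x)
  refine ⟨(P : Subgroup Q).map Q.subtype, (P : Subgroup Q).index, Subgroup.map_subtype_le _,
    fun x hx j hj => ⟨⟨x, hx⟩, hmem ⟨x, hx⟩ j hj, rfl⟩, ?_, ?_, ?_, ?_⟩
  · rintro _ ⟨x, hx, rfl⟩
    obtain ⟨j, hj⟩ := P.isPGroup' ⟨x, hx⟩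
    exact ⟨j, congrArg (fun z : (P : Subgroup Q) => ((z : Q) : G)) hj⟩
  · rw [Subgroup.card_subtype, Subgroup.card_mul_index]
  · rw [← Nat.not_even_iff_odd, even_iff_two_dvd]; exact P.not_dvd_index
  · rcases Cfsg.Agent.S1132.result hS hs.two P with h | h
    · refine Or.inl ?_
      rintro _ ⟨x, hx, rfl⟩ _ ⟨y, hy, rfl⟩
      exact congrArg (fun z : (P : Subgroup Q) => ((z : Q) : G)) (h.is_comm.comm ⟨x, hx⟩ ⟨y, hy⟩)
    · obtain ⟨hcen, hcen2⟩ := Cfsg.Agent.S1137.result h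
      obtain ⟨hsq, hcom, hcard, -⟩ := Cfsg.Agent.S1138.result h
      have hZ : ∀ z : (P : Subgroup Q), z ∈ Subgroup.center (P : Subgroup Q) → ((z : Q) : G) ∈ zGroup hs :=
        fun z hz => mem_zGroup_of_sq hs (z : Q).2 (congrArg (fun w : (P : Subgroup Q) => ((w : Q) : G)) (hcen2 z hz))
      refine Or.inr ⟨?_, ?_, ?_, ?_⟩
      · rintro _ ⟨x, hx, rfl⟩
        exact hZ _ (hsq ⟨x, hx⟩)
      · rintro _ ⟨x, hx, rfl⟩ _ ⟨y, hy, rfl⟩
        exact hZ _ (hcom ⟨x, hx⟩ ⟨y, hy⟩)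
      · obtain ⟨x, y, hxy⟩ := h.2.2.1
        exact ⟨(x : Q), ⟨x, x.2, rfl⟩, (y : Q), ⟨y, y.2, rfl⟩, fun e => hxy (Subtype.ext (Subtype.ext e))⟩
      have hc : Nat.card (Subgroup.center (P : Subgroup Q)) = qNum G a := by
        rw [← card_zGroup hs]
        refine Nat.card_eq_of_bijective (fun z => (⟨((z.1 : Q) : G), hZ z.1 z.2⟩ : zGroup hs)) ⟨fun x y e => ?_, ?_⟩
        · exact Subtype.ext (Subtype.ext (Subtype.ext (congrArg Subtype.val e :)))
        · intro z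
          have hz2 : (z : G) * z = 1 := involGroup_sq hS hs.two z.2
          have hzP : (⟨z, zGroup_le hs z.2⟩ : Q) ∈ (P : Subgroup Q) := hmem _ 1 (by rw [pow_one, pow_two]; exact hz2)
          refine ⟨⟨⟨⟨z, zGroup_le hs z.2⟩, hzP⟩, ?_⟩, rfl⟩
          rcases eq_or_ne (z : G) 1 with h1 | h1
          · rw [show (⟨⟨z, zGroup_le hs z.2⟩, hzP⟩ : (P : Subgroup Q)) = 1 from Subtype.ext (Subtype.ext h1)]
            exact one_mem _
          · exact ((hcen _).1 ⟨fun e => h1 (congrArg (fun w : (P : Subgroup Q) => ((w : Q) : G)) e),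
              Subtype.ext (Subtype.ext hz2)⟩).1
      rw [Subgroup.card_subtype, ← hc]
      exact hcard

/-- The centraliser in `Q` of a nontrivial element centralising the involutions is a `2`-group of known order. -/
theorem cent_centI (hc : CentStep.{u, v}) (hs : Simple G Ω a t Q) (hih : IH.{u, v} (Nat.card G)) {S : Subgroup G}
    {o : ℕ} (hd : SylData hs S o) {w : G} (hw : w ∈ centI Ω a t) (hw1 : w ≠ 1) :
    Q ⊓ Subgroup.centralizer {w} ≤ S ∧
      (CaseL a t Q → Nat.card ↥(Q ⊓ Subgroup.centralizer {w}) = qNum G a ∨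
        (Nat.card ↥(Q ⊓ Subgroup.centralizer {w}) = qNum G a ^ 3 ∧ NonAb (Q ⊓ Subgroup.centralizer {w}) ∧
          ∀ y ∈ Q ⊓ Subgroup.centralizer {w}, y * y ≠ 1 → ∀ z ∈ invl G a,
            ∃ y' ∈ Q ⊓ Subgroup.centralizer {w}, y * y' * y⁻¹ * y'⁻¹ = z)) ∧
      (¬ CaseL a t Q → Nat.card ↥(Q ⊓ Subgroup.centralizer {w}) = qNum G a ^ 2 ∧
        NonAb (Q ⊓ Subgroup.centralizer {w})) := by
  obtain ⟨k, hk2, hk⟩ := qNum_pow hs
  have hq4 : 4 ≤ qNum G a := by
    rw [hk]; exact (show 4 = 2 ^ 2 by norm_num) ▸ Nat.pow_le_pow_right (by norm_num) hk2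
  have hq0 : Nat.card {z // z ∈ invl G a ∧ Commute w z} + 1 = qNum G a := by
    rw [qNum, Nat.card_congr (Equiv.subtypeEquivRight fun z => ⟨fun h => h.1, fun h => ⟨h, centI_commute hw h⟩⟩ :
      {z // z ∈ invl G a ∧ Commute w z} ≃ invl G a)]
  obtain ⟨hL, hnL⟩ := hc hs hih w (centI_le_centT hs.setup hw) hw1 _ hq0 hq4
  refine ⟨fun y hy => ?_, fun h => (hL h).imp id fun ⟨h1, h2, h3, _⟩ =>
    ⟨h1, h2, fun y hy hy2 z hz => h3 y hy hy2 z hz (centI_commute hw hz)⟩, hnL⟩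
  obtain ⟨i, hi⟩ : ∃ i, Nat.card ↥(Q ⊓ Subgroup.centralizer {w}) = 2 ^ i := by
    by_cases h : CaseL a t Q
    · rcases hL h with h1 | h1
      · exact ⟨k, by rw [h1, hk]⟩
      · exact ⟨k * 3, by rw [h1.1, hk, pow_mul]⟩
    · exact ⟨k * 2, by rw [(hnL h).1, hk, pow_mul]⟩
  refine hd.mem_of_pow y (Subgroup.mem_inf.1 hy).1 i ?_
  rw [← hi]
  exact orderOf_dvd_iff_pow_eq_one.1 (Subgroup.orderOf_dvd_natCard _ hy)

/-- A commutative Sylow `2`-subgroup consists of the involutions. -/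
theorem shape_of_centI (hc : CentStep.{u, v}) (hs : Simple G Ω a t Q) (hih : IH.{u, v} (Nat.card G))
    {S : Subgroup G} {o : ℕ} (hd : SylData hs S o) (hV : centI Ω a t ≠ ⊥) :
    (CaseL a t Q ∧ Nat.card S = qNum G a ∧ ∀ x ∈ S, x * x = 1) ∨
      ((∀ x ∈ S, x * x ∈ zGroup hs) ∧ (∀ x ∈ S, ∀ y ∈ S, x⁻¹ * y⁻¹ * x * y ∈ zGroup hs) ∧ NonAb S ∧
        (Nat.card S = qNum G a ^ 2 ∨ Nat.card S = qNum G a ^ 3)) := by
  rcases hd.shape with hab | h
  swap
  · exact Or.inr h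
  refine Or.inl ?_
  have hS := hs.setup
  obtain ⟨⟨w, hw⟩, hw1'⟩ := Subgroup.ne_bot_iff_exists_ne_one.1 hV
  have hw1 : w ≠ 1 := fun h => hw1' (Subtype.ext h)
  obtain ⟨hle, hL, hnL⟩ := cent_centI hc hs hih hd hw hw1
  have hwD := (Subgroup.mem_inf.1 hw).1
  have hSw : ∀ j : ℕ, ∀ x ∈ S, x ^ 2 ^ j = 1 → Commute w x := by
    intro j
    induction j with
    | zero => intro x _ h; rw [pow_zero, pow_one] at h; rw [h]; exact Commute.one_right w
    | succ j ih =>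
      intro x hx hxj
      have hxx : Commute w (x * x) := ih _ (mul_mem hx hx) (by rw [← pow_two, ← pow_mul, ← pow_succ']; exact hxj)
      have hy : w * x * w⁻¹ ∈ S := hd.mem_of_pow _ (hS.conj_mem w (Subgroup.mem_inf.1 hwD).1 x (hd.le hx)) (j + 1)
        (by rw [conj_pow, hxj, mul_one, mul_inv_cancel])
      set c := w * x * w⁻¹ * x⁻¹ with hcdef
      have hc2 : c * c = 1 := by
        calc c * c = w * x * w⁻¹ * (x⁻¹ * (w * x * w⁻¹)) * x⁻¹ := by rw [hcdef]; group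
          _ = w * x * w⁻¹ * ((w * x * w⁻¹) * x⁻¹) * x⁻¹ := by rw [hab _ (inv_mem hx) _ hy]
          _ = w * (x * x) * w⁻¹ * (x * x)⁻¹ := by group
          _ = 1 := by rw [hxx.eq, mul_inv_cancel_right, mul_inv_cancel]
      have hcz : c ∈ zGroup hs := mem_zGroup_of_sq hs (hd.le (mul_mem hy (inv_mem hx))) hc2
      have h1 := eq_one_of_conj (y := x) (orderOf_odd_mem hS.odd_card hwD) (centI_commute_zGroup hs hw hcz)
        (by rw [hcdef]; group) (j := 1) (by rw [pow_one, pow_two, hc2])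
      exact mul_inv_eq_iff_eq_mul.1 (mul_inv_eq_one.1 h1)
  have heq : Q ⊓ Subgroup.centralizer {w} = S := le_antisymm hle fun x hx => by
    obtain ⟨j, hj⟩ := hd.exists_pow x hx
    exact Subgroup.mem_inf.2 ⟨hd.le hx, Subgroup.mem_centralizer_singleton_iff.2 (hSw j x hx hj).symm.eq⟩
  rw [heq] at hL hnL
  have hnn : ¬ NonAb S := fun ⟨x, hx, y, hy, h⟩ => h (hab x hx y hy)
  have hcase : CaseL a t Q := by
    by_contra h
    exact hnn (hnL h).2
  have hcardS : Nat.card S = qNum G a := (hL hcase).elim id fun h => absurd h.2.1 hnn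
  refine ⟨hcase, hcardS, fun x hx => ?_⟩
  have e : zGroup hs = S := Subgroup.eq_of_le_of_card_ge
    (fun z hz => hle (zGroup_le_cent hs hw hz)) (by rw [card_zGroup hs, hcardS])
  exact involGroup_sq hS hs.two (e.ge hx)

end Cfsg.Lib.BenderSuzuki
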