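import Cfsg.Agent.RankOne.InvertedCyclic
import Cfsg.Prelude.Def_LieRecognition
import Cfsg.Prelude.Def_Classical
import Cfsg.Prelude.Def_Sz

/-!
The classification of rank one groups in characteristic two: the vocabulary shared by its steps.

Throughout, `q` is the number of involutions fixing `a` plus one, `n = |Q|`, `D` is the two-point stabiliser,
`K` its inverted elements, `W = C_D(t)` and `V` the centraliser in `D` of the involutions fixing `a`.
-/

set_option autoImplicit false

namespace Cfsg.Lib.BenderSuzuki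

open MulAction Cfsg.Lib.RankOne

universe u v

/-- The standing hypotheses, for a simple group. -/
structure Simple (G : Type u) (Ω : Type v) [Group G] [Finite G] [MulAction G Ω] (a : Ω) (t : G)
    (Q : Subgroup G) : Prop where
  setup : Cfsg.IsRankOneSetup G Ω a t Q
  faithful : FaithfulSMul G Ω
  two : ∃ x y : G, x ≠ 1 ∧ y ≠ 1 ∧ x ≠ y ∧ x * x = 1 ∧ y * y = 1 ∧ x * y = y * x
  simple : IsSimpleGroup G

variable {G : Type u} {Ω : Type v} [Group G] [MulAction G Ω]

/-- The involutions fixing `a`. -/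
abbrev invl (G : Type u) [Group G] [MulAction G Ω] (a : Ω) : Set G :=
  Cfsg.involutionsIn (stabilizer G a : Set G)

/-- The number `q`. -/
noncomputable def qNum (G : Type u) [Group G] [MulAction G Ω] (a : Ω) : ℕ := Nat.card (invl G a) + 1

/-- The inverted elements of the two-point stabiliser. -/
abbrev invK (Ω : Type v) [MulAction G Ω] (a : Ω) (t : G) : Set G := Cfsg.invertedBy (twoStab Ω a t) t

/-- The centraliser of `t` in the two-point stabiliser. -/
abbrev centT (Ω : Type v) [MulAction G Ω] (a : Ω) (t : G) : Subgroup G :=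
  twoStab Ω a t ⊓ Subgroup.centralizer {t}

/-- The centraliser in the two-point stabiliser of the involutions fixing `a`. -/
abbrev centI (Ω : Type v) [MulAction G Ω] (a : Ω) (t : G) : Subgroup G :=
  twoStab Ω a t ⊓ Subgroup.centralizer (invl G a)

/-- The partner `r` of `t` has order two. -/
def CaseL (a : Ω) (t : G) (Q : Subgroup G) : Prop :=
  ∃ s ∈ invl G a, ∃ r ∈ Q, r * r = 1 ∧ t * s * t = r⁻¹ * t * r

/-- `Q` is not commutative. -/
def NonAb (Q : Subgroup G) : Prop := ∃ x ∈ Q, ∃ y ∈ Q, x * y ≠ y * x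

/-- Commutators with an element of order above two cover the involutions fixing `a`. -/
def Nondeg (a : Ω) (Q : Subgroup G) : Prop :=
  ∀ x ∈ Q, x * x ≠ 1 → ∀ z ∈ invl G a, ∃ y ∈ Q, x * y * x⁻¹ * y⁻¹ = z

/-- The three possible orders of `Q`. -/
def Dich (a : Ω) (t : G) (Q : Subgroup G) : Prop :=
  (CaseL a t Q ∧ Nat.card Q = qNum G a) ∨
    (¬ CaseL a t Q ∧ Nat.card Q = qNum G a ^ 2 ∧ NonAb Q) ∨
    (CaseL a t Q ∧ Nat.card Q = qNum G a ^ 3 ∧ NonAb Q ∧ centI Ω a t ≠ ⊥)

/-- The group is one of the three families. -/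
def Ident (G : Type u) [Group G] : Prop :=
  (∃ (F : Type) (_ : Field F) (_ : Fintype F), (∃ n : ℕ, 2 ≤ n ∧ Fintype.card F = 2 ^ n) ∧
      Nonempty (G ≃* Matrix.ProjectiveSpecialLinearGroup (Fin 2) F)) ∨
    Cfsg.Lie.IsoSuzuki G ∨
    (∃ (F : Type) (_ : Field F) (_ : Fintype F) (n : ℕ), 2 ≤ n ∧ Fintype.card F = (2 ^ n) ^ 2 ∧
      Nonempty (G ≃* Cfsg.PSU 3 F (2 ^ n)))

/-- What is proved by induction. -/
structure Good (a : Ω) (t : G) (Q : Subgroup G) : Prop where
  dich : Dich a t Q
  nondeg : Nat.card Q = qNum G a ^ 3 → Nondeg a Q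
  ident : Ident G

/-- The induction hypothesis at the bound `N`. -/
def IH (N : ℕ) : Prop :=
  ∀ (H : Type u) [Group H] [Finite H] (Λ : Type v) [MulAction H Λ] (b : Λ) (u : H) (R : Subgroup H),
    Nat.card H < N → Simple H Λ b u R → Good b u R

end Cfsg.Lib.BenderSuzuki
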