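import Cfsg.Agent.BenderSuzuki.DegreeTI

/-!
Fixed characters of `Q` and the value of a constituent at the involutions.
-/

set_option autoImplicit false
set_option linter.unusedSectionVars false

namespace Cfsg.Lib.BenderSuzuki.Degree

open MulAction Cfsg.Lib.RankOne Cfsg.Lib.Chars

universe u v

variable {G : Type u} {Ω : Type v} [Group G] [Fintype G] [MulAction G Ω] {a : Ω} {t : G} {Q : Subgroup G}

theorem twoStab_ne_bot (hW : centT Ω a t ≠ ⊥) : twoStab Ω a t ≠ ⊥ :=
  fun h => hW (eq_bot_iff.2 (h ▸ inf_le_left))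

theorem card_invK (hs : Simple G Ω a t Q) : Nat.card (invK Ω a t) = qNum G a - 1 := by
  have h : Nat.card (invK Ω a t) = Nat.card (invl G a) := swap_card hs.setup
  rw [h, qNum]
  rfl

theorem two_le_qNum (hs : Simple G Ω a t Q) : 2 ≤ qNum G a := by
  obtain ⟨s, hs'⟩ := exists_invol hs.setup
  have : Nonempty (invl G a) := ⟨⟨s, hs'⟩⟩
  have := Nat.card_pos (α := invl G a)
  unfold qNum
  omega

/-- `Z`: the involutions of `G_a` and the identity. -/
abbrev zGroup (hs : Simple G Ω a t Q) : Subgroup G := involGroup hs.setup hs.two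

theorem zGroup_le (hs : Simple G Ω a t Q) : zGroup hs ≤ Q := by
  rintro z (rfl | hz)
  · exact Q.one_mem
  · exact inv_mem_Q hs.setup hz.1 hz.2.2

theorem card_zGroup (hs : Simple G Ω a t Q) : Nat.card (zGroup hs) = qNum G a := by
  have h : Nat.card (zGroup hs) = Nat.card ↥(insert (1 : G) (invl G a)) := rfl
  rw [h, Nat.card_coe_set_eq, Set.ncard_insert_of_notMem (fun h' => h'.2.1 rfl) (Set.toFinite _),
    ← Nat.card_coe_set_eq]
  rfl

variable [Fintype Q]

/-- The value at the involutions, and the degree. -/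
theorem exists_value (hs : Simple G Ω a t Q) {f : G → ℂ} (hf : Cfsg.IsCharacter G f)
    (h1 : mult Q f (principal Q) ≠ 0) :
    ∃ A e : ℤ, (∀ z ∈ invl G a, f z = A) ∧ f 1 = (A : ℂ) + (qNum G a : ℂ) * e ∧ 1 ≤ A + e ∧ 0 ≤ e := by
  classical
  have hS := hs.setup
  obtain ⟨u, hu⟩ := exists_invol hS
  obtain ⟨A, hA⟩ := invol_int hf hu.2.2
  have hAll : ∀ z ∈ invl G a, f z = A := by
    intro z hz
    obtain ⟨k, -, rfl⟩ := conj_surj hS hu hz
    rw [← hA]
    exact classFunction_conj' (isClassFunction_isChar hf) u k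
  set Z := zGroup hs with hZ
  obtain ⟨c, hc⟩ := IsCharacter.exists_mult (IsCharacter.restrict hf Z) isIrrCharacter_one
  have hc0 : c ≠ 0 := by
    intro h
    have h' := classInner_pullback_ne_zero (Subgroup.inclusion (zGroup_le hs)) (IsCharacter.restrict hf Q)
      (principal Q).2 (by rw [mult_spec hf]; exact_mod_cast h1) isIrrCharacter_one
      (by
        rw [show (fun w : Z => (principal Q : Q → ℂ) (Subgroup.inclusion (zGroup_le hs) w)) = fun _ => (1 : ℂ)
          from rfl, classInner_self_irr isIrrCharacter_one]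
        exact one_ne_zero)
    exact h' (by rw [show (fun w : Z => f (Subgroup.inclusion (zGroup_le hs) w : Q)) = fun w : Z => f w from rfl,
      hc, h, Nat.cast_zero])
  have hval : ∀ z : Z, f z = (if z = 1 then f 1 - A else 0) + A := by
    intro z
    split_ifs with h
    · subst h; simp
    · rw [zero_add]
      exact hAll z (z.2.resolve_left fun e => h (Subtype.ext e))
  have hq := card_zGroup hs
  have hq0 : (qNum G a : ℂ) ≠ 0 := Nat.cast_ne_zero.2 (by have := two_le_qNum hs; omega)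
  rw [classInner_def] at hc
  simp only [map_one, mul_one] at hc
  rw [Finset.sum_congr rfl fun z _ => hval z, Finset.sum_add_distrib, Finset.sum_ite_eq', Finset.sum_const,
    Finset.card_univ, ← Nat.card_eq_fintype_card, hq, nsmul_eq_mul] at hc
  simp only [Finset.mem_univ, if_true] at hc
  rw [inv_mul_eq_iff_eq_mul₀ hq0] at hc
  have hf1 : f 1 = (A : ℂ) + (qNum G a : ℂ) * ((c : ℤ) - A : ℤ) := by
    push_cast
    linear_combination hc
  refine ⟨A, c - A, hAll, hf1, by omega, ?_⟩
  have hn := IsCharacter.norm_le hf u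
  have hd := IsCharacter.apply_one_eq_deg hf
  rw [hA] at hn
  rw [hd] at hf1 hn
  have e1 : (deg f : ℤ) = A + (qNum G a : ℤ) * ((c : ℤ) - A) := by exact_mod_cast hf1
  have e2 : |(A : ℝ)| ≤ (deg f : ℝ) := by
    simpa [Complex.norm_intCast] using hn
  have e3 : A ≤ (deg f : ℤ) := by exact_mod_cast (le_abs_self (A : ℝ)).trans e2
  have e4 : 0 ≤ (qNum G a : ℤ) * ((c : ℤ) - A) := by omega
  exact nonneg_of_mul_nonneg_right e4 (by have := two_le_qNum hs; omega)

variable [Fintype (twoStab Ω a t)]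

/-- The elements fixing a character form a subgroup. -/
theorem tw_pow (hS : Cfsg.IsRankOneSetup G Ω a t Q) {d : twoStab Ω a t} {μ : Cfsg.IrrCharacter Q}
    (h : tw hS d μ = μ) (j : ℕ) : tw hS (d ^ j) μ = μ := by
  induction j with
  | zero => rw [pow_zero, tw_one]
  | succ j ih => rw [pow_succ, ← tw_tw, ih, h]

/-- A linear character fixed by an element acting without fixed points is principal. -/
theorem eq_principal_of_fpf (hS : Cfsg.IsRankOneSetup G Ω a t Q) {d : twoStab Ω a t}
    {μ : Cfsg.IrrCharacter Q} (hμ : (μ : Q → ℂ) 1 = 1) (hfix : tw hS d μ = μ)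
    (hfpf : ∀ x : Q, cj hS d x = x → x = 1) : μ = principal Q := by
  obtain ⟨φ, hφ⟩ := exists_hom_of_deg_one (isCharacter_of_irr μ.2) hμ
  let T : Q → Q := fun x => x⁻¹ * cj hS d x
  have hT : Function.Injective T := by
    intro x y h
    have h' : x⁻¹ * cj hS d x = y⁻¹ * cj hS d y := h
    refine (mul_inv_eq_one.1 (hfpf (y * x⁻¹) ?_)).symm
    rw [map_mul, map_inv]
    calc cj hS d y * (cj hS d x)⁻¹ = y * (y⁻¹ * cj hS d y) * (cj hS d x)⁻¹ := by group
      _ = y * (x⁻¹ * cj hS d x) * (cj hS d x)⁻¹ := by rw [h']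
      _ = y * x⁻¹ := by group
  refine Subtype.ext (funext fun x => ?_)
  obtain ⟨y, rfl⟩ := Finite.injective_iff_surjective.1 hT x
  show (μ : Q → ℂ) (y⁻¹ * cj hS d y) = 1
  have h1 := congrArg (fun χ : Cfsg.IrrCharacter Q => (χ : Q → ℂ) y) hfix
  simp only [tw_apply] at h1
  rw [hφ] at h1 ⊢
  show ((φ (y⁻¹ * cj hS d y) : ℂˣ) : ℂ) = 1; rw [map_mul, map_inv]; dsimp only at h1
  simp only [Units.val_mul, Units.val_inv_eq_inv_val]
  rw [h1]
  exact inv_mul_cancel₀ (Units.ne_zero _)

/-- Brauer's permutation lemma for conjugation by an element of `D`. -/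
theorem card_fixed_tw (hS : Cfsg.IsRankOneSetup G Ω a t Q) (d : twoStab Ω a t) :
    Nat.card {μ : Cfsg.IrrCharacter Q // tw hS d μ = μ} =
      Nat.card {C : ConjClasses Q // ConjClasses.map (cj hS d).toMonoidHom C = C} := by
  let π : ConjClasses Q ≃ ConjClasses Q :=
    { toFun := ConjClasses.map (cj hS d).toMonoidHom
      invFun := ConjClasses.map (cj hS d).symm.toMonoidHom
      left_inv := fun C => by
        obtain ⟨x, rfl⟩ := ConjClasses.exists_rep C
        show ConjClasses.mk ((cj hS d).symm (cj hS d x)) = _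
        rw [MulEquiv.symm_apply_apply]
      right_inv := fun C => by
        obtain ⟨x, rfl⟩ := ConjClasses.exists_rep C
        show ConjClasses.mk (cj hS d ((cj hS d).symm x)) = _
        rw [MulEquiv.apply_symm_apply] }
  have h := brauer_permutation (G := Q) (fun μ => tw hS d⁻¹ μ) π fun χ x x' e => by
    have e' : IsConj x' (cj hS d x) := ConjClasses.mk_eq_mk_iff_isConj.1 e
    show (χ : Q → ℂ) (cj hS d⁻¹ x') = (χ : Q → ℂ) x
    refine (classFunction_eq_of_isConj (isClassFunction_irr χ) ((cj hS d⁻¹).toMonoidHom.map_isConj e')).trans ?_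
    refine congrArg _ (Subtype.ext ?_)
    show ((d⁻¹ : twoStab Ω a t) : G) * ((d : G) * x * (d : G)⁻¹) * ((d⁻¹ : twoStab Ω a t) : G)⁻¹ = x
    rw [Subgroup.coe_inv]
    group
  refine Eq.trans ?_ h
  refine Nat.card_congr (Equiv.subtypeEquivRight fun μ => ⟨fun e => ?_, fun e => ?_⟩)
  · nth_rw 1 [← e]
    rw [tw_tw, mul_inv_cancel, tw_one]
  · nth_rw 1 [← e]
    rw [tw_tw, inv_mul_cancel, tw_one]

end Cfsg.Lib.BenderSuzuki.Degree
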