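import Cfsg.Agent.BenderSuzuki.DegreeTheta
import Cfsg.Agent.Known.SLTwo.Chars.SLHalves
import Cfsg.Agent.Chars.Constituent
import Cfsg.Agent.Chars.Values
import Cfsg.Agent.Chars.LargestDegreeTools

/-!
The two constituents of the character induced from a linear character of `G_a`, and their relation at an
involution.
-/

set_option autoImplicit false
set_option linter.unusedSectionVars false

namespace Cfsg.Lib.BenderSuzuki.Degree

open MulAction Cfsg.Lib.RankOne Cfsg.Lib.Chars
open scoped ComplexConjugate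

universe u v

variable {G : Type u} {Ω : Type v} [Group G] [Fintype G] [MulAction G Ω] {a : Ω} {t : G} {Q : Subgroup G}

/-- The properties of the two constituents which are used. -/
structure IsPair (a : Ω) (Q : Subgroup G) [Fintype Q] (f g : G → ℂ) : Prop where
  irr₁ : Cfsg.IsIrrCharacter G f
  irr₂ : Cfsg.IsIrrCharacter G g
  deg_ne : f 1 ≠ g 1
  res : ∀ x ∈ Q, x ≠ 1 → f x + g x = 1
  res_one : f 1 + g 1 = (Nat.card Q : ℂ) + 1
  ne₁ : f ≠ fun _ => 1
  ne₂ : g ≠ fun _ => 1
  one₁ : Cfsg.classInner (fun x : Q => f x) (fun _ => 1) = 1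
  one₂ : Cfsg.classInner (fun x : Q => g x) (fun _ => 1) = 1
  eqn : ∀ u ∈ invl G a, f u ^ 2 / f 1 + g u ^ 2 / g 1 = 1

theorem IsPair.symm [Fintype Q] {f g : G → ℂ} (h : IsPair a Q f g) : IsPair a Q g f where
  irr₁ := h.irr₂
  irr₂ := h.irr₁
  deg_ne := h.deg_ne.symm
  res := fun x hx hx1 => by rw [add_comm]; exact h.res x hx hx1
  res_one := by rw [add_comm]; exact h.res_one
  ne₁ := h.ne₂
  ne₂ := h.ne₁
  one₁ := h.one₂
  one₂ := h.one₁
  eqn := fun u hu => by rw [add_comm]; exact h.eqn u hu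

/-- An involution of `G_a` outside a kernel: nontrivial irreducibles of a simple group are faithful. -/
theorem ne_deg_of_ne_one (hs : Simple G Ω a t Q) {f : G → ℂ} (hf : Cfsg.IsIrrCharacter G f)
    (hne : f ≠ fun _ => 1) {x : G} (hx : x ≠ 1) : f x ≠ f 1 := by
  classical
  have := hs.simple
  obtain ⟨n, ρ, hρ, rfl⟩ := id hf
  intro h
  have h1 : ρ x = LinearMap.id := (eq_id_of_character_eq_finrank ρ x).mp (by rw [h, ρ.char_one])
  have hkey : ∀ g : G, ρ g = LinearMap.id := by
    rcases IsSimpleGroup.eq_bot_or_eq_top_of_normal (MonoidHom.ker ρ) inferInstance with hb | ht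
    · exact absurd (Subgroup.mem_bot.1 (hb ▸ MonoidHom.mem_ker.2 h1)) hx
    · exact fun g => MonoidHom.mem_ker.1 (ht ▸ Subgroup.mem_top g)
  have hconst : ρ.character = fun _ => (n : ℂ) := funext fun g => by
    rw [Representation.character, hkey g]
    simp
  have h2 := classInner_self_irr hf
  rw [hconst] at h2
  simp only [classInner_def, Complex.conj_natCast, Finset.sum_const, Finset.card_univ, nsmul_eq_mul,
    ← Nat.card_eq_fintype_card] at h2
  rw [← mul_assoc, inv_mul_cancel₀ (Nat.cast_ne_zero.2 Nat.card_pos.ne'), one_mul] at h2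
  have h3 : n * n = 1 := by exact_mod_cast h2
  refine hne ?_
  rw [hconst, Nat.eq_one_of_mul_eq_one_left h3]
  simp

/-- Values at involutions are integers. -/
theorem invol_int {f : G → ℂ} (hf : Cfsg.IsCharacter G f) {x : G} (hx : x * x = 1) :
    ∃ m : ℤ, f x = m := by
  classical
  obtain ⟨n, ρ, rfl⟩ := hf
  rw [character_eq_sum_eigs]
  have hpm : ∀ z ∈ eigs ρ x, z = 1 ∨ z = -1 := fun z hz =>
    sq_eq_one_iff.1 (pow_eq_one_of_mem_eigs ρ (by rw [pow_two, hx]) hz)
  revert hpm
  generalize eigs ρ x = s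
  induction s using Multiset.induction with
  | empty => exact fun _ => ⟨0, by simp⟩
  | cons z s ih =>
    intro h
    obtain ⟨m, hm⟩ := ih fun w hw => h w (Multiset.mem_cons_of_mem hw)
    rcases h z (Multiset.mem_cons_self z s) with rfl | rfl
    · exact ⟨1 + m, by rw [Multiset.sum_cons, hm]; push_cast; rfl⟩
    · exact ⟨-1 + m, by rw [Multiset.sum_cons, hm]; push_cast; rfl⟩

theorem exists_pair (hs : Simple G Ω a t Q) (hW : centT Ω a t ≠ ⊥) [Fintype Q] :
    ∃ f g : G → ℂ, IsPair a Q f g := by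
  classical
  have hS := hs.setup
  have := finite_pts hS
  obtain ⟨θ, hθ⟩ := exists_theta hs hW
  set th : ptStab G a → ℂ := fun h => ((θ h : ℂˣ) : ℂ) with hth
  set one : ptStab G a → ℂ := fun _ => 1
  set F := Cfsg.indFun (ptStab G a) th with hF
  set F₀ := Cfsg.indFun (ptStab G a) one with hF0
  have hFc : Cfsg.IsCharacter G F := IsCharacter.indFun (isCharacter_linear θ)
  have hF0c : Cfsg.IsCharacter G F₀ := IsCharacter.indFun isCharacter_one
  have hF0v : ∀ g, F₀ g = (Nat.card (fixedBy Ω g) : ℂ) := ind_one_apply hS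
  -- restriction to `G_a`
  have hres : ∀ h : (ptStab G a), F h = th h * F₀ h := by
    intro h
    rw [hF, hF0, indFun_apply, indFun_apply, mul_comm (th h), mul_assoc, Finset.sum_mul]
    congr 1
    refine Finset.sum_congr rfl fun x _ => ?_
    by_cases hx : x⁻¹ * (h : G) * x ∈ (ptStab G a)
    · rw [extendByZero_mem _ hx, extendByZero_mem _ hx]; show _ = (1 : ℂ) * th h; rw [one_mul]
      exact congrArg Units.val (theta_conj hs hθ h x hx)
    · rw [extendByZero_not_mem _ hx, extendByZero_not_mem _ hx, zero_mul]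
  have hnorm0 : Cfsg.classInner F₀ F₀ = 2 := by
    rw [frobenius_reciprocity (ptStab G a) one (isClassFunction_isChar hF0c), ← classInner_conj_symm]
    have e : (fun h : (ptStab G a) => F₀ h) = permChar (ptStab G a) Ω := funext fun h => hF0v h
    rw [e, classInner_permChar_one, orbits_two hS]
    simp [map_ofNat]
  have hn : ∀ h, ‖th h‖ = 1 := fun h => Complex.norm_eq_one_of_pow_eq_one (n := Nat.card (ptStab G a))
    (by rw [hth, ← Units.val_pow_eq_pow_val, ← map_pow, pow_card_eq_one', map_one, Units.val_one])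
    Nat.card_pos.ne'
  have hnorm : Cfsg.classInner F F = 2 := by
    rw [← hnorm0, frobenius_reciprocity (ptStab G a) th (isClassFunction_isChar hFc),
      frobenius_reciprocity (ptStab G a) one (isClassFunction_isChar hF0c)]
    simp only [classInner_def, hres, map_mul]
    refine congrArg _ (Finset.sum_congr rfl fun h _ => ?_)
    rw [← mul_assoc, Complex.mul_conj', hn h]
    simp [one]
  have hF1 : Cfsg.classInner F (fun _ => 1) = 0 := by
    rw [frobenius_reciprocity (ptStab G a) th (isClassFunction_isChar isCharacter_one)]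
    exact (classInner_irr_ne (χ := ⟨th, isIrrCharacter_linear θ⟩) (ψ := principal (ptStab G a)) fun h =>
      hθ.ne (MonoidHom.ext fun x => Units.ext (show ((θ x : ℂˣ) : ℂ) = 1 from congrFun (congrArg Subtype.val h) x)))
  have hF01 : Cfsg.classInner F₀ (fun _ => 1) = 1 := by
    rw [frobenius_reciprocity (ptStab G a) one (isClassFunction_isChar isCharacter_one)]
    exact classInner_irr_self (principal (ptStab G a))
  obtain ⟨f, g, hf, hg, hfg, hsum⟩ := Cfsg.Lib.CharTools.exists_add_of_norm_two hFc hnorm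
  obtain ⟨p, r, hp, hr, hpr, hsum0⟩ := Cfsg.Lib.CharTools.exists_add_of_norm_two hF0c hnorm0
  -- values on `Q`
  have hnone : F₀ 1 = (Nat.card Q : ℂ) + 1 := by
    rw [hF0v, show fixedBy Ω (1 : G) = Set.univ from Set.eq_univ_of_forall fun p => one_smul _ p,
      Nat.card_congr (Equiv.Set.univ Ω), card_pts hS]
    push_cast; rfl
  have hQ : ∀ x ∈ Q, F x = F₀ x := fun x hx => by
    have h := hres ⟨x, hS.le hx⟩
    rw [show th ⟨x, hS.le hx⟩ = 1 by simp [hth, hθ.on_Q ⟨x, hS.le hx⟩ hx], one_mul] at h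
    exact h
  have hQ1 : ∀ x ∈ Q, x ≠ 1 → F x = 1 := fun x hx hx1 => by
    rw [hQ x hx, hF0v, fix_Q hS hx hx1, Nat.cast_one]
  have hone : f 1 + g 1 = (Nat.card Q : ℂ) + 1 := by
    rw [← Pi.add_apply, ← hsum, hQ 1 Q.one_mem, hnone]
  have hne : ∀ f g : G → ℂ, Cfsg.IsIrrCharacter G f → Cfsg.IsIrrCharacter G g → f ≠ g → F = f + g →
      f ≠ fun _ => 1 := by
    intro f g hf hg hfg hsum e
    subst e
    rw [hsum, classInner_add_left, classInner_self_irr hf,
      classInner_irr_ne (χ := ⟨g, hg⟩) (ψ := ⟨_, hf⟩) (fun h => hfg (congrArg Subtype.val h).symm),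
      add_zero] at hF1
    exact one_ne_zero hF1
  -- multiplicities of the trivial character of `Q`
  have hpos : ∀ f g : G → ℂ, Cfsg.IsIrrCharacter G f → Cfsg.IsIrrCharacter G g → f ≠ g → F = f + g →
      Cfsg.classInner (fun x : Q => f x) (fun _ => 1) ≠ 0 := by
    intro f g hf hg hfg hsum
    have h1 : Cfsg.classInner (fun h : (ptStab G a) => f h) th ≠ 0 := by
      rw [← frobenius_reciprocity' (ptStab G a) th (isClassFunction_isChar (isCharacter_of_irr hf)), ← hF, hsum,
        classInner_add_right, classInner_self_irr hf,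
        classInner_irr_ne (χ := ⟨_, hf⟩) (ψ := ⟨g, hg⟩) (fun h => hfg (congrArg Subtype.val h)), add_zero]
      exact one_ne_zero
    refine classInner_pullback_ne_zero (Subgroup.inclusion hS.le)
      (IsCharacter.restrict (isCharacter_of_irr hf) (ptStab G a)) (isIrrCharacter_linear θ) h1 isIrrCharacter_one ?_
    have e : (fun w : Q => th (Subgroup.inclusion hS.le w)) = fun _ => 1 := funext fun w => by
      simp [hth, hθ.on_Q (Subgroup.inclusion hS.le w) w.2]
    rw [e, classInner_self_irr isIrrCharacter_one]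
    exact one_ne_zero
  have htot : Cfsg.classInner (fun x : Q => f x) (fun _ => 1) +
      Cfsg.classInner (fun x : Q => g x) (fun _ => 1) = 2 := by
    rw [← classInner_add_left, classInner_def]
    have e : ∀ x : Q, ((fun x : Q => f x) + fun x : Q => g x) x * conj (1 : ℂ) =
        1 + if x = 1 then (Nat.card Q : ℂ) else 0 := by
      intro x
      rw [map_one, mul_one, Pi.add_apply]
      split_ifs with h
      · subst h; rw [OneMemClass.coe_one, hone, add_comm]
      · rw [← Pi.add_apply f g, ← hsum, hQ1 x x.2 (fun e => h (Subtype.ext e)), add_zero]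
    simp only [e, Finset.sum_add_distrib, Finset.sum_ite_eq', Finset.mem_univ, if_true, Finset.sum_const,
      Finset.card_univ, nsmul_eq_mul, mul_one, ← Nat.card_eq_fintype_card]
    rw [← two_mul, mul_left_comm, inv_mul_cancel₀ (Nat.cast_ne_zero.2 Nat.card_pos.ne'), mul_one]
  obtain ⟨m₁, hm₁⟩ := IsCharacter.exists_mult (IsCharacter.restrict (isCharacter_of_irr hf) Q) isIrrCharacter_one
  obtain ⟨m₂, hm₂⟩ := IsCharacter.exists_mult (IsCharacter.restrict (isCharacter_of_irr hg) Q) isIrrCharacter_one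
  have hm₁0 : m₁ ≠ 0 := fun h => hpos f g hf hg hfg hsum (by rw [hm₁, h, Nat.cast_zero])
  have hm₂0 : m₂ ≠ 0 := fun h => hpos g f hg hf hfg.symm (hsum.trans (add_comm f g)) (by rw [hm₂, h, Nat.cast_zero])
  rw [hm₁, hm₂] at htot
  have htot' : m₁ + m₂ = 2 := by exact_mod_cast htot
  have hdne : f 1 ≠ g 1 := by
    intro e
    rw [IsCharacter.apply_one_eq_deg (isCharacter_of_irr hf),
      IsCharacter.apply_one_eq_deg (isCharacter_of_irr hg)] at hone e
    have e1 : deg f = deg g := by exact_mod_cast e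
    have e2 : deg f + deg g = Nat.card Q + 1 := by exact_mod_cast hone
    obtain ⟨k, hk⟩ := hS.even_card
    omega
  -- the relation at an involution
  obtain ⟨p₀, hp₀, hp₀u, hsum0'⟩ : ∃ p₀, Cfsg.IsIrrCharacter G p₀ ∧
      p₀ ≠ (fun _ => 1) ∧ F₀ = (fun _ => 1) + p₀ := by
    by_cases h : p = fun _ => 1
    · exact ⟨r, hr, fun e => hpr (h.trans e.symm), by rw [hsum0, h]⟩
    · by_cases h' : r = fun _ => 1
      · exact ⟨p, hp, h, by rw [hsum0, h', add_comm]⟩
      · exfalso
        rw [hsum0, classInner_add_left,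
          show Cfsg.classInner p (fun _ => 1) = 0 from
            classInner_irr_ne (χ := ⟨p, hp⟩) (ψ := principal G) (fun e => h (congrArg Subtype.val e))] at hF01
        simp only [zero_add] at hF01
        rw [show Cfsg.classInner r (fun _ => 1) = 0 from
          classInner_irr_ne (χ := ⟨r, hr⟩) (ψ := principal G) (fun e => h' (congrArg Subtype.val e))] at hF01
        exact zero_ne_one hF01
  have heqn : ∀ u ∈ invl G a, f u ^ 2 / f 1 + g u ^ 2 / g 1 = 1 := by
    rintro u ⟨hu, hu1, hu2⟩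
    have huQ : u ∈ Q := inv_mem_Q hS hu hu2
    have hp₀v : p₀ u = 0 := by
      have := congrFun hsum0' u
      rw [← hQ u huQ, hQ1 u huQ hu1, Pi.add_apply] at this
      linear_combination -this
    have hvan : ∀ x y : G, IsConj u x → IsConj u y → F (x * y) = F₀ (x * y) := by
      intro x y hx hy
      have hsq : ∀ z, IsConj u z → z * z = 1 := fun z hz => by
        obtain ⟨c, rfl⟩ := isConj_iff.1 hz
        rw [show c * u * c⁻¹ * (c * u * c⁻¹) = c * (u * u) * c⁻¹ by group, hu2]; group
      rw [hF, hF0, indFun_apply, indFun_apply]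
      congr 1
      refine Finset.sum_congr rfl fun z _ => ?_
      by_cases hz : z⁻¹ * (x * y) * z ∈ (ptStab G a)
      · rw [extendByZero_mem _ hz, extendByZero_mem _ hz]
        have hxx := hsq x hx
        have hyy := hsq y hy
        have h1 : θ ⟨_, hz⟩ = 1 := theta_eq_one hs hθ ⟨_, hz⟩ (z⁻¹ * x * z)
          (by rw [show z⁻¹ * x * z * (z⁻¹ * x * z) = z⁻¹ * (x * x) * z by group, hxx]; group)
          (by
            show z⁻¹ * x * z * (z⁻¹ * (x * y) * z) * (z⁻¹ * x * z)⁻¹ = (z⁻¹ * (x * y) * z)⁻¹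
            rw [show z⁻¹ * x * z * (z⁻¹ * (x * y) * z) * (z⁻¹ * x * z)⁻¹ = z⁻¹ * (x * x * y * x⁻¹) * z by group,
              hxx, show (z⁻¹ * (x * y) * z)⁻¹ = z⁻¹ * (y⁻¹ * x⁻¹) * z by group, inv_of_sq hyy, one_mul])
        show ((θ ⟨_, hz⟩ : ℂˣ) : ℂ) = 1
        rw [h1, Units.val_one]
      · rw [extendByZero_not_mem _ hz, extendByZero_not_mem _ hz]
    set C := Finset.univ.filter (IsConj u)
    set c : ℂ := (Nat.card {x : G // IsConj u x} : ℂ)
    have hc : c ≠ 0 := Nat.cast_ne_zero.2 (card_isConj_pos u).ne'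
    have hcp : ∀ χ : G → ℂ, Cfsg.IsIrrCharacter G χ →
        ∑ x ∈ C, ∑ y ∈ C, χ (x * y) = c * c * (χ u ^ 2 / χ 1) := fun χ hχ => by
      have h := sum_class_products hχ u u 1
      simp only [mul_one] at h
      rw [h]
      simp only [c]
      field_simp [IsIrrCharacter.apply_one_ne_zero hχ]
    have h0 : ∑ x ∈ C, ∑ y ∈ C, F (x * y) = ∑ x ∈ C, ∑ y ∈ C, F₀ (x * y) :=
      Finset.sum_congr rfl fun x hx => Finset.sum_congr rfl fun y hy =>
        hvan x y (Finset.mem_filter.1 hx).2 (Finset.mem_filter.1 hy).2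
    rw [hsum, hsum0'] at h0
    simp only [Pi.add_apply, Finset.sum_add_distrib] at h0
    rw [hcp f hf, hcp g hg, hcp p₀ hp₀, hp₀v,
      show ∑ _x ∈ C, ∑ _y ∈ C, (1 : ℂ) = c * c * ((1 : ℂ) ^ 2 / 1) from hcp _ isIrrCharacter_one] at h0
    refine mul_left_cancel₀ (mul_ne_zero hc hc) ?_
    linear_combination h0
  exact ⟨f, g, hf, hg, hdne, fun x hx hx1 => by rw [← Pi.add_apply f g, ← hsum]; exact hQ1 x hx hx1, hone,
    hne f g hf hg hfg hsum, hne g f hg hf hfg.symm (hsum.trans (add_comm f g)),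
    by rw [hm₁, show m₁ = 1 by omega, Nat.cast_one], by rw [hm₂, show m₂ = 1 by omega, Nat.cast_one], heqn⟩

/-- The degree relation from the value at an involution. -/
theorem IsPair.equation (hs : Simple G Ω a t Q) [Fintype Q] {f g : G → ℂ} (h : IsPair a Q f g) {u : G}
    (hu : u ∈ invl G a) {A e : ℤ} {q m : ℕ} (hA : f u = A) (hcard : Nat.card Q = q * m)
    (hf : f 1 = (A : ℂ) + q * e) : e ≠ 0 ∧ e ≠ m ∧ A * (A - 1) * m = (q : ℤ) * e * (m - e) := by
  have hB : g u = 1 - (A : ℂ) := by
    rw [← hA]; exact eq_sub_of_add_eq' (h.res u (inv_mem_Q hs.setup hu.1 hu.2.2) hu.2.1)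
  have hg : g 1 = 1 - (A : ℂ) + q * ((m : ℂ) - e) := by
    have := h.res_one
    rw [hf, hcard] at this
    push_cast at this
    linear_combination this
  refine ⟨fun e0 => ?_, fun em => ?_, ?_⟩
  · exact ne_deg_of_ne_one hs h.irr₁ h.ne₁ hu.2.1 (by rw [hA, hf, e0]; simp)
  · refine ne_deg_of_ne_one hs h.irr₂ h.ne₂ hu.2.1 ?_
    rw [hB, hg, em]; simp
  · have hf0 := IsIrrCharacter.apply_one_ne_zero h.irr₁
    have hg0 := IsIrrCharacter.apply_one_ne_zero h.irr₂
    have e1 := h.eqn u hu
    rw [hA, hB, div_add_div _ _ hf0 hg0, div_eq_one_iff_eq (mul_ne_zero hf0 hg0), hf, hg] at e1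
    have e2 : ((q : ℂ) * (((A * (A - 1) * m - (q : ℤ) * e * (m - e) : ℤ)) : ℂ)) = 0 := by
      push_cast
      linear_combination e1
    rcases mul_eq_zero.1 e2 with hq | hk
    · have : q = 0 := by exact_mod_cast hq
      rw [this, zero_mul] at hcard
      exact absurd hcard Nat.card_pos.ne'
    · exact sub_eq_zero.1 (Int.cast_eq_zero.1 hk)

end Cfsg.Lib.BenderSuzuki.Degree
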