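import Cfsg.Agent.Chars.Perm
import Cfsg.Agent.Chars.IrrTools
import Cfsg.Agent.Chars.Values
import Cfsg.Agent.Chars.Real
import Cfsg.Agent.OddChar.Dual
import Cfsg.Agent.OddChar.InducedFamily

/-!
Characters of a group with a central subgroup containing the squares, and elementary facts on characters
fixed by automorphisms.
-/

set_option autoImplicit false
set_option linter.unusedSectionVars false

namespace Cfsg.Lib.BenderSuzuki.Degree

open Cfsg.Lib.Chars

universe u

variable {K : Type u} [Group K] [Fintype K]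

/-- Twisting a character by an automorphism. -/
noncomputable def twG (φ : K ≃* K) (χ : Cfsg.IrrCharacter K) : Cfsg.IrrCharacter K :=
  ⟨fun x => (χ : K → ℂ) (φ x), IsIrrCharacter.comp_mulEquiv χ.2 φ⟩

theorem twG_apply (φ : K ≃* K) (χ : Cfsg.IrrCharacter K) (x : K) :
    (twG φ χ : K → ℂ) x = (χ : K → ℂ) (φ x) := rfl

theorem twG_twG (φ ψ : K ≃* K) (χ : Cfsg.IrrCharacter K) : twG φ (twG ψ χ) = twG (φ.trans ψ) χ := rfl

theorem deg_twG (φ : K ≃* K) (χ : Cfsg.IrrCharacter K) : deg (twG φ χ : K → ℂ) = deg (χ : K → ℂ) :=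
  congrArg (fun z : ℂ => ⌊z.re⌋₊) (by rw [twG_apply, map_one])

/-- An automorphism without nontrivial fixed points fixes only the principal character. -/
theorem eq_principal_of_fpf' (φ : K ≃* K) (hfpf : ∀ x, φ x = x → x = 1) {χ : Cfsg.IrrCharacter K}
    (hfix : twG φ χ = χ) : χ = principal K := by
  classical
  let π : ConjClasses K ≃ ConjClasses K :=
    { toFun := ConjClasses.map φ.toMonoidHom
      invFun := ConjClasses.map φ.symm.toMonoidHom
      left_inv := fun C => by
        obtain ⟨x, rfl⟩ := ConjClasses.exists_rep C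
        show ConjClasses.mk (φ.symm (φ x)) = _
        rw [MulEquiv.symm_apply_apply]
      right_inv := fun C => by
        obtain ⟨x, rfl⟩ := ConjClasses.exists_rep C
        show ConjClasses.mk (φ (φ.symm x)) = _
        rw [MulEquiv.apply_symm_apply] }
  have h := brauer_permutation (G := K) (fun μ => twG φ.symm μ) π fun μ x x' e => by
    have e' : IsConj x' (φ x) := ConjClasses.mk_eq_mk_iff_isConj.1 e
    show (μ : K → ℂ) (φ.symm x') = (μ : K → ℂ) x
    refine (classFunction_eq_of_isConj (isClassFunction_irr μ) (φ.symm.toMonoidHom.map_isConj e')).trans ?_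
    exact congrArg _ (φ.symm_apply_apply x)
  let T : K → K := fun w => (φ w)⁻¹ * w
  have hT : Function.Injective T := by
    intro x y e
    have e' : (φ x)⁻¹ * x = (φ y)⁻¹ * y := e
    refine (mul_inv_eq_one.1 (hfpf (y * x⁻¹) ?_)).symm
    rw [map_mul, map_inv]
    calc φ y * (φ x)⁻¹ = φ y * ((φ x)⁻¹ * x) * x⁻¹ := by group
      _ = φ y * ((φ y)⁻¹ * y) * x⁻¹ := by rw [e']
      _ = y * x⁻¹ := by group
  have h1 : Nat.card {C : ConjClasses K // π C = C} ≤ 1 := by
    refine Finite.card_le_one_iff_subsingleton.2 ⟨fun ⟨C, hC⟩ ⟨C', hC'⟩ => Subtype.ext ?_⟩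
    have key : ∀ C : ConjClasses K, π C = C → C = ConjClasses.mk 1 := by
      intro C hC
      obtain ⟨o, rfl⟩ := ConjClasses.exists_rep C
      have hC' : IsConj (φ o) o := ConjClasses.mk_eq_mk_iff_isConj.1 hC
      obtain ⟨y, hy⟩ := isConj_iff.1 hC'.symm
      obtain ⟨w, rfl⟩ := Finite.injective_iff_surjective.1 hT y
      have hfix : φ (w * o * w⁻¹) = w * o * w⁻¹ := by
        rw [map_mul, map_mul, map_inv, ← hy]
        simp only [T]
        group
      have h0 := hfpf _ hfix
      rw [mul_inv_eq_one, mul_eq_left] at h0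
      rw [h0]
    show C = C'
    rw [key C hC, key C' hC']
  have h2 : Nat.card {μ : Cfsg.IrrCharacter K // twG φ.symm μ = μ} ≤ 1 := h.trans_le h1
  have := Finite.card_le_one_iff_subsingleton.1 h2
  have hχ : twG φ.symm χ = χ := by
    nth_rw 1 [← hfix]
    exact Subtype.ext (funext fun x => congrArg (χ : K → ℂ) (φ.apply_symm_apply x))
  exact congrArg Subtype.val (this.elim ⟨χ, hχ⟩ ⟨principal K, Subtype.ext rfl⟩)

/-- A free action and an invariant function. -/
theorem dvd_sum_of_free {A α : Type*} [Group A] [Fintype A] [Fintype α] (act : A → α → α)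
    (h1 : ∀ x, act 1 x = x) (hm : ∀ p r x, act (p * r) x = act p (act r x)) (f : α → ℕ)
    (hinv : ∀ p x, f (act p x) = f x) (hfree : ∀ p x, act p x = x → p = 1) :
    Nat.card A ∣ ∑ x, f x := by
  classical
  let s : Setoid α :=
    { r := fun x y => ∃ p, act p x = y
      iseqv := ⟨fun x => ⟨1, h1 x⟩, fun {x y} ⟨p, hp⟩ => ⟨p⁻¹, by rw [← hp, ← hm, inv_mul_cancel, h1]⟩,
        fun {x y z} ⟨p, hp⟩ ⟨r, hr⟩ => ⟨r * p, by rw [hm, hp, hr]⟩⟩ }
  rw [← Finset.sum_fiberwise (g := fun x => (Quotient.mk s x))]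
  refine Finset.dvd_sum fun o _ => ?_
  obtain ⟨x, rfl⟩ := Quotient.exists_rep o
  have e : Finset.univ.filter (fun y => Quotient.mk s y = Quotient.mk s x) =
      Finset.univ.image fun p => act p x := by
    ext y
    simp only [Finset.mem_filter, Finset.mem_univ, true_and, Finset.mem_image]
    rw [eq_comm, Quotient.eq]
    rfl
  rw [e, Finset.sum_image fun p _ r _ hpr => by
    have h2 : act (r⁻¹ * p) x = x := by
      have hpr' : act p x = act r x := hpr
      rw [hm, hpr', ← hm, inv_mul_cancel, h1]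
    exact (inv_mul_eq_one.1 (hfree _ _ h2)).symm]
  simp only [hinv, Finset.sum_const, Finset.card_univ, smul_eq_mul]
  exact ⟨f x, by rw [Nat.card_eq_fintype_card]⟩

/-- The conjugate irreducible character. -/
noncomputable def bar (χ : Cfsg.IrrCharacter K) : Cfsg.IrrCharacter K :=
  ⟨_, IsIrrCharacter.conjugate χ.2⟩

theorem deg_bar (χ : Cfsg.IrrCharacter K) : deg (bar χ : K → ℂ) = deg (χ : K → ℂ) :=
  congrArg (fun z : ℂ => ⌊z.re⌋₊) (by
    show (starRingEnd ℂ) ((χ : K → ℂ) 1) = _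
    rw [irr_apply_one_eq_deg, Complex.conj_natCast])

theorem bar_ne (hodd : Odd (Nat.card K)) {χ : Cfsg.IrrCharacter K} (hχ : χ ≠ principal K) : bar χ ≠ χ :=
  fun h => hχ (eq_principal_of_real hodd χ fun x => Complex.conj_eq_iff_im.1
    (congrFun (congrArg Subtype.val h) x))

/-- The properties of the central subgroup `Z`. -/
structure CentralSquares (Z : Subgroup K) : Prop where
  central : ∀ z ∈ Z, ∀ x : K, z * x = x * z
  invol : ∀ z ∈ Z, z * z = 1
  squares : ∀ x : K, x * x ∈ Z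

/-- Triviality on `Z`. -/
def Triv (Z : Subgroup K) (χ : Cfsg.IrrCharacter K) : Prop := ∀ z ∈ Z, (χ : K → ℂ) z = (χ : K → ℂ) 1

variable {Z : Subgroup K}

theorem CentralSquares.normal (h : CentralSquares Z) : Z.Normal :=
  ⟨fun z hz x => by rw [← h.central z hz x, mul_inv_cancel_right]; exact hz⟩

theorem CentralSquares.quot_comm (h : CentralSquares Z) [Z.Normal] :
    ∀ x y : K ⧸ Z, x * y = y * x := by
  have hsq : ∀ x : K ⧸ Z, x * x = 1 := fun x => by
    induction x using QuotientGroup.induction_on with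
    | _ x => exact (QuotientGroup.eq_one_iff _).2 (h.squares x)
  intro x y
  have hx : x⁻¹ = x := inv_eq_of_mul_eq_one_right (hsq x)
  have hy : y⁻¹ = y := inv_eq_of_mul_eq_one_right (hsq y)
  calc x * y = (x * y)⁻¹ := (inv_eq_of_mul_eq_one_right (hsq _)).symm
    _ = y * x := by rw [mul_inv_rev, hx, hy]

/-- A character trivial on `Z` is linear. -/
theorem CentralSquares.deg_triv (h : CentralSquares Z) {χ : Cfsg.IrrCharacter K} (hχ : Triv Z χ) :
    (χ : K → ℂ) 1 = 1 := by
  have := h.normal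
  obtain ⟨b, hb, e⟩ := exists_factor (QuotientGroup.mk' Z) (QuotientGroup.mk'_surjective Z)
    (isCharacter_of_irr χ.2) (fun k hk => hχ k (by rwa [QuotientGroup.ker_mk'] at hk))
  have hirr : Cfsg.IsIrrCharacter (K ⧸ Z) b := irr_of_comp_irr hb (QuotientGroup.mk' Z) (e ▸ χ.2)
  rw [e]
  show b (QuotientGroup.mk' Z 1) = 1
  rw [map_one]
  exact irr_deg_one_of_comm h.quot_comm hirr

/-- The number of characters trivial on `Z`. -/
theorem CentralSquares.card_triv (h : CentralSquares Z) :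
    Nat.card {χ : Cfsg.IrrCharacter K // Triv Z χ} = Z.index := by
  have := h.normal
  rw [Subgroup.index_eq_card, ← Cfsg.Lib.Dual.card_hom h.quot_comm]
  refine (Nat.card_eq_of_bijective (fun f : (K ⧸ Z) →* ℂˣ =>
    (⟨⟨_, isIrrCharacter_linear (f.comp (QuotientGroup.mk' Z))⟩, fun z hz => ?_⟩ :
      {χ : Cfsg.IrrCharacter K // Triv Z χ})) ⟨fun f g e => ?_, ?_⟩).symm
  · show ((f (QuotientGroup.mk' Z z) : ℂˣ) : ℂ) = ((f (QuotientGroup.mk' Z 1) : ℂˣ) : ℂ)
    rw [show QuotientGroup.mk' Z z = QuotientGroup.mk' Z 1 from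
      ((QuotientGroup.eq_one_iff z).2 hz).trans (map_one _).symm]
  · refine QuotientGroup.monoidHom_ext Z (MonoidHom.ext fun x => Units.ext ?_)
    exact congrFun (congrArg Subtype.val (congrArg Subtype.val e)) x
  · rintro ⟨χ, hχ⟩
    obtain ⟨f, hf⟩ := exists_hom_of_deg_one (isCharacter_of_irr χ.2) (h.deg_triv hχ)
    have hker : Z ≤ f.ker := fun z hz => MonoidHom.mem_ker.2 (Units.ext (by
      have e := hχ z hz
      rw [hf] at e
      simpa using e))
    refine ⟨QuotientGroup.lift Z f hker, Subtype.ext (Subtype.ext ?_)⟩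
    rw [hf]
    rfl

/-- A central involution acts by a sign. -/
theorem CentralSquares.scalar (h : CentralSquares Z) {n : ℕ} (ρ : Representation ℂ K (Fin n → ℂ))
    (hρ : ρ.IsIrreducible) {z : K} (hz : z ∈ Z) :
    ∃ c : ℂ, (c = 1 ∨ c = -1) ∧ ρ z = c • LinearMap.id ∧ ∀ x, ρ.character (z * x) = c * ρ.character x := by
  have := hρ
  have hcomm : ∀ g v, ρ z (ρ g v) = ρ g (ρ z v) := fun g v => by
    have e : ρ (z * g) = ρ (g * z) := by rw [h.central z hz g]
    rw [map_mul, map_mul] at e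
    exact LinearMap.congr_fun e v
  obtain ⟨c, hc⟩ := schur_scalar ρ (ρ z) hcomm
  have := nontrivial_of_irreducible ρ
  obtain ⟨v, hv⟩ := exists_ne (0 : Fin n → ℂ)
  have h2 : ρ (z * z) v = v := by rw [h.invol z hz, map_one]; rfl
  rw [map_mul, Module.End.mul_apply, hc] at h2
  simp only [LinearMap.smul_apply, LinearMap.id_apply, smul_smul] at h2
  have hcc : c * c = 1 := smul_left_injective ℂ hv (by simpa using h2)
  refine ⟨c, mul_self_eq_one_iff.1 hcc, hc, fun x => ?_⟩
  show LinearMap.trace ℂ _ (ρ (z * x)) = c * LinearMap.trace ℂ _ (ρ x)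
  rw [map_mul, hc, ← Module.End.one_eq_id, smul_one_mul, map_smul, smul_eq_mul]

/-- The values at `Z` of a character not trivial on `Z` cancel. -/
theorem CentralSquares.sum_eq_zero (h : CentralSquares Z) [Fintype Z] {χ : Cfsg.IrrCharacter K}
    (hχ : ¬ Triv Z χ) : ∑ z : Z, (χ : K → ℂ) z = 0 := by
  obtain ⟨n, ρ, hρ, e⟩ := χ.2
  unfold Triv at hχ
  push Not at hχ
  obtain ⟨z₀, hz₀, hne⟩ := hχ
  obtain ⟨c, hc, -, hmul⟩ := h.scalar ρ hρ hz₀
  rw [← e] at hne ⊢
  rcases hc with rfl | rfl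
  · exact absurd (by have := hmul 1; rwa [mul_one, one_mul] at this) hne
  · have hs := Equiv.sum_comp (Equiv.mulLeft (⟨z₀, hz₀⟩ : Z)) (fun z : Z => ρ.character z)
    simp only [Equiv.coe_mulLeft, Subgroup.coe_mul, hmul, ← Finset.mul_sum] at hs
    linear_combination (-(1 : ℂ) / 2) * hs

/-- The square of the degree is at most the index of `Z`. -/
theorem CentralSquares.deg_sq_le (h : CentralSquares Z) (χ : Cfsg.IrrCharacter K) :
    deg (χ : K → ℂ) ^ 2 ≤ Z.index :=
  Cfsg.Lib.InducedFamily.deg_sq_le_index χ.2 Z fun z hz g => by rw [h.central z hz g, mul_inv_cancel_right, mul_inv_cancel]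

/-- A character vanishing off `Z` has degree squared equal to the index. -/
theorem CentralSquares.deg_sq_eq (h : CentralSquares Z) (χ : Cfsg.IrrCharacter K)
    (hv : ∀ x, x ∉ Z → (χ : K → ℂ) x = 0) : deg (χ : K → ℂ) ^ 2 = Z.index := by
  classical
  obtain ⟨n, ρ, hρ, e⟩ := id χ.2
  have hd : deg (χ : K → ℂ) = n := by
    rw [← e, deg_character]
    simp
  have habs : ∀ z ∈ Z, ‖(χ : K → ℂ) z‖ = n := fun z hz => by
    obtain ⟨c, hc, -, hmul⟩ := h.scalar ρ hρ hz
    rw [← e, ← mul_one z, hmul, ρ.char_one]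
    rcases hc with rfl | rfl <;> simp
  have h1 := classInner_self (χ : K → ℂ)
  rw [classInner_self_irr χ.2] at h1
  have h2 : (Nat.card K : ℝ)⁻¹ * ∑ x : K, ‖(χ : K → ℂ) x‖ ^ 2 = 1 := by exact_mod_cast h1.symm
  have e0 : ∀ x ∈ Finset.univ, x ∉ Finset.univ.filter (· ∈ Z) → ‖(χ : K → ℂ) x‖ ^ 2 = 0 := fun x _ hx => by
    rw [hv x (by simpa using hx)]; simp
  rw [inv_mul_eq_one₀ (Nat.cast_ne_zero.2 Nat.card_pos.ne'),
    ← Finset.sum_subset (Finset.subset_univ (Finset.univ.filter (· ∈ Z))) e0,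
    Finset.sum_congr rfl fun x hx => by rw [habs x (Finset.mem_filter.1 hx).2],
    Finset.sum_const, nsmul_eq_mul] at h2
  have hc : (Finset.univ.filter (· ∈ Z)).card = Nat.card Z := by
    rw [Nat.card_eq_fintype_card, Fintype.card_subtype]
  rw [hc, ← Z.card_mul_index, Nat.cast_mul] at h2
  have h3 := mul_left_cancel₀ (Nat.cast_ne_zero.2 Nat.card_pos.ne') h2
  rw [hd]
  exact_mod_cast h3.symm

end Cfsg.Lib.BenderSuzuki.Degree
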