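import Cfsg.Agent.BenderSuzuki.DegreeFix
import Cfsg.Agent.BenderSuzuki.DegreeTwoPart
import Cfsg.Agent.Chars.Equivalence
import Cfsg.Agent.OddLocal.FittingHall
import Mathlib.GroupTheory.SchurZassenhaus

/-!
`Q` as the product of its 2-part and its odd part, and the corresponding products of characters.
-/

set_option autoImplicit false
set_option linter.unusedSectionVars false

namespace Cfsg.Lib.BenderSuzuki.Degree

open MulAction Cfsg.Lib.RankOne Cfsg.Lib.Chars

universe u v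

variable {G : Type u} {Ω : Type v} [Group G] [Fintype G] [MulAction G Ω] {a : Ω} {t : G} {Q : Subgroup G}

/-- The decomposition of `Q`. -/
structure Split (Q : Subgroup G) where
  S : Subgroup Q
  O : Subgroup Q
  e : S × O ≃* Q
  e_apply : ∀ p, e p = (p.1 : Q) * p.2
  two : IsPGroup 2 S
  odd : Odd (Nat.card O)
  memS : ∀ (x : Q) (j : ℕ), x ^ 2 ^ j = 1 → x ∈ S
  memO : ∀ x : Q, Odd (orderOf x) → x ∈ O

theorem exists_split (hs : Simple G Ω a t Q) : Nonempty (Split Q) := by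
  classical
  have hnil := nilpotent_Q hs.setup hs.two
  have : Fact (Nat.Prime 2) := ⟨Nat.prime_two⟩
  obtain ⟨P⟩ : Nonempty (Sylow 2 Q) := inferInstance
  have hPn : (P : Subgroup Q).Normal := by
    have h := ((Group.isNilpotent_of_finite_tfae (G := Q)).out 0 3).1 hnil
    exact h 2 inferInstance P
  obtain ⟨H, hH⟩ := Subgroup.exists_right_complement'_of_coprime (N := (P : Subgroup Q)) P.card_coprime_index
  obtain ⟨k, hk⟩ := IsPGroup.iff_card.1 P.isPGroup'
  have hHodd : Odd (Nat.card H) := by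
    rw [← Subgroup.IsComplement'.index_eq_card (Subgroup.IsComplement'.symm hH)]
    exact Nat.not_even_iff_odd.1 fun he => P.not_dvd_index (even_iff_two_dvd.1 he)
  have hcop : ∀ x y : Q, x ^ 2 ^ k = 1 → y ^ Nat.card H = 1 → Commute x y := fun x y hx hy =>
    Cfsg.Lib.FittingHall.commute_coprime (Nat.Coprime.of_dvd (orderOf_dvd_of_pow_eq_one hx)
      (orderOf_dvd_of_pow_eq_one hy) (Nat.Coprime.pow_left k hHodd.coprime_two_left))
  have hPk : ∀ p : P, (p : Q) ^ 2 ^ k = 1 := fun p => by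
    rw [← hk]; exact congrArg Subtype.val (pow_card_eq_one' (x := p))
  have hHk : ∀ h : H, (h : Q) ^ Nat.card H = 1 := fun h => congrArg Subtype.val (pow_card_eq_one' (x := h))
  let e : ↥(P : Subgroup Q) × H ≃* Q := MulEquiv.ofBijective
    (MonoidHom.noncommCoprod (P : Subgroup Q).subtype H.subtype fun p h => hcop _ _ (hPk p) (hHk h))
    ⟨fun p r h => hH.1 h, fun x => hH.2 x⟩
  have he : ∀ p, e p = (p.1 : Q) * p.2 := fun p => rfl
  refine ⟨⟨(P : Subgroup Q), H, e, he, P.isPGroup', hHodd, fun x j hx => ?_, fun x hx => ?_⟩⟩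
  · obtain ⟨⟨p, h⟩, rfl⟩ := e.surjective x
    rw [← map_pow, ← map_one e] at hx
    have hh : h ^ 2 ^ j = 1 := congrArg Prod.snd (e.injective hx)
    have h1 : h = 1 := orderOf_eq_one_iff.1 (Nat.eq_one_of_dvd_coprimes
      (Nat.Coprime.pow_left j hHodd.coprime_two_left) (orderOf_dvd_of_pow_eq_one hh) (orderOf_dvd_natCard h))
    rw [he, h1]
    simp
  · obtain ⟨⟨p, h⟩, rfl⟩ := e.surjective x
    have ho : (e (p, h)) ^ orderOf (e (p, h)) = e (1, 1) := by rw [pow_orderOf_eq_one]; exact (map_one e).symm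
    rw [← map_pow] at ho
    have hp : p ^ orderOf (e (p, h)) = 1 := congrArg Prod.fst (e.injective ho)
    have h1 : p = 1 := orderOf_eq_one_iff.1 (Nat.eq_one_of_dvd_coprimes
      (Nat.Coprime.pow_left k hx.coprime_two_left) (orderOf_dvd_of_pow_eq_one
        (Subtype.ext (hPk p))) (orderOf_dvd_of_pow_eq_one hp))
    rw [he, h1]
    simp

variable (P : Split Q)

theorem Split.apply_mem_S (φ : Q ≃* Q) {x : Q} (hx : x ∈ P.S) : φ x ∈ P.S := by
  obtain ⟨j, hj⟩ := P.two ⟨x, hx⟩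
  have h' : x ^ 2 ^ j = 1 := congrArg Subtype.val hj
  exact P.memS _ j (by rw [← map_pow, h', map_one])

theorem Split.apply_mem_O (φ : Q ≃* Q) {x : Q} (hx : x ∈ P.O) : φ x ∈ P.O :=
  P.memO _ (by rw [MulEquiv.orderOf_eq]; exact orderOf_odd_mem P.odd hx)

/-- The action of an automorphism on the 2-part. -/
def Split.onS (φ : Q ≃* Q) : P.S ≃* P.S where
  toFun x := ⟨φ (x : Q), P.apply_mem_S φ x.2⟩
  invFun x := ⟨φ.symm (x : Q), P.apply_mem_S φ.symm x.2⟩
  left_inv x := Subtype.ext (φ.symm_apply_apply (x : Q))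
  right_inv x := Subtype.ext (φ.apply_symm_apply (x : Q))
  map_mul' x y := Subtype.ext (map_mul φ (x : Q) (y : Q))

/-- The action of an automorphism on the odd part. -/
def Split.onO (φ : Q ≃* Q) : P.O ≃* P.O where
  toFun x := ⟨φ (x : Q), P.apply_mem_O φ x.2⟩
  invFun x := ⟨φ.symm (x : Q), P.apply_mem_O φ.symm x.2⟩
  left_inv x := Subtype.ext (φ.symm_apply_apply (x : Q))
  right_inv x := Subtype.ext (φ.apply_symm_apply (x : Q))
  map_mul' x y := Subtype.ext (map_mul φ (x : Q) (y : Q))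

variable [Fintype Q] [Fintype P.S] [Fintype P.O]

theorem Split.card : Nat.card Q = Nat.card P.S * Nat.card P.O := by
  rw [← Nat.card_prod, Nat.card_congr P.e.toEquiv]

/-- The product of two characters. -/
noncomputable def Split.pc (l : Cfsg.IrrCharacter P.S) (m : Cfsg.IrrCharacter P.O) : Cfsg.IrrCharacter Q :=
  ⟨_, IsIrrCharacter.comp_mulEquiv (isIrrCharacter_prod l.2 m.2) P.e.symm⟩

theorem Split.pc_apply (l : Cfsg.IrrCharacter P.S) (m : Cfsg.IrrCharacter P.O) (p : P.S × P.O) :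
    (P.pc l m : Q → ℂ) (P.e p) = (l : P.S → ℂ) p.1 * (m : P.O → ℂ) p.2 := by
  show (l : P.S → ℂ) (P.e.symm (P.e p)).1 * (m : P.O → ℂ) (P.e.symm (P.e p)).2 = _
  rw [P.e.symm_apply_apply]

theorem Split.deg_pc (l : Cfsg.IrrCharacter P.S) (m : Cfsg.IrrCharacter P.O) :
    deg (P.pc l m : Q → ℂ) = deg (l : P.S → ℂ) * deg (m : P.O → ℂ) := by
  apply Nat.cast_injective (R := ℂ)
  rw [Nat.cast_mul, ← irr_apply_one_eq_deg, ← irr_apply_one_eq_deg, ← irr_apply_one_eq_deg, ← map_one P.e,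
    P.pc_apply]
  rfl

theorem Split.pc_bij :
    Function.Bijective fun p : Cfsg.IrrCharacter P.S × Cfsg.IrrCharacter P.O => P.pc p.1 p.2 := by
  refine ⟨fun p r h => ?_, fun χ => ?_⟩
  · have h' : ∀ x : P.S × P.O, (p.1 : P.S → ℂ) x.1 * (p.2 : P.O → ℂ) x.2 = (r.1 : P.S → ℂ) x.1 * (r.2 : P.O → ℂ) x.2 :=
      fun x => by rw [← P.pc_apply, ← P.pc_apply]; exact congrArg (fun χ : Cfsg.IrrCharacter Q => (χ : Q → ℂ) (P.e x)) h
    have e : Cfsg.classInner (fun x : P.S × P.O => (p.1 : P.S → ℂ) x.1 * (p.2 : P.O → ℂ) x.2)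
        (fun x => (r.1 : P.S → ℂ) x.1 * (r.2 : P.O → ℂ) x.2) = 1 := by
      rw [← funext h', classInner_prod, classInner_irr_self, classInner_irr_self, one_mul]
    rw [classInner_prod] at e
    by_contra hne
    by_cases h1 : p.1 = r.1
    · have h2 : p.2 ≠ r.2 := fun h2 => hne (Prod.ext h1 h2)
      rw [classInner_irr_ne h2, mul_zero] at e
      exact zero_ne_one e
    · rw [classInner_irr_ne h1, zero_mul] at e
      exact zero_ne_one e
  · obtain ⟨l, m, hl, hm, e⟩ := exists_prod_of_irr (IsIrrCharacter.comp_mulEquiv χ.2 P.e)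
    refine ⟨(⟨l, hl⟩, ⟨m, hm⟩), Subtype.ext (funext fun x => ?_)⟩
    obtain ⟨p, rfl⟩ := P.e.surjective x
    show (P.pc ⟨l, hl⟩ ⟨m, hm⟩ : Q → ℂ) (P.e p) = _
    rw [P.pc_apply]
    exact (congrFun e p).symm

theorem Split.pc_inj {l l' : Cfsg.IrrCharacter P.S} {m m' : Cfsg.IrrCharacter P.O}
    (h : P.pc l m = P.pc l' m') : l = l' ∧ m = m' :=
  ⟨congrArg Prod.fst (P.pc_bij.1 (a₁ := (l, m)) (a₂ := (l', m')) h),
    congrArg Prod.snd (P.pc_bij.1 (a₁ := (l, m)) (a₂ := (l', m')) h)⟩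

theorem Split.tw_pc [Fintype (twoStab Ω a t)] (hS : Cfsg.IsRankOneSetup G Ω a t Q) (d : twoStab Ω a t)
    (l : Cfsg.IrrCharacter P.S) (m : Cfsg.IrrCharacter P.O) :
    tw hS d (P.pc l m) = P.pc (twG (P.onS (cj hS d)) l) (twG (P.onO (cj hS d)) m) := by
  refine Subtype.ext (funext fun x => ?_)
  obtain ⟨⟨s, o⟩, rfl⟩ := P.e.surjective x
  rw [tw_apply, P.pc_apply, show cj hS d (P.e (s, o)) = P.e (P.onS (cj hS d) s, P.onO (cj hS d) o) by
    rw [P.e_apply, P.e_apply, map_mul]; rfl, P.pc_apply]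
  rfl

theorem cj_trans (hS : Cfsg.IsRankOneSetup G Ω a t Q) (d e : twoStab Ω a t) (x : Q) :
    cj hS e (cj hS d x) = cj hS (e * d) x := Subtype.ext (by
  show (e : G) * ((d : G) * x * (d : G)⁻¹) * (e : G)⁻¹ = (e : G) * d * x * ((e : G) * d)⁻¹
  group)

theorem cj_one (hS : Cfsg.IsRankOneSetup G Ω a t Q) (x : Q) : cj hS 1 x = x := Subtype.ext (by
  show ((1 : twoStab Ω a t) : G) * x * _ = x
  simp)

end Cfsg.Lib.BenderSuzuki.Degree
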