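import Cfsg.Agent.BenderSuzuki.DegreePair

/-!
Induction from `Q`: characters of `Q` of equal degree with trivial stabilisers in `D` occur equally often in
a constituent of the pair.
-/

set_option autoImplicit false
set_option linter.unusedSectionVars false

namespace Cfsg.Lib.BenderSuzuki.Degree

open MulAction Cfsg.Lib.RankOne Cfsg.Lib.Chars
open scoped ComplexConjugate

universe u v

variable {G : Type u} {Ω : Type v} [Group G] [Fintype G] [MulAction G Ω] {a : Ω} {t : G} {Q : Subgroup G}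

/-- Conjugation on `Q` by an element of `G_a`. -/
def cj (hS : Cfsg.IsRankOneSetup G Ω a t Q) (d : twoStab Ω a t) : Q ≃* Q where
  toFun x := ⟨(d : G) * x * (d : G)⁻¹, hS.conj_mem _ (Subgroup.mem_inf.1 d.2).1 _ x.2⟩
  invFun x := ⟨(d : G)⁻¹ * x * (d : G), by
    simpa using hS.conj_mem _ (inv_mem (Subgroup.mem_inf.1 d.2).1) _ x.2⟩
  left_inv x := Subtype.ext (by
    show (d : G)⁻¹ * ((d : G) * x * (d : G)⁻¹) * d = x
    group)
  right_inv x := Subtype.ext (by
    show (d : G) * ((d : G)⁻¹ * x * (d : G)) * (d : G)⁻¹ = x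
    group)
  map_mul' x y := Subtype.ext (by
    show (d : G) * ((x : G) * y) * (d : G)⁻¹ = (d : G) * x * (d : G)⁻¹ * ((d : G) * y * (d : G)⁻¹)
    group)

/-- The conjugate of a character of `Q`. -/
noncomputable def tw (hS : Cfsg.IsRankOneSetup G Ω a t Q) (d : twoStab Ω a t) (μ : Cfsg.IrrCharacter Q) :
    Cfsg.IrrCharacter Q :=
  ⟨fun x => (μ : Q → ℂ) (cj hS d x), IsIrrCharacter.comp_mulEquiv μ.2 (cj hS d)⟩

theorem tw_apply (hS : Cfsg.IsRankOneSetup G Ω a t Q) (d : twoStab Ω a t) (μ : Cfsg.IrrCharacter Q) (x : Q) :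
    (tw hS d μ : Q → ℂ) x = (μ : Q → ℂ) (cj hS d x) := rfl

theorem tw_tw (hS : Cfsg.IsRankOneSetup G Ω a t Q) (d e : twoStab Ω a t) (μ : Cfsg.IrrCharacter Q) :
    tw hS d (tw hS e μ) = tw hS (e * d) μ := Subtype.ext (funext fun x => by
  rw [tw_apply, tw_apply, tw_apply]
  refine congrArg (μ : Q → ℂ) (Subtype.ext ?_)
  show (e : G) * ((d : G) * x * (d : G)⁻¹) * (e : G)⁻¹ = (e : G) * d * x * ((e : G) * d)⁻¹
  group)

theorem tw_one (hS : Cfsg.IsRankOneSetup G Ω a t Q) (μ : Cfsg.IrrCharacter Q) : tw hS 1 μ = μ :=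
  Subtype.ext (funext fun x => by
    rw [tw_apply]
    exact congrArg _ (Subtype.ext (by show ((1 : twoStab Ω a t) : G) * x * _ = x; simp)))

/-- Trivial stabiliser in the two-point stabiliser. -/
def Free (hS : Cfsg.IsRankOneSetup G Ω a t Q) (μ : Cfsg.IrrCharacter Q) : Prop :=
  ∀ d, tw hS d μ = μ → d = 1

theorem Free.ne_principal {hS : Cfsg.IsRankOneSetup G Ω a t Q} {μ : Cfsg.IrrCharacter Q} (h : Free hS μ)
    (hD : twoStab Ω a t ≠ ⊥) : μ ≠ principal Q := by
  rintro rfl
  obtain ⟨d, hd⟩ := Subgroup.ne_bot_iff_exists_ne_one.1 hD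
  exact hd (h d (Subtype.ext rfl))

variable [Fintype Q] [Fintype (twoStab Ω a t)]

/-- The restriction of a function induced from `Q` and vanishing at the identity. -/
theorem ind_apply (hS : Cfsg.IsRankOneSetup G Ω a t Q) {φ : Q → ℂ} (hφ : Cfsg.IsClassFunction Q φ)
    (h1 : φ 1 = 0) (x : Q) :
    Cfsg.indFun Q φ x = ∑ d : twoStab Ω a t, φ (cj hS d x) := by
  classical
  by_cases hx : x = 1
  · subst hx
    rw [Finset.sum_eq_zero fun d _ => by rw [map_one, h1], OneMemClass.coe_one, indFun_apply]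
    have e : Cfsg.extendByZero Q φ 1 = 0 := by
      rw [extendByZero_mem φ Q.one_mem]
      exact h1
    simp [e]
  have hx' : (x : G) ≠ 1 := fun h => hx (Subtype.ext h)
  let ι : twoStab Ω a t × Q → G := fun p => (p.1 : G)⁻¹ * p.2
  have hinj : Function.Injective ι := by
    rintro ⟨d, q⟩ ⟨d', q'⟩ h
    have h' : (d : G)⁻¹ * q = (d' : G)⁻¹ * q' := h
    have e : (d' : G) * (d : G)⁻¹ = q' * (q : G)⁻¹ := by
      calc (d' : G) * (d : G)⁻¹ = d' * ((d : G)⁻¹ * q) * (q : G)⁻¹ := by group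
        _ = d' * ((d' : G)⁻¹ * q') * (q : G)⁻¹ := by rw [h']
        _ = _ := by group
    have hm : (q' : G) * (q : G)⁻¹ ∈ Q ⊓ stabilizer G (t • a) :=
      Subgroup.mem_inf.2 ⟨mul_mem q'.2 (inv_mem q.2), e ▸ (Subgroup.mem_inf.1 (mul_mem d'.2 (inv_mem d.2))).2⟩
    rw [hS.inf_eq_bot, Subgroup.mem_bot] at hm
    rw [hm, mul_inv_eq_one] at e
    rw [mul_inv_eq_one] at hm
    exact Prod.ext (Subtype.ext e.symm) (Subtype.ext hm.symm)
  rw [indFun_apply, ← Fintype.sum_of_injective ι hinj (fun p => φ (cj hS p.1 x))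
    (fun y => Cfsg.extendByZero Q φ (y⁻¹ * (x : G) * y))]
  · rw [Fintype.sum_prod_type]
    simp only [Finset.sum_const, Finset.card_univ, nsmul_eq_mul, ← Nat.card_eq_fintype_card, ← Finset.mul_sum]
    rw [← mul_assoc, inv_mul_cancel₀ (Nat.cast_ne_zero.2 Nat.card_pos.ne'), one_mul]
  · intro y hy
    by_cases hm : y⁻¹ * (x : G) * y ∈ Q
    · exfalso
      have hfx : (x : G) • y • a = y • a := by
        have := fix_a hS hm
        rwa [mul_smul, mul_smul, inv_smul_eq_iff] at this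
      have hya : y • a = a := fix_only hS x.2 hx' hfx
      obtain ⟨q, hq, d, hd, e⟩ := RankOne.qd hS hya
      refine hy ⟨(⟨d⁻¹, inv_mem hd⟩, ⟨d⁻¹ * q * d, ?_⟩), ?_⟩
      · simpa using hS.conj_mem _ (inv_mem (Subgroup.mem_inf.1 hd).1) q hq
      · show d⁻¹⁻¹ * (d⁻¹ * q * d) = y
        rw [e]; group
    · exact extendByZero_not_mem _ hm
  · rintro ⟨d, q⟩
    have e : ((d : G)⁻¹ * q)⁻¹ * (x : G) * ((d : G)⁻¹ * q) = (q : G)⁻¹ * (cj hS d x : G) * q := by
      show _ = (q : G)⁻¹ * ((d : G) * x * (d : G)⁻¹) * q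
      group
    show φ (cj hS d x) = Cfsg.extendByZero Q φ (((d : G)⁻¹ * q)⁻¹ * (x : G) * ((d : G)⁻¹ * q))
    rw [e]
    rw [show (q : G)⁻¹ * (cj hS d x : G) * q = ((q⁻¹ * cj hS d x * q : Q) : G) from rfl, extendByZero_apply]
    exact (classFunction_conj' hφ _ _).symm

/-- Multiplicities of the characters of `Q`. -/
noncomputable def mult (Q : Subgroup G) [Fintype Q] (f : G → ℂ) (μ : Cfsg.IrrCharacter Q) : ℕ :=
  ⌊(Cfsg.classInner (fun x : Q => f x) (μ : Q → ℂ)).re⌋₊

theorem mult_spec {f : G → ℂ} (hf : Cfsg.IsCharacter G f) (μ : Cfsg.IrrCharacter Q) :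
    Cfsg.classInner (fun x : Q => f x) (μ : Q → ℂ) = (mult Q f μ : ℂ) := by
  obtain ⟨m, hm⟩ := IsCharacter.exists_mult (IsCharacter.restrict hf Q) μ.2
  rw [mult, hm]
  simp

theorem mult_expand {f : G → ℂ} (hf : Cfsg.IsCharacter G f) (x : Q) :
    f x = ∑ μ : Cfsg.IrrCharacter Q, (mult Q f μ : ℂ) * (μ : Q → ℂ) x := by
  have h := classFunction_expand_apply (isClassFunction_isChar (IsCharacter.restrict hf Q)) x
  rw [h]
  exact Finset.sum_congr rfl fun μ _ => by rw [mult_spec hf μ]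

theorem mult_tw (hS : Cfsg.IsRankOneSetup G Ω a t Q) {f : G → ℂ} (hf : Cfsg.IsCharacter G f)
    (d : twoStab Ω a t) (μ : Cfsg.IrrCharacter Q) : mult Q f (tw hS d μ) = mult Q f μ := by
  rw [← Nat.cast_inj (R := ℂ), ← mult_spec hf, ← mult_spec hf]
  conv_rhs => rw [← classInner_comp_equiv (cj hS d).toEquiv]
  congr 1
  funext x
  exact (isClassFunction_isChar hf (x : G) (d : G)).symm

theorem IsPair.mult_principal {f g : G → ℂ} (h : IsPair a Q f g) : mult Q f (principal Q) = 1 := by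
  rw [← Nat.cast_inj (R := ℂ), ← mult_spec (isCharacter_of_irr h.irr₁), Nat.cast_one]
  exact h.one₁

theorem IsPair.mult_add {f g : G → ℂ} (h : IsPair a Q f g) {μ : Cfsg.IrrCharacter Q} (hμ : μ ≠ principal Q) :
    mult Q f μ + mult Q g μ = deg (μ : Q → ℂ) := by
  classical
  rw [← Nat.cast_inj (R := ℂ), Nat.cast_add, ← mult_spec (isCharacter_of_irr h.irr₁),
    ← mult_spec (isCharacter_of_irr h.irr₂), ← classInner_add_left, ← irr_apply_one_eq_deg]
  have e : ∀ x : Q, ((fun x : Q => f x) + fun x : Q => g x) x =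
      (1 : ℂ) + if x = 1 then (Nat.card Q : ℂ) else 0 := by
    intro x
    rw [Pi.add_apply]
    split_ifs with hx
    · subst hx; rw [OneMemClass.coe_one, h.res_one, add_comm]
    · rw [add_zero, h.res x x.2 fun e => hx (Subtype.ext e)]
  have h0 : ∑ x : Q, (1 : ℂ) * conj ((μ : Q → ℂ) x) = 0 := by
    have h1 : Cfsg.classInner (fun _ : Q => (1 : ℂ)) (μ : Q → ℂ) = 0 :=
      classInner_irr_ne (χ := principal Q) (ψ := μ) hμ.symm
    rw [classInner_def, mul_eq_zero] at h1
    exact h1.resolve_left (inv_ne_zero (Nat.cast_ne_zero.2 Nat.card_pos.ne'))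
  simp only [classInner_def, e, add_mul, Finset.sum_add_distrib, h0, zero_add, ite_mul, zero_mul,
    Finset.sum_ite_eq', Finset.mem_univ, if_true]
  rw [← mul_assoc, inv_mul_cancel₀ (Nat.cast_ne_zero.2 Nat.card_pos.ne'), one_mul]
  exact (IsCharacter.apply_one_eq_deg (isCharacter_of_irr μ.2)) ▸ by simp [irr_apply_one_eq_deg]

theorem IsPair.mult_le {f g : G → ℂ} (h : IsPair a Q f g) (μ : Cfsg.IrrCharacter Q) :
    mult Q f μ ≤ deg (μ : Q → ℂ) := by
  by_cases hμ : μ = principal Q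
  · rw [hμ, h.mult_principal]
    exact deg_irr_pos _
  · have := h.mult_add hμ
    omega

/-- The bound coming from a family of free characters in distinct orbits. -/
theorem family_bound (hS : Cfsg.IsRankOneSetup G Ω a t Q) (hD : twoStab Ω a t ≠ ⊥) {f g : G → ℂ}
    (h : IsPair a Q f g) {ι : Type*} [Fintype ι] (μ : ι → Cfsg.IrrCharacter Q)
    (hfree : ∀ i, Free hS (μ i)) (hdis : ∀ i j d, tw hS d (μ j) = μ i → i = j)
    (c : ι → ℤ) (hc : ∑ i, c i * (deg (μ i : Q → ℂ) : ℤ) = 0) :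
    2 * (∑ i, c i * (mult Q f (μ i) : ℤ)) ^ 2 ≤ ∑ i, c i ^ 2 ∧
      (2 * (∑ i, c i * (mult Q f (μ i) : ℤ)) ^ 2 = ∑ i, c i ^ 2 → ∑ i, c i * (mult Q f (μ i) : ℤ) = 0) := by
  classical
  set k := ∑ i, c i * (mult Q f (μ i) : ℤ) with hk
  set N := ∑ i, c i ^ 2 with hN
  set φ : Q → ℂ := ∑ i, (c i : ℂ) • (μ i : Q → ℂ) with hφ
  have hφc : Cfsg.IsClassFunction Q φ := fun x y => by
    simp only [hφ, Finset.sum_apply, Pi.smul_apply, isClassFunction_irr _ x y]
  have hφ1 : φ 1 = 0 := by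
    simp only [hφ, Finset.sum_apply, Pi.smul_apply, smul_eq_mul, irr_apply_one_eq_deg]
    exact_mod_cast hc
  set v := Cfsg.indFun Q φ with hv
  have hvv : Cfsg.classInner v v = (N : ℂ) := by
    rw [hv, frobenius_reciprocity Q φ (isClassFunction_indFun Q φ)]
    have e : (fun x : Q => Cfsg.indFun Q φ x) =
        ∑ d : twoStab Ω a t, ∑ j, (c j : ℂ) • (tw hS d (μ j) : Q → ℂ) := funext fun x => by
      rw [ind_apply hS hφc hφ1 x, Finset.sum_apply]
      refine Finset.sum_congr rfl fun d _ => ?_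
      simp only [hφ, Finset.sum_apply, Pi.smul_apply]
      rfl
    rw [e, hφ, classInner_sum_left]
    rw [hN, Int.cast_sum]
    refine Finset.sum_congr rfl fun i _ => ?_
    simp only [classInner_smul_left, classInner_sum_right, classInner_smul_right, map_intCast]
    rw [Finset.sum_eq_single_of_mem (1 : twoStab Ω a t) (Finset.mem_univ _) fun d _ hd => ?_,
      Finset.sum_eq_single_of_mem i (Finset.mem_univ _) fun j _ hj => ?_]
    · rw [tw_one, classInner_irr_self]
      push_cast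
      ring
    · have hne : μ i ≠ tw hS 1 (μ j) := fun e2 => hj (hdis i j 1 e2.symm).symm
      rw [classInner_irr_ne hne, mul_zero, mul_zero]
    · refine Finset.sum_eq_zero fun j _ => ?_
      have hne : μ i ≠ tw hS d (μ j) := fun e2 => by
        obtain rfl := hdis i j d e2.symm
        exact hd (hfree i d e2.symm)
      rw [classInner_irr_ne hne, mul_zero, mul_zero]
  have hpair : ∀ f g : G → ℂ, IsPair a Q f g →
      Cfsg.classInner v f = ((∑ i, c i * (mult Q f (μ i) : ℤ) : ℤ) : ℂ) := by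
    intro f g h
    rw [hv, frobenius_reciprocity Q φ (isClassFunction_isChar (isCharacter_of_irr h.irr₁)), hφ,
      classInner_sum_left, Int.cast_sum]
    refine Finset.sum_congr rfl fun i _ => ?_
    rw [classInner_smul_left, ← classInner_conj_symm, mult_spec (isCharacter_of_irr h.irr₁),
      Complex.conj_natCast]
    push_cast
    rfl
  have hvf : Cfsg.classInner v f = (k : ℂ) := hpair f g h
  have hvg : Cfsg.classInner v g = -(k : ℂ) := by
    rw [hpair g f h.symm, ← Int.cast_neg]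
    congr 1
    have e : ∀ i, (mult Q g (μ i) : ℤ) = deg (μ i : Q → ℂ) - mult Q f (μ i) := fun i => by
      have := h.mult_add ((hfree i).ne_principal hD)
      omega
    simp only [e, mul_sub, Finset.sum_sub_distrib, hc, zero_sub, hk]
  have hfg : f ≠ g := fun e => h.deg_ne (by rw [e])
  set w := v - (k : ℂ) • (f - g) with hw
  have hww : Cfsg.classInner w w = ((N - 2 * k ^ 2 : ℤ) : ℂ) := by
    have hfv : Cfsg.classInner f v = (k : ℂ) := by
      rw [← classInner_conj_symm, hvf, map_intCast]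
    have hgv : Cfsg.classInner g v = -(k : ℂ) := by
      rw [← classInner_conj_symm, hvg, map_neg, map_intCast]
    simp only [hw, classInner_sub_left, classInner_sub_right, classInner_smul_left, classInner_smul_right,
      map_intCast, hvv, hvf, hvg, hfv, hgv, classInner_self_irr h.irr₁, classInner_self_irr h.irr₂,
      classInner_irr_ne (χ := ⟨f, h.irr₁⟩) (ψ := ⟨g, h.irr₂⟩) (fun e => hfg (congrArg Subtype.val e)),
      classInner_irr_ne (χ := ⟨g, h.irr₂⟩) (ψ := ⟨f, h.irr₁⟩) (fun e => hfg.symm (congrArg Subtype.val e))]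
    push_cast
    ring
  refine ⟨?_, fun heq => ?_⟩
  · have h0 : 0 ≤ ((N - 2 * k ^ 2 : ℤ) : ℝ) := by
      have e := classInner_self w
      rw [hww] at e
      have e' : ((N - 2 * k ^ 2 : ℤ) : ℝ) = (Nat.card G : ℝ)⁻¹ * ∑ x : G, ‖w x‖ ^ 2 := by
        exact_mod_cast e
      rw [e']
      positivity
    have h0' : 0 ≤ N - 2 * k ^ 2 := by exact_mod_cast h0
    linarith
  · rw [show N - 2 * k ^ 2 = 0 by omega, Int.cast_zero, classInner_self_eq_zero] at hww
    have e := congrFun hww 1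
    have hv1 : v 1 = 0 := by
      rw [hv, indFun_one, hφ1, mul_zero]
    simp only [hw, Pi.sub_apply, Pi.smul_apply, smul_eq_mul, hv1, zero_sub, Pi.zero_apply, neg_eq_zero,
      mul_eq_zero, sub_eq_zero] at e
    exact_mod_cast e.resolve_right h.deg_ne

/-- Free characters of equal degree have equal multiplicity. -/
theorem mult_eq_of_free (hS : Cfsg.IsRankOneSetup G Ω a t Q) (hD : twoStab Ω a t ≠ ⊥) {f g : G → ℂ}
    (h : IsPair a Q f g) {μ ν : Cfsg.IrrCharacter Q} (hμ : Free hS μ) (hν : Free hS ν)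
    (hdeg : deg (μ : Q → ℂ) = deg (ν : Q → ℂ)) : mult Q f μ = mult Q f ν := by
  by_cases horb : ∃ d, tw hS d ν = μ
  · obtain ⟨d, rfl⟩ := horb
    exact mult_tw hS (isCharacter_of_irr h.irr₁) d ν
  push Not at horb
  obtain ⟨h1, h2⟩ := family_bound hS hD h ![μ, ν] (fun i => by fin_cases i <;> assumption) (fun i j d e => by
    fin_cases i <;> fin_cases j <;> simp only [Fin.zero_eta, Fin.mk_one, Matrix.cons_val_zero,
      Matrix.cons_val_one] at e ⊢
    · exact absurd e (horb d)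
    · refine absurd ?_ (horb d⁻¹)
      rw [← e, tw_tw, mul_inv_cancel, tw_one]) ![1, -1] (by simp [Fin.sum_univ_two, hdeg])
  simp only [Fin.sum_univ_two, Matrix.cons_val_zero, Matrix.cons_val_one, one_mul, neg_mul, one_pow,
    neg_sq] at h1 h2
  have hk : ((mult Q f μ : ℤ) + -(mult Q f ν : ℤ)) ^ 2 ≤ 1 := by linarith
  rcases eq_or_ne ((mult Q f μ : ℤ) + -(mult Q f ν : ℤ)) 0 with h0 | h0
  · omega
  · have h3 : 0 < ((mult Q f μ : ℤ) + -(mult Q f ν : ℤ)) ^ 2 := by positivity
    exact absurd (h2 (by linarith)) h0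

/-- A free character of larger degree against a large family of equal degree. -/
theorem mult_eq_smul (hS : Cfsg.IsRankOneSetup G Ω a t Q) (hD : twoStab Ω a t ≠ ⊥) {f g : G → ℂ}
    (h : IsPair a Q f g) {ι : Type*} [Fintype ι] [Nonempty ι] (μ : ι → Cfsg.IrrCharacter Q)
    (hfree : ∀ i, Free hS (μ i)) (hdis : ∀ i j d, tw hS d (μ j) = μ i → i = j) {l b δ : ℕ}
    (hl : ∀ i, deg (μ i : Q → ℂ) = l) (hb : ∀ i, mult Q f (μ i) = b)
    {ν : Cfsg.IrrCharacter Q} (hν : Free hS ν) (hδ : deg (ν : Q → ℂ) = δ * l)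
    (hsmall : δ ^ 2 < Fintype.card ι) : mult Q f ν = δ * b := by
  classical
  obtain ⟨i₀⟩ := (inferInstance : Nonempty ι)
  by_cases hδ1 : δ = 1
  · subst hδ1
    rw [one_mul, ← hb i₀]
    exact mult_eq_of_free hS hD h hν (hfree i₀) (by rw [hδ, one_mul, hl])
  have hdegtw : ∀ i d, deg (tw hS d (μ i) : Q → ℂ) = l := fun i d => by
    rw [← hl i]
    exact congrArg (fun z : ℂ => ⌊z.re⌋₊) (by rw [tw_apply, map_one])
  have hl0 : 0 < l := hl i₀ ▸ deg_irr_pos _
  let fam : Option ι → Cfsg.IrrCharacter Q := fun o => o.elim ν μ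
  let c : Option ι → ℤ := fun o => o.elim (-(Fintype.card ι : ℤ)) fun _ => δ
  obtain ⟨h1, -⟩ := family_bound hS hD h fam (fun o => by cases o <;> simp [fam, hν, hfree])
    (fun o o' d e => by
      rcases o with _ | i <;> rcases o' with _ | j <;> simp only [fam, Option.elim] at e ⊢
      · exfalso
        have := congrArg (fun χ : Cfsg.IrrCharacter Q => deg (χ : Q → ℂ)) e
        simp only [hdegtw, hδ] at this
        exact hδ1 (Nat.eq_of_mul_eq_mul_right hl0 (this.symm.trans (one_mul l).symm))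
      · exfalso
        have := congrArg (fun χ : Cfsg.IrrCharacter Q => deg (χ : Q → ℂ)) e
        rw [show deg (tw hS d ν : Q → ℂ) = deg (ν : Q → ℂ) from
          congrArg (fun z : ℂ => ⌊z.re⌋₊) (by rw [tw_apply, map_one])] at this
        simp only [hl, hδ] at this
        exact hδ1 (Nat.eq_of_mul_eq_mul_right hl0 (this.trans (one_mul l).symm))
      · rw [hdis i j d e])
    c (by
      simp only [Fintype.sum_option, fam, c, Option.elim, hl, hδ, Finset.sum_const, Finset.card_univ,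
        nsmul_eq_mul]
      push_cast
      ring)
  simp only [Fintype.sum_option, fam, c, Option.elim, hb, Finset.sum_const, Finset.card_univ,
    nsmul_eq_mul, neg_sq] at h1
  set L : ℤ := (Fintype.card ι : ℤ)
  have hL : (1 : ℤ) ≤ L := by simp only [L]; exact_mod_cast Fintype.card_pos
  have hs : (δ : ℤ) ^ 2 < L := by simp only [L]; exact_mod_cast hsmall
  set k : ℤ := (δ : ℤ) * b - (mult Q f ν : ℤ)
  have h1' : 2 * (L * k) ^ 2 ≤ L ^ 2 + L * (δ : ℤ) ^ 2 := by
    refine le_trans (le_of_eq ?_) h1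
    simp only [k]
    ring
  have hk : k = 0 := by
    by_contra hk
    have hk1 : 1 ≤ k ^ 2 := by have : 0 < k ^ 2 := by positivity
                               omega
    nlinarith [mul_le_mul_of_nonneg_left hk1 (sq_nonneg L), mul_lt_mul_of_pos_left hs (show (0 : ℤ) < L by omega)]
  simp only [k, sub_eq_zero] at hk
  exact_mod_cast hk.symm

end Cfsg.Lib.BenderSuzuki.Degree
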