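import Cfsg.Agent.BenderSuzuki.Steps
import Cfsg.Agent.RankOne.More
import Cfsg.Agent.OddChar.PF.OddOrder
import Cfsg.Agent.OddChar.Dual
import Cfsg.Agent.Chars.Perm
import Cfsg.Agent.Blocks.Solomon

/-!
A linear character of the point stabiliser, trivial on `Q`, whose values are invariant under the swap.
-/

set_option autoImplicit false
set_option linter.unusedSectionVars false

namespace Cfsg.Lib.BenderSuzuki.Degree

open MulAction Cfsg.Lib.RankOne Cfsg.Lib.Chars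

universe u v

variable {G : Type u} {Ω : Type v} [Group G] [Finite G] [MulAction G Ω] {a : Ω} {t : G} {Q : Subgroup G}

/-- The point stabiliser. -/
abbrev ptStab (G : Type u) [Group G] [MulAction G Ω] (a : Ω) : Subgroup G := stabilizer G a

/-- A nontrivial linear character of the two-point stabiliser invariant under `t`. -/
theorem exists_psi (hs : Simple G Ω a t Q) (hW : centT Ω a t ≠ ⊥) :
    ∃ ψ : twoStab Ω a t →* ℂˣ, (∀ d e : twoStab Ω a t, (e : G) = t * d * t⁻¹ → ψ e = ψ d) ∧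
      ∃ d, ψ d ≠ 1 := by
  classical
  obtain ⟨C, hC, -, hCn⟩ := inverted_subgroup hs.setup hs.two
  set D := twoStab Ω a t
  let N : Subgroup D := C.subgroupOf D
  have hN : N.Normal := ⟨fun c hc d => hCn d d.2 c hc⟩
  obtain ⟨⟨x, hx⟩, hx1⟩ := Subgroup.ne_bot_iff_exists_ne_one.1 hW
  obtain ⟨hxD, hxt⟩ := Subgroup.mem_inf.1 hx
  have hodd : Odd (Nat.card D) := hs.setup.odd_card
  have hxn : (⟨x, hxD⟩ : D) ∉ N := by
    intro h
    have h' : x ∈ Cfsg.invertedBy D t := hC ▸ (show x ∈ (C : Set G) from h)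
    have e := h'.2
    rw [← Subgroup.mem_centralizer_singleton_iff.1 hxt, mul_inv_cancel_right] at e
    exact hx1 (Subtype.ext (eq_one_of_odd_inv (orderOf_odd_mem hodd hxD) e.symm))
  have : Nontrivial (D ⧸ N) := ⟨⟨QuotientGroup.mk ⟨x, hxD⟩, 1, fun h => hxn
    ((QuotientGroup.eq_one_iff _).1 h)⟩⟩
  have : Group.IsSolvable (D ⧸ N) :=
    Cfsg.Agent.PF.isSolvable_of_odd _ (hodd.of_dvd_nat (Subgroup.card_quotient_dvd_card _))
  have hlt := Group.IsSolvable.commutator_lt_top_of_nontrivial (G := D ⧸ N)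
  obtain ⟨y, hy⟩ : ∃ y : D ⧸ N, y ∉ commutator (D ⧸ N) := by
    by_contra h
    push Not at h
    exact hlt.ne (eq_top_iff.2 fun y _ => h y)
  have hy1 : Abelianization.of y ≠ 1 := fun h => hy ((QuotientGroup.eq_one_iff _).1 h)
  obtain ⟨f, hf⟩ := Cfsg.Lib.Dual.exists_hom_ne_one (A := Abelianization (D ⧸ N))
    (fun u v => mul_comm u v) hy1
  refine ⟨f.comp (Abelianization.of.comp (QuotientGroup.mk' N)), fun d e he => ?_, ?_⟩
  · obtain ⟨⟨y', z⟩, ⟨hy', hz, hd⟩, -⟩ :=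
      factor hs.setup.mul_self hodd (fun x hx => conj_D hs.setup hx) d.2
    simp only at hy' hz hd
    obtain ⟨hyD, hyt⟩ := Subgroup.mem_inf.1 hy'
    have hzN : ∀ w : D, (w : G) ∈ Cfsg.invertedBy D t → (QuotientGroup.mk' N) w = 1 := fun w hw =>
      (QuotientGroup.eq_one_iff _).2 (show (w : G) ∈ C by rw [← SetLike.mem_coe, hC]; exact hw)
    have hyt' : t * y' * t⁻¹ = y' := by
      rw [← Subgroup.mem_centralizer_singleton_iff.1 hyt, mul_inv_cancel_right]
    have hd' : d = ⟨y', hyD⟩ * ⟨z, hz.1⟩ := Subtype.ext hd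
    have he' : e = ⟨y', hyD⟩ * ⟨z, hz.1⟩⁻¹ := Subtype.ext (by
      show (e : G) = y' * z⁻¹
      rw [he, hd, show t * (y' * z) * t⁻¹ = (t * y' * t⁻¹) * (t * z * t⁻¹) by group, hyt', hz.2])
    rw [hd', he', map_mul, map_mul, map_inv]
    simp only [MonoidHom.comp_apply]
    rw [hzN ⟨z, hz.1⟩ hz, map_one, map_one, inv_one]
  · obtain ⟨d, hd⟩ := QuotientGroup.mk'_surjective N y
    refine ⟨d, ?_⟩
    show f (Abelianization.of (QuotientGroup.mk' N d)) ≠ 1
    rw [hd]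
    exact hf

/-- The coordinates in `G_a = Q D` are unique. -/
theorem qd_unique (hs : Cfsg.IsRankOneSetup G Ω a t Q) {q q' d d' : G} (hq : q ∈ Q) (hq' : q' ∈ Q)
    (hd : d ∈ twoStab Ω a t) (hd' : d' ∈ twoStab Ω a t) (h : q * d = q' * d') : q = q' ∧ d = d' := by
  have e : q'⁻¹ * q = d' * d⁻¹ := by
    rw [show d' = q'⁻¹ * (q' * d') by group, ← h]; group
  have hm : q'⁻¹ * q ∈ Q ⊓ stabilizer G (t • a) :=
    Subgroup.mem_inf.2 ⟨Q.mul_mem (Q.inv_mem hq') hq, e ▸ (Subgroup.mem_inf.1 (mul_mem hd' (inv_mem hd))).2⟩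
  rw [hs.inf_eq_bot, Subgroup.mem_bot, inv_mul_eq_one] at hm
  exact ⟨hm.symm, mul_left_cancel (hm ▸ h)⟩

/-- The linear characters of `G_a` considered here. -/
structure IsTheta (a : Ω) (t : G) (Q : Subgroup G) (θ : ptStab G a →* ℂˣ) : Prop where
  on_Q : ∀ x : ptStab G a, (x : G) ∈ Q → θ x = 1
  invt : ∀ d e : ptStab G a, (d : G) ∈ twoStab Ω a t → (e : G) = t * d * t⁻¹ → θ e = θ d
  ne : θ ≠ 1

theorem exists_theta (hs : Simple G Ω a t Q) (hW : centT Ω a t ≠ ⊥) :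
    ∃ θ : ptStab G a →* ℂˣ, IsTheta a t Q θ := by
  classical
  obtain ⟨ψ, hψt, d₀, hd₀⟩ := exists_psi hs hW
  have hex : ∀ h : ptStab G a, ∃ d : twoStab Ω a t, ∃ q ∈ Q, (h : G) = q * d := fun h => by
    obtain ⟨q, hq, d, hd, e⟩ := RankOne.qd hs.setup h.2
    exact ⟨⟨d, hd⟩, q, hq, e⟩
  choose δ hδ using hex
  have huni : ∀ (h : ptStab G a) (d : twoStab Ω a t) (q : G), q ∈ Q → (h : G) = q * d → δ h = d := by
    intro h d q hq e
    obtain ⟨q', hq', e'⟩ := hδ h
    exact Subtype.ext (qd_unique hs.setup hq' hq (δ h).2 d.2 (e'.symm.trans e)).2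
  let π : ptStab G a →* twoStab Ω a t := MonoidHom.mk' δ fun g h => by
    obtain ⟨q, hq, e⟩ := hδ g
    obtain ⟨q', hq', e'⟩ := hδ h
    refine huni _ _ (q * ((δ g : G) * q' * (δ g : G)⁻¹))
      (Q.mul_mem hq (hs.setup.conj_mem _ (Subgroup.mem_inf.1 (δ g).2).1 q' hq')) ?_
    rw [Subgroup.coe_mul, Subgroup.coe_mul, e, e']
    group
  have hπD : ∀ d : ptStab G a, ∀ hd : (d : G) ∈ twoStab Ω a t, π d = ⟨d, hd⟩ := fun d hd =>
    huni d ⟨d, hd⟩ 1 Q.one_mem (one_mul _).symm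
  refine ⟨ψ.comp π, fun x hx => ?_, fun d e hd he => ?_, fun h => hd₀ ?_⟩
  · rw [MonoidHom.comp_apply, show π x = 1 from huni x 1 x hx (by simp), map_one]
  · have heD : (e : G) ∈ twoStab Ω a t := by rw [he]; exact conj_D hs.setup hd
    rw [MonoidHom.comp_apply, MonoidHom.comp_apply, hπD d hd, hπD e heD]
    exact hψt _ _ he
  · have := DFunLike.congr_fun h ⟨d₀, (Subgroup.mem_inf.1 d₀.2).1⟩
    rwa [MonoidHom.comp_apply, hπD _ d₀.2] at this

variable {θ : ptStab G a →* ℂˣ}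

/-- `θ` is trivial on elements of `G_a` inverted by an involution. -/
theorem theta_eq_one (hs : Simple G Ω a t Q) (hθ : IsTheta a t Q θ) (y : ptStab G a) (s : G)
    (hs2 : s * s = 1) (hinv : s * y * s⁻¹ = (y : G)⁻¹) : θ y = 1 := by
  have hS := hs.setup
  have hodd := hS.odd_card
  have hsq : θ y = (θ y)⁻¹ → θ y = 1 := by
    intro h
    obtain ⟨q, hq, d, hd, e⟩ := RankOne.qd hS y.2
    have hy : θ y = θ ⟨d, (Subgroup.mem_inf.1 hd).1⟩ := by
      rw [show y = ⟨q, hS.le hq⟩ * ⟨d, (Subgroup.mem_inf.1 hd).1⟩ from Subtype.ext e, map_mul,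
        hθ.on_Q ⟨q, hS.le hq⟩ hq, one_mul]
    have hp : (θ y) ^ Nat.card (twoStab Ω a t) = 1 := by
      rw [hy, ← map_pow]
      convert map_one θ
      refine Subtype.ext ?_
      show d ^ Nat.card (twoStab Ω a t) = 1
      exact congrArg Subtype.val (pow_card_eq_one' (x := (⟨d, hd⟩ : twoStab Ω a t)))
    obtain ⟨k, hk⟩ := hodd
    have h2 : θ y * θ y = 1 := by nth_rw 2 [h]; exact mul_inv_cancel _
    rwa [hk, pow_succ, pow_mul, sq, h2, one_pow, one_mul] at hp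
  by_cases hsa : s • a = a
  · refine hsq ?_
    rw [← map_inv, show y⁻¹ = ⟨s, hsa⟩ * y * ⟨s, hsa⟩⁻¹ from Subtype.ext (by simp [hinv])]
    simp only [map_mul, map_inv]
    rw [mul_comm (θ ⟨s, hsa⟩) (θ y), mul_inv_cancel_right]
  · obtain ⟨g, hg, hgt⟩ := trans₂ hS (ta_ne hS).symm (Ne.symm hsa)
    have hys : (y : G) • s • a = s • a := by
      have e : (y : G) * s = s * (y : G)⁻¹ := by
        rw [← hinv]; simp only [← mul_assoc, hs2, one_mul, inv_of_sq hs2]
      rw [← mul_smul, e, mul_smul, inv_smul_eq_iff.2 (show (y : G) • a = a from y.2).symm]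
    set s' := g⁻¹ * s * g with hs'
    set y' := g⁻¹ * y * g with hy'
    have hs'a : s' • a = t • a := by rw [hs', mul_smul, mul_smul, hg, ← hgt, inv_smul_smul]
    have hs't : s' • t • a = a := by
      rw [hs', mul_smul, mul_smul, hgt, ← mul_smul s s, hs2, one_smul, inv_smul_eq_iff, hg]
    have hy'D : y' ∈ twoStab Ω a t := by
      refine Subgroup.mem_inf.2 ⟨?_, ?_⟩
      · show y' • a = a
        rw [hy', mul_smul, mul_smul, hg, show (y : G) • a = a from y.2, inv_smul_eq_iff, hg]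
      · show y' • t • a = t • a
        rw [hy', mul_smul, mul_smul, hgt, hys, inv_smul_eq_iff, hgt]
    have hhD : t * s' ∈ twoStab Ω a t := by
      refine Subgroup.mem_inf.2 ⟨?_, ?_⟩
      · show (t * s') • a = a
        rw [mul_smul, hs'a, t_ta hS]
      · show (t * s') • t • a = t • a
        rw [mul_smul, hs't]
    have hga : g ∈ ptStab G a := hg
    set Y : ptStab G a := ⟨g, hga⟩⁻¹ * y * ⟨g, hga⟩ with hY
    set h : ptStab G a := ⟨t * s', (Subgroup.mem_inf.1 hhD).1⟩ with hh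
    have hYy : θ Y = θ y := by
      simp only [hY, map_mul, map_inv]
      rw [mul_comm (θ ⟨g, hga⟩)⁻¹, inv_mul_cancel_right]
    have hi : s' * y' * s'⁻¹ = y'⁻¹ := by
      calc s' * y' * s'⁻¹ = g⁻¹ * (s * y * s⁻¹) * g := by rw [hs', hy']; group
        _ = y'⁻¹ := by rw [hinv, hy']; group
    have hhY : θ (h * Y * h⁻¹) = θ Y := by
      simp only [map_mul, map_inv]
      rw [mul_comm (θ h), mul_inv_cancel_right]
    have hmem : ((h * Y * h⁻¹ : ptStab G a) : G) ∈ twoStab Ω a t :=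
      mul_mem (mul_mem hhD hy'D) (inv_mem hhD)
    have h1 := hθ.invt (h * Y * h⁻¹) Y⁻¹ hmem (by
      show y'⁻¹ = t * (t * s' * y' * (t * s')⁻¹) * t⁻¹
      rw [← hi, show t * (t * s' * y' * (t * s')⁻¹) * t⁻¹ = (t * t) * (s' * y' * s'⁻¹) * (t * t)⁻¹ by group,
        hS.mul_self]
      group)
    rw [hhY, map_inv, hYy] at h1
    exact hsq h1.symm

/-- Conjugates inside `G_a` have the same value. -/
theorem theta_conj (hs : Simple G Ω a t Q) (hθ : IsTheta a t Q θ) (h : ptStab G a) (x : G)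
    (hx : x⁻¹ * h * x ∈ ptStab G a) : θ ⟨_, hx⟩ = θ h := by
  have hS := hs.setup
  by_cases hxa : x ∈ ptStab G a
  · rw [show (⟨_, hx⟩ : ptStab G a) = ⟨x, hxa⟩⁻¹ * h * ⟨x, hxa⟩ from Subtype.ext rfl]
    simp only [map_mul, map_inv]
    rw [mul_comm (θ ⟨x, hxa⟩)⁻¹, inv_mul_cancel_right]
  · have hp : x • a ≠ a := hxa
    obtain ⟨⟨q, hqQ⟩, hq, -⟩ := regular hS (ta_ne hS) hp
    have hq' : q • t • a = x • a := hq
    have hk : t⁻¹ * q⁻¹ * x ∈ ptStab G a := by
      show (t⁻¹ * q⁻¹ * x) • a = a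
      rw [mul_smul, mul_smul, ← hq', inv_smul_smul, t_inv hS, t_ta hS]
    have hhx : (h : G) • x • a = x • a := by
      have h1 : (x⁻¹ * (h : G) * x) • a = a := hx
      rwa [mul_smul, mul_smul, inv_smul_eq_iff] at h1
    have hdD : q⁻¹ * (h : G) * q ∈ twoStab Ω a t := by
      refine Subgroup.mem_inf.2 ⟨(ptStab G a).mul_mem ((ptStab G a).mul_mem (inv_mem (hS.le hqQ)) h.2) (hS.le hqQ), ?_⟩
      show (q⁻¹ * (h : G) * q) • t • a = t • a
      rw [mul_smul, mul_smul, hq', hhx, ← hq', inv_smul_smul]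
    set k : ptStab G a := ⟨_, hk⟩
    set d : ptStab G a := ⟨_, (Subgroup.mem_inf.1 hdD).1⟩ with hd
    set e : ptStab G a := ⟨_, (Subgroup.mem_inf.1 (conj_D hS hdD)).1⟩
    have he : θ e = θ d := hθ.invt d e hdD rfl
    have hde : θ d = θ h := by
      rw [hd, show (⟨_, (Subgroup.mem_inf.1 hdD).1⟩ : ptStab G a) = ⟨q, hS.le hqQ⟩⁻¹ * h * ⟨q, hS.le hqQ⟩
        from Subtype.ext rfl]
      simp only [map_mul, map_inv]
      rw [hθ.on_Q ⟨q, hS.le hqQ⟩ hqQ]
      simp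
    rw [show (⟨_, hx⟩ : ptStab G a) = k⁻¹ * e * k from Subtype.ext (by
      show x⁻¹ * h * x = (t⁻¹ * q⁻¹ * x)⁻¹ * (t * (q⁻¹ * h * q) * t⁻¹) * (t⁻¹ * q⁻¹ * x)
      rw [t_inv hS]
      simp only [mul_inv_rev, inv_inv, t_inv hS, mul_assoc]
      rw [← mul_assoc t t, hS.mul_self, one_mul, ← mul_assoc t t, hS.mul_self, one_mul]
      group)]
    simp only [map_mul, map_inv]
    rw [mul_comm (θ k)⁻¹, inv_mul_cancel_right, he, hde]

variable [Fintype G]

/-- The induced trivial character counts fixed points. -/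
theorem ind_one_apply (hS : Cfsg.IsRankOneSetup G Ω a t Q) (g : G) :
    Cfsg.indFun (ptStab G a) (fun _ => (1 : ℂ)) g = (Nat.card (fixedBy Ω g) : ℂ) := by
  rw [Cfsg.Lib.Blocks.indFun_one_eq_fixCount, Cfsg.Lib.Blocks.fixCount]
  congr 1
  refine Nat.card_eq_of_bijective (fun q => (⟨ofQuotientStabilizer G a q.1, ?_⟩ : fixedBy Ω g)) ⟨?_, ?_⟩
  · show g • _ = _
    rw [← ofQuotientStabilizer_smul, q.2]
  · exact fun q r h => Subtype.ext (injective_ofQuotientStabilizer G a (congrArg Subtype.val h))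
  · rintro ⟨p, hp⟩
    obtain ⟨x, hx⟩ := trans₁ hS a p
    refine ⟨⟨QuotientGroup.mk x, injective_ofQuotientStabilizer G a ?_⟩, Subtype.ext hx⟩
    rw [ofQuotientStabilizer_smul, ofQuotientStabilizer_mk, hx]
    exact hp

/-- A nontrivial element of `Q` fixes one point. -/
theorem fix_Q (hS : Cfsg.IsRankOneSetup G Ω a t Q) {x : G} (hx : x ∈ Q) (hx1 : x ≠ 1) :
    Nat.card (fixedBy Ω x) = 1 := by
  have : Subsingleton (fixedBy Ω x) := ⟨fun p r =>
    Subtype.ext ((fix_only hS hx hx1 p.2).trans (fix_only hS hx hx1 r.2).symm)⟩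
  have : Nonempty (fixedBy Ω x) := ⟨⟨a, fix_a hS hx⟩⟩
  exact Nat.card_of_subsingleton ⟨a, fix_a hS hx⟩

/-- There are two orbits of `G_a`. -/
theorem orbits_two (hS : Cfsg.IsRankOneSetup G Ω a t Q) :
    Nat.card (orbitRel.Quotient (ptStab G a) Ω) = 2 := by
  classical
  rw [← Fintype.card_bool, ← Nat.card_eq_fintype_card]
  refine (Nat.card_eq_of_bijective
    (fun b : Bool => (Quotient.mk'' (if b then t • a else a) : orbitRel.Quotient (ptStab G a) Ω)) ⟨?_, ?_⟩).symm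
  · have key : (Quotient.mk'' (t • a) : orbitRel.Quotient (ptStab G a) Ω) ≠ Quotient.mk'' a := fun h => by
      have h' : t • a ∈ orbit (ptStab G a) a := Quotient.exact' h
      obtain ⟨k, hk⟩ := h'
      exact ta_ne hS (hk.symm.trans k.2)
    intro b c h
    cases b <;> cases c <;> simp only [Bool.false_eq_true, if_false, if_true] at h ⊢
    · exact absurd h.symm key
    · exact absurd h key
  · intro o
    induction o using Quotient.inductionOn' with
    | _ p =>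
      by_cases hp : p = a
      · exact ⟨false, by rw [hp]; rfl⟩
      · refine ⟨true, Quotient.sound' ?_⟩
        obtain ⟨q, hq, -⟩ := regular hS hp (ta_ne hS)
        exact ⟨⟨q.1, hS.le q.2⟩, hq⟩

end Cfsg.Lib.BenderSuzuki.Degree
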