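import Cfsg.Agent.BenderSuzuki.Assembly
import Cfsg.Agent.BenderSuzuki.SimpleEmbedded

/-!
Strongly embedded subgroups with a regular normal subgroup, reduced to the unitary step.
-/

set_option autoImplicit false

namespace Cfsg.Lib.BenderSuzuki

open MulAction Cfsg.Lib.RankOne

universe u

/-- The form used for strongly embedded subgroups: the acted-on set in the universe of the group. -/
theorem classification_same (hU : UnitaryStep.{u, u}) : Classification.{u} := by
  intro G Ω _ _ _ _ a t Q hS h2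
  exact classification_of_unitary hU hS h2

theorem simple_embedded_of_unitary (hU : UnitaryStep.{u, u}) {G : Type u} [Group G] [Finite G] [IsSimpleGroup G]
    (H : Subgroup G) (hH : Cfsg.IsStronglyEmbedded H) (Q : Subgroup G) (hQH : Q ≤ H)
    (hQn : (Q.subgroupOf H).Normal) (htrans : ∀ g₁ g₂ : G, g₁ ∉ H → g₂ ∉ H → ∃ u ∈ Q, g₂⁻¹ * (u * g₁) ∈ H)
    (hreg : ∀ g : G, g ∉ H → ∀ u ∈ Q, g⁻¹ * (u * g) ∈ H → u = 1) :
    (∃ (F : Type) (_ : Field F) (_ : Fintype F), CharP F 2 ∧ 4 ≤ Fintype.card F ∧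
      Nonempty (G ≃* Matrix.ProjectiveSpecialLinearGroup (Fin 2) F)) ∨ Cfsg.IsSuzuki G ∨
    (∃ (F : Type) (_ : Field F) (_ : Fintype F) (q : ℕ), Fintype.card F = q ^ 2 ∧ Even q ∧ 4 ≤ q ∧
      Nonempty (G ≃* Cfsg.PSU 3 F q)) :=
  simple_embedded (classification_same hU) H hH Q hQH hQn htrans hreg

end Cfsg.Lib.BenderSuzuki
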