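import Cfsg.Agent.BenderSuzuki.Steps

/-!
The induction: the steps give the classification.
-/

set_option autoImplicit false

namespace Cfsg.Lib.BenderSuzuki

open MulAction Cfsg.Lib.RankOne

universe u v

theorem good_of_steps (hA : AlphaStep.{u, v}) (hB : BetaStep.{u, v}) (hC : GammaStep.{u, v})
    (hL : LinearStep.{u, v}) (hS : SuzukiStep.{u, v}) (hU : UnitaryStep.{u, v}) (N : ℕ) : IH.{u, v} N := by
  induction N with
  | zero => intro H _ _ Λ _ b u R hlt; exact absurd hlt (Nat.not_lt_zero _)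
  | succ N ih =>
    intro H _ _ Λ _ b u R hlt hs
    rcases (Nat.lt_succ_iff.1 hlt).lt_or_eq with h | h
    · exact ih H Λ b u R h hs
    have ih' : IH.{u, v} (Nat.card H) := h ▸ ih
    have hd : Dich b u R := by
      by_cases hw : ∃ w ∈ centT Λ b u, (orderOf w).Prime ∧ w ∉ centI Λ b u
      · obtain ⟨w, h1, h2, h3⟩ := hw
        exact hA hs ih' w h1 h2 h3
      push Not at hw
      by_cases hV : centI Λ b u = ⊥
      · refine hC hs ?_
        by_contra hne
        obtain ⟨⟨x, hx⟩, hx1⟩ := Subgroup.ne_bot_iff_exists_ne_one.1 hne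
        obtain ⟨p, hp, hpd⟩ := Nat.exists_prime_and_dvd (n := orderOf x)
          (fun h => hx1 (Subtype.ext (orderOf_eq_one_iff.1 h)))
        have ho : orderOf (x ^ (orderOf x / p)) = p := orderOf_pow_orderOf_div (orderOf_pos x).ne' hpd
        have hm := hw _ (Subgroup.pow_mem _ hx (orderOf x / p)) (ho.symm ▸ hp)
        rw [hV, Subgroup.mem_bot] at hm
        rw [hm, orderOf_one] at ho
        exact hp.ne_one ho.symm
      · exact hB hs ih' hw hV
    have hq : 2 ≤ qNum H b := by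
      obtain ⟨s, hs'⟩ := exists_invol hs.setup
      haveI : Nonempty (invl H b) := ⟨⟨s, hs'⟩⟩
      have := Nat.card_pos (α := invl H b)
      unfold qNum
      omega
    rcases hd with ⟨hl, hn⟩ | ⟨hl, hn, hna⟩ | ⟨hl, hn, hna, hV⟩
    · refine ⟨Or.inl ⟨hl, hn⟩, fun h3 => ?_, hL hs hl hn⟩
      exact absurd (hn.symm.trans h3) (Nat.ne_of_lt (lt_self_pow₀ hq (by norm_num)))
    · refine ⟨Or.inr (Or.inl ⟨hl, hn, hna⟩), fun h3 => ?_, hS hs hl hn hna⟩
      exact absurd (hn.symm.trans h3) (Nat.ne_of_lt (Nat.pow_lt_pow_right hq (by norm_num)))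
    · obtain ⟨h1, h2⟩ := hU hs ih' hl hn hna hV
      exact ⟨Or.inr (Or.inr ⟨hl, hn, hna, hV⟩), fun _ => h1, h2⟩

theorem classification_of_steps (hR : ReduceStep.{u, v}) (hI : ∀ N, IH.{u, v} N) {G : Type u} {Ω : Type v}
    [Group G] [Finite G] [MulAction G Ω] [FaithfulSMul G Ω] {a : Ω} {t : G} {Q : Subgroup G}
    (hS : Cfsg.IsRankOneSetup G Ω a t Q)
    (h2 : ∃ x y : G, x ≠ 1 ∧ y ≠ 1 ∧ x ≠ y ∧ x * x = 1 ∧ y * y = 1 ∧ x * y = y * x) :
    ∃ L : Subgroup G, L.Normal ∧ Odd L.index ∧ Ident L := by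
  obtain ⟨L, ht, hn, hodd, -, hL⟩ := hR hS h2
  exact ⟨L, hn, hodd, (hI _ L Ω a ⟨t, ht⟩ _ (Nat.lt_succ_self _) hL).ident⟩

end Cfsg.Lib.BenderSuzuki
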