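import Cfsg.Agent.BenderSuzuki.Defs
import Cfsg.Agent.SuzukiTwo.Setup
import Cfsg.Agent.SuzukiTwo.ClassTwo

/-!
# A kernel of order `q ^ 2` with a regular cyclic group on its involutions

The data needed for the Suzuki coordinates, and its verification in a rank one group whose partner has order four.
-/

set_option autoImplicit false
set_option linter.unusedSectionVars false
set_option linter.style.haveILetI false

namespace Cfsg.Lib.BenderSuzuki

open MulAction Cfsg.Lib.RankOne

universe u v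

variable {G : Type u} [Group G]

/-- A nonabelian 2-group `H` and an odd group `E` acting regularly on its involutions. -/
structure SzKern (H E : Subgroup G) : Prop where
  p2 : IsPGroup 2 H
  nab : ∃ u v : H, u * v ≠ v * u
  normal : ∀ k ∈ E, ∀ u ∈ H, k * u * k⁻¹ ∈ H
  comm : ∀ x ∈ E, ∀ y ∈ E, x * y = y * x
  odd : Odd (Nat.card E)
  central : ∀ x : H, x * x = 1 → x ∈ Subgroup.center H
  trans : ∀ x y : H, x ≠ 1 → x * x = 1 → y ≠ 1 → y * y = 1 → ∃ k ∈ E, k * (x : G) * k⁻¹ = y
  fpf : ∀ k ∈ E, k ≠ 1 → ∀ u ∈ H, k * u * k⁻¹ = u → u = 1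
  two : ∃ x y : H, x ≠ y ∧ x ≠ 1 ∧ x * x = 1 ∧ y ≠ 1 ∧ y * y = 1
  card_sq : Nat.card H = (Nat.card E + 1) ^ 2

namespace SzKern

variable {H E : Subgroup G}

/-- Conjugation on the kernel. -/
def conjH (C : SzKern H E) : E →* MulAut H where
  toFun k :=
    { toFun := fun u => ⟨(k : G) * u * (k : G)⁻¹, C.normal k k.2 u u.2⟩
      invFun := fun u => ⟨(k : G)⁻¹ * u * k, by
        simpa using C.normal (k : G)⁻¹ (inv_mem k.2) u u.2⟩
      left_inv := fun u => Subtype.ext (by simp [mul_assoc])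
      right_inv := fun u => Subtype.ext (by simp [mul_assoc])
      map_mul' := fun u v => Subtype.ext (by simp [mul_assoc]) }
  map_one' := MulEquiv.ext fun u => Subtype.ext (by simp)
  map_mul' k l := MulEquiv.ext fun u => Subtype.ext (by simp [mul_assoc])

theorem conjH_coe (C : SzKern H E) (k : E) (u : H) :
    ((C.conjH k u : H) : G) = k * u * (k : G)⁻¹ := rfl

theorem conjH_ne (C : SzKern H E) {k : E} (hk : k ≠ 1) {u : H} (hu : C.conjH k u = u) : u = 1 :=
  Subtype.ext (C.fpf k k.2 (fun h => hk (Subtype.ext h)) u u.2 (congrArg Subtype.val hu))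

/-- The automorphisms induced on the kernel. -/
def autE (C : SzKern H E) : Subgroup (MulAut H) := C.conjH.range

theorem autE_comm (C : SzKern H E) : ∀ x y : C.autE, x * y = y * x := by
  rintro ⟨-, k, rfl⟩ ⟨-, l, rfl⟩
  apply Subtype.ext
  show C.conjH k * C.conjH l = C.conjH l * C.conjH k
  rw [← map_mul, ← map_mul]
  exact congrArg _ (Subtype.ext (C.comm k k.2 l l.2))

/-- Those automorphisms commute. -/
@[reducible] def autCommGroup (C : SzKern H E) : CommGroup C.autE :=
  { (inferInstance : Group C.autE) with mul_comm := C.autE_comm }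

theorem involTrans (C : SzKern H E) :
    letI := C.autCommGroup
    Cfsg.Lib.SuzukiTwo.InvolTrans C.autE.subtype := by
  letI := C.autCommGroup
  refine ⟨C.central, fun x y hx hx2 hy hy2 => ?_⟩
  obtain ⟨k, hk, h⟩ := C.trans x y hx hx2 hy hy2
  exact ⟨⟨C.conjH ⟨k, hk⟩, ⟨k, hk⟩, rfl⟩, Subtype.ext h⟩

theorem center_iff [Finite G] (C : SzKern H E) (x : H) : x ∈ Subgroup.center H ↔ x * x = 1 := by
  letI := C.autCommGroup
  exact ⟨fun hx => Cfsg.Lib.SuzukiTwo.center_sq_eq_one C.p2 C.involTrans C.nab x hx, C.central x⟩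

theorem card_center [Finite G] (C : SzKern H E) : Nat.card (Subgroup.center H) = Nat.card E + 1 := by
  classical
  obtain ⟨x₀, -, -, hx1, hx2, -, -⟩ := C.two
  have hc : ∀ k : E, C.conjH k x₀ ∈ Subgroup.center H := fun k => by
    rw [C.center_iff, ← map_mul, hx2, map_one]
  let f : Option E → Subgroup.center H := fun o => match o with
    | none => 1
    | some k => ⟨C.conjH k x₀, hc k⟩
  have hne : ∀ k : E, C.conjH k x₀ ≠ 1 := fun k h => hx1 ((C.conjH k).injective (h.trans (map_one _).symm))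
  have hf : Function.Bijective f := by
    refine ⟨fun u v h => ?_, fun z => ?_⟩
    · rcases u with _ | k <;> rcases v with _ | l
      · rfl
      · exact absurd (congrArg Subtype.val h).symm (hne l)
      · exact absurd (congrArg Subtype.val h) (hne k)
      · have h' : C.conjH k x₀ = C.conjH l x₀ := congrArg Subtype.val h
        by_contra hkl
        refine hx1 (C.conjH_ne (k := l⁻¹ * k) (fun e => hkl (congrArg some (inv_mul_eq_one.mp e).symm)) ?_)
        rw [map_mul, MulAut.mul_apply, h', ← MulAut.mul_apply, ← map_mul, inv_mul_cancel, map_one]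
        rfl
    · by_cases hz : z = 1
      · exact ⟨none, hz.symm⟩
      · obtain ⟨k, hk, h⟩ := C.trans x₀ z hx1 hx2 (fun e => hz (Subtype.ext e)) ((C.center_iff _).mp z.2)
        exact ⟨some ⟨k, hk⟩, Subtype.ext (Subtype.ext h)⟩
  rw [← Nat.card_eq_of_bijective f hf, Finite.card_option]

end SzKern

variable {Ω : Type v} [Finite G] [MulAction G Ω] {a : Ω} {t : G} {Q : Subgroup G}

theorem qNum_two_pow (S : Simple G Ω a t Q) : ∃ n : ℕ, qNum G a = 2 ^ n := by
  haveI := S.faithful
  have hp : IsPGroup 2 (involGroup S.setup S.two) := fun u => ⟨1, by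
    rw [pow_one, pow_two]
    exact Subtype.ext (involGroup_sq S.setup S.two u.2)⟩
  obtain ⟨n, hn⟩ := IsPGroup.iff_card.mp hp
  refine ⟨n, ?_⟩
  rw [← hn]
  have e : Nat.card (involGroup S.setup S.two) = ((insert 1 (invl G a) : Set G)).ncard := by
    rw [← Nat.card_coe_set_eq]
    exact Nat.card_congr (Equiv.subtypeEquivRight fun u => by
      rw [mem_involGroup]
      exact Iff.rfl)
  rw [e, Set.ncard_insert_of_notMem (fun h => h.2.1 rfl) (Set.toFinite _), ← Nat.card_coe_set_eq]
  rfl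

/-- The inverted elements act on `Q` as required. -/
theorem exists_szKern (S : Simple G Ω a t Q) (hn : Nat.card Q = qNum G a ^ 2) (hna : NonAb Q) :
    ∃ E : Subgroup G, (E : Set G) = invK Ω a t ∧ E ≤ twoStab Ω a t ∧ SzKern Q E ∧
      Nat.card E + 1 = qNum G a := by
  haveI := S.faithful
  obtain ⟨E, hE, hcyc, hEn⟩ := inverted_subgroup S.setup S.two
  have hmem : ∀ k, k ∈ E ↔ k ∈ invK Ω a t := fun k => Set.ext_iff.1 hE k
  have hle : E ≤ twoStab Ω a t := fun k hk => ((hmem k).1 hk).1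
  have hcard : Nat.card E + 1 = qNum G a := by
    have h1 : Nat.card E = Nat.card (invK Ω a t) := Nat.card_congr (Equiv.setCongr hE)
    rw [h1, show Nat.card (invK Ω a t) = Nat.card (invl G a) from swap_card S.setup]
    rfl
  refine ⟨E, hE, hle, ?_, hcard⟩
  obtain ⟨n, hq⟩ := qNum_two_pow S
  have hin : ∀ x : Q, x ≠ 1 → x * x = 1 → (x : G) ∈ invl G a := fun x hx1 hx2 =>
    ⟨S.setup.le x.2, fun h => hx1 (Subtype.ext h), congrArg Subtype.val hx2⟩
  constructor
  · exact IsPGroup.of_card (n := n * 2) (by rw [hn, hq, ← pow_mul])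
  · obtain ⟨x, hx, y, hy, hxy⟩ := hna
    exact ⟨⟨x, hx⟩, ⟨y, hy⟩, fun h => hxy (congrArg Subtype.val h)⟩
  · exact fun k hk u hu => S.setup.conj_mem k (Subgroup.mem_inf.1 (hle hk)).1 u hu
  · exact fun x hx y hy =>
      congrArg Subtype.val (hcyc.isMulCommutative.is_comm.comm (⟨x, hx⟩ : E) ⟨y, hy⟩)
  · exact Odd.of_dvd_nat S.setup.odd_card (Subgroup.card_dvd_of_le hle)
  · intro x hx
    by_cases hx1 : x = 1
    · rw [hx1]; exact one_mem _
    exact Subgroup.mem_center_iff.2 fun u =>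
      Subtype.ext ((invol_central S.setup S.two (hin x hx1 hx)).2 u u.2).symm
  · intro x y hx hx2 hy hy2
    obtain ⟨k, hk, h⟩ := conj_surj S.setup (hin x hx hx2) (hin y hy hy2)
    exact ⟨k⁻¹, inv_mem ((hmem k).2 hk), by rw [inv_inv]; exact h⟩
  · intro k hk hk1 u hu hfix
    have h := cent_inverted S.setup ((hmem k).1 hk) hk1
    rw [← Subgroup.mem_bot, ← h]
    exact Subgroup.mem_inf.2 ⟨hu, Subgroup.mem_centralizer_singleton_iff.2 (mul_inv_eq_iff_eq_mul.1 hfix).symm⟩
  · have h4 : 3 ≤ qNum G a := by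
      obtain ⟨x, y, hx1, hy1, hxy, hx2, hy2, hc⟩ := S.two
      obtain ⟨p, hp⟩ := exists_fix S.setup hx2
      have hyp : y • p = p := commute_fix S.setup hx1 hx2 hc.symm hp
      obtain ⟨g, hg⟩ := trans₁ S.setup p a
      have hj : ∀ z, z ≠ 1 → z * z = 1 → z • p = p → g * z * g⁻¹ ∈ invl G a := fun z hz1 hz2 hz => by
        refine ⟨?_, fun e => hz1 (conj_eq_one_iff.mp e), ?_⟩
        · show (g * z * g⁻¹) • a = a
          rw [← hg, mul_smul, mul_smul, inv_smul_smul, hz]
        · rw [show g * z * g⁻¹ * (g * z * g⁻¹) = g * (z * z) * g⁻¹ by group, hz2]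
          group
      have h2 : 1 < Nat.card (invl G a) := Finite.one_lt_card_iff_nontrivial.mpr
        ⟨⟨⟨_, hj x hx1 hx2 hp⟩, ⟨_, hj y hy1 hy2 hyp⟩, fun e =>
          hxy (mul_left_cancel (mul_right_cancel (congrArg Subtype.val e)))⟩⟩
      unfold qNum
      omega
    have h2 : 1 < Nat.card (invl G a) := by unfold qNum at h4; omega
    obtain ⟨⟨x, hx⟩, ⟨y, hy⟩, hxy⟩ := (Finite.one_lt_card_iff_nontrivial.mp h2).exists_pair_ne
    refine ⟨⟨x, inv_mem_Q S.setup hx.1 hx.2.2⟩, ⟨y, inv_mem_Q S.setup hy.1 hy.2.2⟩,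
      fun e => hxy (Subtype.ext (congrArg Subtype.val e :)), fun e => hx.2.1 (congrArg Subtype.val e),
      Subtype.ext hx.2.2, fun e => hy.2.1 (congrArg Subtype.val e), Subtype.ext hy.2.2⟩
  · rw [hcard]
    exact hn

end Cfsg.Lib.BenderSuzuki
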