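import Cfsg.Agent.BenderSuzuki.SzCoords
import Cfsg.Agent.BenderSuzuki.Steps

/-!
# The swapping involution satisfies the relations of the Suzuki model
-/

set_option autoImplicit false
set_option linter.unusedSectionVars false
set_option linter.style.haveILetI false

namespace Cfsg.Lib.SuzukiUnique.Rel

variable {F : Type} [Field F] [Fintype F] [CharP F 2] {φ : F ≃+* F} {f : F × F → F × F} {β k : F}

/-- The parameter is zero or one, with no condition on the field. -/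
theorem beta_zero_or_one (h : Rel φ f β k) (hφ : φ ≠ RingEquiv.refl F) : β = 0 ∨ β = 1 := by
  obtain ⟨A, hA⟩ : ∃ A, φ A ≠ A := by
    by_contra hno
    push Not at hno
    exact hφ (RingEquiv.ext hno)
  by_cases hb : β = 0
  · exact Or.inl hb
  right
  by_contra hb1
  obtain ⟨B, hB⟩ := (frobeniusEquiv F 2).surjective A
  rw [frobeniusEquiv_apply, frobenius_def] at hB
  have hgood : ∀ A, φ A ≠ A → A ≠ 0 ∧ 1 + A ≠ 0 ∧ A + φ A ≠ 0 := fun A hA =>
    ⟨fun e => hA (by rw [e, map_zero]), fun e => hA (by rw [← CharTwo.add_eq_zero.1 e, map_one]),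
      fun e => hA (CharTwo.add_eq_zero.1 e).symm⟩
  have hroot : ∀ A, φ A ≠ A → β * ((A + φ A) * (1 + A ^ 2 + φ A)) = A + A ^ 2 := by
    intro A hA
    obtain ⟨h0, h1, h2⟩ := hgood A hA
    have e := (h.quad h0 h1 h2).resolve_left hb
    have hfac : (β + 1) * (β * ((A + φ A) * (1 + A ^ 2 + φ A)) + (A + A ^ 2)) = 0 := by grind
    exact CharTwo.add_eq_zero.1 ((mul_eq_zero.1 hfac).resolve_left fun e => hb1 (CharTwo.add_eq_zero.1 e))
  obtain ⟨h0, h1, h2⟩ := hgood A hA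
  have hBne : φ B ≠ B := fun e => hA (by rw [← hB, map_pow, e])
  have e1 := hroot A hA
  have e2 := congrArg (fun x => x ^ 2) (hroot B hBne)
  simp only [mul_pow, CharTwo.add_sq, one_pow] at e2
  rw [← map_pow, hB] at e2
  have hN : A + A ^ 2 ≠ 0 := by
    rw [show A + A ^ 2 = A * (1 + A) by ring]
    exact mul_ne_zero h0 h1
  have h3 : (β ^ 2 + β) * ((A + φ A) * (1 + A ^ 2 + φ A)) = 0 := by grind
  rcases mul_eq_zero.1 h3 with e | e
  · have h4 : β * (β + 1) = 0 := by linear_combination e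
    rcases mul_eq_zero.1 h4 with e' | e'
    · exact hb e'
    · exact hb1 (CharTwo.add_eq_zero.1 e')
  · rw [e, mul_zero] at e1
    exact hN e1.symm

end Cfsg.Lib.SuzukiUnique.Rel

namespace Cfsg.Lib.BenderSuzuki

open MulAction Cfsg.Lib.RankOne
open Cfsg.Lib.SuzukiUnique

universe u v

variable {G : Type u} {Ω : Type v} [Group G] [Finite G] [MulAction G Ω]

/-- A rank one group with `¬ CaseL` and coordinates on `Q` and on the inverted elements. -/
structure SzFrame (a : Ω) (t : G) (Q E : Subgroup G) (F : Type) [Field F] (φ : F ≃+* F) (ι : F × F → G)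
    (κ : Fˣ →* G) : Prop where
  simple : Simple G Ω a t Q
  notL : ¬ CaseL a t Q
  inv_eq : (E : Set G) = invK Ω a t
  co : Coords Q E F φ ι κ

variable {a : Ω} {t : G} {Q E : Subgroup G}
variable {F : Type} [Field F] [Fintype F] [CharP F 2] {φ : F ≃+* F} {ι : F × F → G} {κ : Fˣ →* G}

namespace SzFrame

variable (K : SzFrame a t Q E F φ ι κ)
include K

theorem S : Cfsg.IsRankOneSetup G Ω a t Q := K.simple.setup

theorem ι_zero : ι 0 = 1 := by
  have h1 := K.co.ι_mul 0 0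
  rw [star_zero_left] at h1
  exact (left_eq_mul.mp h1)

theorem κ_inv (k : Fˣ) : κ k ∈ invK Ω a t := (Set.ext_iff.1 K.inv_eq _).1 (K.co.κ_mem k)

theorem κ_exists {x : G} (hx : x ∈ invK Ω a t) : ∃ k, κ k = x :=
  K.co.κ_surj x ((Set.ext_iff.1 K.inv_eq x).2 hx)

theorem ι_a (p : F × F) : ι p • a = a := fix_a K.S (K.co.ι_mem p)

theorem κ_a (k : Fˣ) : κ k • a = a := (Subgroup.mem_inf.1 (K.κ_inv k).1).1

theorem κ_b (k : Fˣ) : κ k • t • a = t • a := (Subgroup.mem_inf.1 (K.κ_inv k).1).2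

theorem pt_ne_a (p : F × F) : ι p • t • a ≠ a := fun h =>
  ta_ne K.S (MulAction.injective (ι p) (h.trans (K.ι_a p).symm))

theorem pt_inj {p q : F × F} (h : ι p • t • a = ι q • t • a) : p = q := by
  obtain ⟨w, -, hw⟩ := regular K.S (ta_ne K.S) (K.pt_ne_a q)
  exact K.co.ι_inj (congrArg Subtype.val ((hw ⟨ι p, K.co.ι_mem p⟩ h).trans (hw ⟨ι q, K.co.ι_mem q⟩ rfl).symm))

theorem pt_zero : ι 0 • t • a = t • a := by rw [K.ι_zero, one_smul]

theorem pt_surj (x : Ω) (hx : x ≠ a) : ∃ p, ι p • t • a = x := by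
  obtain ⟨⟨u, hu⟩, hub, -⟩ := regular K.S (ta_ne K.S) hx
  obtain ⟨p, rfl⟩ := K.co.ι_surj u hu
  exact ⟨p, hub⟩

theorem pt_act (k : Fˣ) (p : F × F) : κ k • ι p • t • a = ι (act φ (k : F) p) • t • a := by
  rw [← K.co.conj, mul_smul, mul_smul, inv_smul_eq_iff.mpr (K.κ_b k).symm]

theorem pt_star (p q : F × F) : ι p • ι q • t • a = ι (SuzukiUnique.star φ p q) • t • a := by rw [K.co.ι_mul, mul_smul]

theorem ι_inv (p : F × F) : (ι p)⁻¹ = ι (pinv φ p) :=
  inv_eq_of_mul_eq_one_right (by rw [← K.co.ι_mul, star_pinv, K.ι_zero])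

theorem t_conj (k : Fˣ) : t * κ k * t = κ k⁻¹ := by
  rw [map_inv, ← (K.κ_inv k).2, t_inv K.S]

theorem swap_spec (k₀ : Fˣ) : (κ k₀ * t) • a = t • a ∧ (κ k₀ * t) • t • a = a ∧
    κ k₀ * t * (κ k₀ * t) = 1 ∧ ∀ k, κ k₀ * t * κ k * (κ k₀ * t) = κ k⁻¹ := by
  refine ⟨by rw [mul_smul, K.κ_b], by rw [mul_smul, t_ta K.S, K.κ_a], ?_, fun k => ?_⟩
  · rw [show κ k₀ * t * (κ k₀ * t) = κ k₀ * (t * κ k₀ * t) by simp only [mul_assoc], K.t_conj, ← map_mul,
      mul_inv_cancel, map_one]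
  · rw [show κ k₀ * t * κ k * (κ k₀ * t) = κ k₀ * (t * κ (k * k₀) * t) by rw [map_mul]; simp only [mul_assoc],
      K.t_conj, ← map_mul]
    exact congrArg κ (by rw [mul_inv_rev, mul_inv_cancel_left])

/-- The map induced by a swapping involution. -/
theorem exists_swap (k₀ : Fˣ) :
    ∃ f : F × F → F × F, (∀ p, p ≠ 0 → f p ≠ 0) ∧
      (∀ p, p ≠ 0 → (κ k₀ * t) • ι p • t • a = ι (f p) • t • a) ∧
      (∀ p, p ≠ 0 → f (f p) = p) ∧ ∀ l p, l ≠ 0 → p ≠ 0 → f (act φ l p) = act φ l⁻¹ (f p) := by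
  obtain ⟨hwa, hwb, hw, hwk⟩ := K.swap_spec k₀
  generalize κ k₀ * t = w at hwa hwb hw hwk ⊢
  have hsurj : ∀ p : F × F, p ≠ 0 → ∃ q, ι q • t • a = w • ι p • t • a := fun p hp =>
    K.pt_surj _ fun h' => hp (by
      exact K.pt_inj ((MulAction.injective w (h'.trans hwb.symm)).trans K.pt_zero.symm))
  classical
  choose q hq using hsurj
  refine ⟨fun p => if hp : p ≠ 0 then q p hp else 0, ?_⟩
  set f : F × F → F × F := fun p => if hp : p ≠ 0 then q p hp else 0 with hf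
  have hfp : ∀ p, p ≠ 0 → w • ι p • t • a = ι (f p) • t • a := fun p hp => by
    rw [hf]
    simp only [dif_pos hp]
    exact (hq p hp).symm
  have hne : ∀ p, p ≠ 0 → f p ≠ 0 := fun p hp h0 => K.pt_ne_a p (by
    have h1 := hfp p hp
    rw [h0, K.pt_zero] at h1
    exact MulAction.injective w (h1.trans hwa.symm))
  refine ⟨hne, hfp, fun p hp => K.pt_inj ?_, fun l p hl hp => K.pt_inj ?_⟩
  · rw [← hfp _ (hne p hp), ← hfp p hp, ← mul_smul, hw, one_smul]
  · rw [← hfp _ (act_ne_zero hl hp), ← Units.val_mk0 hl, ← K.pt_act (Units.mk0 l hl) p,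
      ← Units.val_inv_eq_inv_val, ← K.pt_act, ← hfp p hp, ← hwk, mul_smul, mul_smul, ← mul_smul w w, hw, one_smul]

/-- A swapping involution for which the image of the unit central pair has first coordinate one. -/
theorem exists_normal_swap :
    ∃ (k₀ : Fˣ) (f : F × F → F × F), (∀ p, p ≠ 0 → f p ≠ 0) ∧
      (∀ p, p ≠ 0 → (κ k₀ * t) • ι p • t • a = ι (f p) • t • a) ∧
      (∀ p, p ≠ 0 → f (f p) = p) ∧ (∀ l p, l ≠ 0 → p ≠ 0 → f (act φ l p) = act φ l⁻¹ (f p)) ∧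
      (f (0, 1)).1 = 1 := by
  obtain ⟨f, hne, hfp, hinv, heq⟩ := K.exists_swap 1
  have hz : ((0 : F), (1 : F)) ≠ 0 := fun e' => one_ne_zero (congrArg Prod.snd e')
  obtain ⟨⟨s, r⟩, ⟨hs, hr, he⟩, -⟩ := partner K.S
  simp only at hs hr he
  have hpsurj : ∀ y : F, ∃ x, psi φ x = y := Finite.surjective_of_injective (fun x x' e' => by
    by_cases hx : x' = 0
    · subst hx
      exact psi_eq_zero (e'.trans psi_zero)
    have := K.co.inj (x * x'⁻¹) (by rw [psi_mul, psi_inv, e', mul_inv_cancel₀ (psi_ne_zero hx)])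
    rwa [mul_inv_eq_one₀ hx] at this)
  have hsq : ∀ p : F × F, ι p * ι p = 1 ↔ p.1 = 0 := fun p => by
    rw [← K.co.ι_mul, ← K.ι_zero, K.co.ι_inj.eq_iff]
    refine ⟨fun e => psi_eq_zero (φ := φ) ?_, fun e => ?_⟩
    · have := congrArg Prod.snd e
      simp only [SuzukiUnique.star, CharTwo.add_self_eq_zero, zero_add, Prod.snd_zero] at this
      rw [psi, mul_comm]
      exact this
    · refine Prod.ext ?_ ?_ <;> simp [SuzukiUnique.star, e, CharTwo.add_self_eq_zero]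
  obtain ⟨q, hq⟩ := K.co.ι_surj s (inv_mem_Q K.S hs.1 hs.2.2)
  obtain ⟨rp, hrp⟩ := K.co.ι_surj r hr
  have hq1 : q.1 = 0 := (hsq q).1 (by rw [hq]; exact hs.2.2)
  have hq0 : q ≠ 0 := fun e => hs.2.1 (by rw [← hq, e, K.ι_zero])
  obtain ⟨l, hl⟩ := hpsurj q.2
  have hl0 : l ≠ 0 := fun e => hq0 (Prod.ext hq1 (by rw [← hl, e, psi_zero]; rfl))
  have hql : q = act φ l (0, 1) := by
    refine Prod.ext ?_ ?_
    · simp [act, hq1]
    · simp [act, hl]
  have hc : (f (0, 1)).1 ≠ 0 := by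
    intro h0
    have h1 := hfp q hq0
    rw [map_one, one_mul, hq, ← mul_smul, ← mul_smul, he, mul_smul, mul_smul, fix_a K.S hr,
      ← hrp, K.ι_inv] at h1
    have h2 := congrArg Prod.fst (K.pt_inj h1)
    rw [hql, heq l _ hl0 hz] at h2
    have h3 : rp.1 = 0 := by
      simp only [pinv, act, h0, mul_zero] at h2
      exact h2
    exact K.notL ⟨s, hs, r, hr, by rw [← hrp]; exact (hsq rp).2 h3, he⟩
  set k := (Units.mk0 _ hc)⁻¹ with hk
  obtain ⟨f', hne', hfp', hinv', heq'⟩ := K.exists_swap k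
  refine ⟨k, f', hne', hfp', hinv', heq', ?_⟩
  have h1 := hfp' _ hz
  have h2 := hfp _ hz
  rw [map_one, one_mul] at h2
  rw [mul_smul, h2, K.pt_act] at h1
  rw [← K.pt_inj h1, hk]
  simp [act, inv_mul_cancel₀ hc]

/-- The relations. -/
theorem exists_rel :
    ∃ (k₀ : Fˣ) (f : F × F → F × F) (β k : F),
      (∀ p, p ≠ 0 → (κ k₀ * t) • ι p • t • a = ι (f p) • t • a) ∧ Rel φ f β k := by
  obtain ⟨k₀, f, hne, hfp, hinv, heq, h1⟩ := K.exists_normal_swap
  obtain ⟨hwa, hwb, hw, hwk⟩ := K.swap_spec k₀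
  set β := (f (0, 1)).2
  have hz : ((0 : F), (1 : F)) ≠ 0 := fun e' => one_ne_zero (congrArg Prod.snd e')
  have hfz : f (0, 1) = (1, β) := Prod.ext h1 rfl
  set w := κ k₀ * t with hwdef
  set c : F × F := (1, β)
  set g := w * ι (0, 1) * w with hg
  have h2 : ι (0, 1) * ι (0, 1) = (1 : G) := by
    rw [← K.co.ι_mul, ← K.ι_zero]
    refine congrArg ι ?_
    simp [SuzukiUnique.star, CharTwo.add_self_eq_zero]
  have hg2 : g * g = 1 := by
    rw [hg, show w * ι (0, 1) * w * (w * ι (0, 1) * w) = w * ι (0, 1) * (w * w) * ι (0, 1) * w by group, hw,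
      mul_one, mul_assoc w, h2, mul_one, hw]
  have hga : g • a = ι c • t • a := by rw [hg, mul_smul, mul_smul, hwa, hfp _ hz, hfz]
  set j := (ι c)⁻¹ * g * ι c with hj
  have hja : j • a = t • a := by rw [hj, mul_smul, mul_smul, K.ι_a, hga, inv_smul_smul]
  have hj2 : j * j = 1 := by
    rw [hj, show (ι c)⁻¹ * g * ι c * ((ι c)⁻¹ * g * ι c) = (ι c)⁻¹ * (g * g) * ι c by group, hg2, mul_one,
      inv_mul_cancel]
  have hj1 : j ≠ 1 := fun e => ta_ne K.S (by rw [← hja, e, one_smul])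
  obtain ⟨x, hx, hxj⟩ := (swap_iff K.S).1 ⟨hj1, hj2, hja⟩
  obtain ⟨k', rfl⟩ := K.κ_exists hx
  have hgeq : g = ι c * κ (k' * k₀⁻¹) * w * (ι c)⁻¹ := by
    rw [show ι c * κ (k' * k₀⁻¹) * w * (ι c)⁻¹ = ι c * j * (ι c)⁻¹ by
      rw [hxj, hwdef, map_mul, map_inv]
      group, hj]
    group
  refine ⟨k₀, f, β, ((k' * k₀⁻¹ : Fˣ) : F), hfp,
    ⟨K.co.inj, Units.ne_zero _, hne, hinv, heq, hfz, fun p hp hpc => ?_⟩⟩
  have hs1 : SuzukiUnique.star φ (pinv φ c) p ≠ 0 := fun e' => hpc (by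
    have := congrArg (SuzukiUnique.star φ c) e'
    rw [← star_assoc, star_pinv, star_zero_left] at this
    rw [this]
    simp [c, SuzukiUnique.star])
  have e1 : g • ι p • t • a =
      ι (SuzukiUnique.star φ c (act φ ((k' * k₀⁻¹ : Fˣ) : F) (f (SuzukiUnique.star φ (pinv φ c) p)))) • t • a := by
    rw [hgeq, mul_smul, mul_smul, mul_smul, K.ι_inv, K.pt_star, hfp _ hs1, K.pt_act, K.pt_star]
  have hs2 : SuzukiUnique.star φ (0, 1) (f p) ≠ 0 := fun e' => by
    have e2 : g • ι p • t • a = a := by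
      rw [hg, mul_smul, mul_smul, hfp p hp, K.pt_star, e', K.pt_zero, hwb]
    exact K.pt_ne_a _ (e1.symm.trans e2)
  refine K.pt_inj (Eq.trans ?_ e1)
  rw [hg, mul_smul, mul_smul, hfp p hp, K.pt_star, hfp _ hs2]

/-- The coordinates belonging to the inverse automorphism. -/
theorem flip : SzFrame a t Q E F φ.symm (fun p => ι (φ.symm p.1, p.2 + psi φ (φ.symm p.1)))
    (κ.comp (Units.map (φ.symm : F →* F))) := by
  refine ⟨K.simple, K.notL, K.inv_eq, ?_⟩
  have C := K.co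
  have hΦ : ∀ p : F × F, ∃ q : F × F, (φ.symm q.1, q.2 + psi φ (φ.symm q.1)) = p := fun p =>
    ⟨(φ p.1, p.2 + psi φ p.1), by simp [add_assoc, CharTwo.add_self_eq_zero]⟩
  refine ⟨fun x hx => ?_, fun e' => C.ne_refl ?_, ?_, fun p => C.ι_mem _, fun p q e' => ?_, fun u hu => ?_,
    fun p q => ?_, fun k => C.κ_mem _, fun k l e' => ?_, fun s hs => ?_, fun k p => ?_⟩
  · have h1 : psi φ (φ.symm x) = 1 := by
      rw [← hx]
      simp [psi, mul_comm]
    have := congrArg φ (C.inj _ h1)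
    simpa using this
  · rw [← φ.symm_symm, e']
    rfl
  · show Odd (orderOf (φ⁻¹ : F ≃+* F))
    rw [orderOf_inv]
    exact C.odd
  · have h1 := C.ι_inj e'
    have h2 : p.1 = q.1 := φ.symm.injective (congrArg Prod.fst h1)
    refine Prod.ext h2 ?_
    have h3 := congrArg Prod.snd h1
    simp only [h2] at h3
    exact add_right_cancel h3
  · obtain ⟨p, rfl⟩ := C.ι_surj u hu
    obtain ⟨q, hq⟩ := hΦ p
    exact ⟨q, congrArg ι hq⟩
  · rw [← C.ι_mul]
    refine congrArg ι ?_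
    simp only [SuzukiUnique.star, psi, map_add, RingEquiv.apply_symm_apply, Prod.mk.injEq, true_and]
    grind
  · exact Units.map_injective (f := (φ.symm : F →* F)) φ.symm.injective (C.κ_inj e')
  · obtain ⟨k, rfl⟩ := C.κ_surj s hs
    refine ⟨Units.map (φ : F →* F) k, congrArg κ (Units.ext ?_)⟩
    exact φ.symm_apply_apply (k : F)
  · show κ _ * ι _ * (κ _)⁻¹ = _
    rw [C.conj]
    refine congrArg ι ?_
    simp only [act, psi, map_mul, RingEquiv.apply_symm_apply, Units.coe_map, MonoidHom.coe_coe, Prod.mk.injEq,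
      true_and]
    ring

end SzFrame

/-- Coordinates in which the parameter of the relations is zero. -/
theorem SzFrame.exists_zero (K : SzFrame a t Q E F φ ι κ) :
    ∃ (φ : F ≃+* F) (ι : F × F → G) (κ : Fˣ →* G) (k₀ : Fˣ) (f : F × F → F × F) (k : F),
      SzFrame a t Q E F φ ι κ ∧ (∀ p, p ≠ 0 → (κ k₀ * t) • ι p • t • a = ι (f p) • t • a) ∧ Rel φ f 0 k := by
  obtain ⟨k₀, f, β, k, hfp, R⟩ := K.exists_rel
  rcases R.beta_zero_or_one K.co.ne_refl with rfl | rfl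
  · exact ⟨φ, ι, κ, k₀, f, k, K, hfp, R⟩
  have K' := K.flip
  obtain ⟨k₀', f', β', k', hfp', R'⟩ := K'.exists_rel
  rcases R'.beta_zero_or_one K'.co.ne_refl with rfl | rfl
  · exact ⟨φ.symm, _, _, k₀', f', k', K', hfp', R'⟩
  exfalso
  set ι' : F × F → G := fun p => ι (φ.symm p.1, p.2 + psi φ (φ.symm p.1))
  have hz : ((0 : F), (1 : F)) ≠ 0 := fun e' => one_ne_zero (congrArg Prod.snd e')
  set m := Units.map (φ.symm : F →* F) k₀' * k₀⁻¹ with hm
  have hww : (κ.comp (Units.map (φ.symm : F →* F))) k₀' * t = κ m * (κ k₀ * t) := by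
    rw [MonoidHom.comp_apply, hm, map_mul, map_inv]
    group
  have e1 : ι' (0, 1) = ι (0, 1) := by simp [ι', psi]
  have e2 : ι' ((1 : F), (1 : F)) = ι (1, 0) := by simp [ι', psi, CharTwo.add_self_eq_zero]
  have h1 := hfp' _ hz
  rw [R'.fz] at h1
  change _ • ι' (0, 1) • t • a = ι' (1, 1) • t • a at h1
  rw [e1, e2, hww, mul_smul, hfp _ hz, R.fz, K.pt_act] at h1
  have h2 := congrArg Prod.snd (K.pt_inj h1)
  simp only [act, mul_one] at h2
  exact psi_ne_zero m.ne_zero h2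

end Cfsg.Lib.BenderSuzuki
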